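import Mathlib
import Cfsg.Prelude.Def_Transfer
import Cfsg.Agent.Lib.Cores

/-!
Core-free maximal subgroups and minimal normal subgroups.
-/

set_option autoImplicit false

namespace Cfsg.Agent.Lib.Solvable.Primitive

open Cfsg.Agent.Lib

variable {G : Type*} [Group G]

theorem normal_of_sup_eq_top {X Y K : Subgroup G} (h : X ⊔ Y = ⊤)
    (hX : X ≤ Subgroup.normalizer (K : Set G)) (hY : Y ≤ Subgroup.normalizer (K : Set G)) :
    K.Normal :=
  Subgroup.normalizer_eq_top_iff.mp (top_le_iff.mp (h.ge.trans (sup_le hX hY)))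

theorem le_normalizer_of_le_centralizer {N K : Subgroup G}
    (h : K ≤ Subgroup.centralizer (N : Set G)) : N ≤ Subgroup.normalizer (K : Set G) :=
  (Subgroup.le_centralizer_iff.mp h).trans fun n hn => by
    rw [Subgroup.mem_normalizer_iff]
    intro x
    have comm : ∀ y ∈ K, n * y * n⁻¹ = y := fun y hy => by
      rw [← (Subgroup.mem_centralizer_iff.mp hn y hy)]; group
    refine ⟨fun hx => by rw [comm x hx]; exact hx, fun hx => ?_⟩
    have h1 := comm _ hx
    have : n * x * n⁻¹ = x := by
      have h2 : n⁻¹ * (n * (n * x * n⁻¹) * n⁻¹) * n = n⁻¹ * (n * x * n⁻¹) * n := by rw [h1]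
      simpa [mul_assoc] using h2
    rwa [this] at hx

variable {U : Subgroup G}

theorem sup_eq_top (hU : IsCoatom U) (hcore : U.normalCore = ⊥) {N : Subgroup G} [N.Normal]
    (hN : N ≠ ⊥) : N ⊔ U = ⊤ :=
  hU.2 _ (lt_of_le_of_ne le_sup_right fun e =>
    hN (le_bot_iff.mp (hcore ▸ Subgroup.normal_le_normalCore.mpr (le_sup_left.trans e.ge))))

theorem centralizer_inf_eq_bot (hU : IsCoatom U) (hcore : U.normalCore = ⊥) {N : Subgroup G}
    [N.Normal] (hN : N ≠ ⊥) : Subgroup.centralizer (N : Set G) ⊓ U = ⊥ := by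
  have h1 : (Subgroup.centralizer (N : Set G) ⊓ U).Normal := by
    refine normal_of_sup_eq_top (sup_eq_top hU hcore hN)
      (le_normalizer_of_le_centralizer inf_le_left) fun u hu => ?_
    rw [Subgroup.mem_normalizer_iff]
    intro x
    simp only [Subgroup.mem_inf]
    refine and_congr ?_ ?_
    · exact ⟨fun hx => Subgroup.Normal.conj_mem inferInstance x hx u,
        fun hx => by simpa [mul_assoc] using Subgroup.Normal.conj_mem inferInstance _ hx u⁻¹⟩
    · exact Subgroup.mem_normalizer_iff.mp (Subgroup.le_normalizer hu) x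
  exact le_bot_iff.mp (hcore ▸ (@Subgroup.normal_le_normalCore _ _ _ _ h1).mpr inf_le_right)

theorem eq_centralizer_of_le (hU : IsCoatom U) (hcore : U.normalCore = ⊥) {N : Subgroup G}
    [N.Normal] (hN : N ≠ ⊥) {K : Subgroup G} [K.Normal] (hK : K ≠ ⊥)
    (hle : K ≤ Subgroup.centralizer (N : Set G)) : K = Subgroup.centralizer (N : Set G) := by
  refine le_antisymm hle fun c hc => ?_
  have h1 : c ∈ K ⊔ U := by rw [sup_eq_top hU hcore hK]; trivial
  obtain ⟨k, hk, u, hu, rfl⟩ := Subgroup.mem_sup_of_normal_left.mp h1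
  have h2 : u ∈ Subgroup.centralizer (N : Set G) ⊓ U :=
    ⟨by simpa [← mul_assoc] using mul_mem (inv_mem (hle hk)) hc, hu⟩
  rw [centralizer_inf_eq_bot hU hcore hN, Subgroup.mem_bot] at h2
  simpa [h2] using hk

/-- An abelian normal subgroup is complemented by a core-free maximal subgroup. -/
theorem isComplement'_of_abelian [Finite G] (hU : IsCoatom U) (hcore : U.normalCore = ⊥)
    {N : Subgroup G} [N.Normal] (hN : N ≠ ⊥) (hab : N ≤ Subgroup.centralizer (N : Set G)) :
    Subgroup.centralizer (N : Set G) = N ∧ Subgroup.IsComplement' N U := by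
  have hC := (eq_centralizer_of_le hU hcore hN hN hab).symm
  refine ⟨hC, Subgroup.isComplement'_of_disjoint_and_mul_eq_univ
    (disjoint_iff.mpr ?_) ?_⟩
  · have := centralizer_inf_eq_bot hU hcore hN
    rwa [hC] at this
  · rw [← Subgroup.normal_mul, sup_eq_top hU hcore hN, Subgroup.coe_top]

theorem le_centralizer_of_minimal [Finite G] {M : Subgroup G} [M.Normal]
    [Group.IsSolvable M] (hM : M ≠ ⊥)
    (hmin : ∀ K : Subgroup G, K.Normal → K ≤ M → K = ⊥ ∨ K = M) :
    M ≤ Subgroup.centralizer (M : Set G) := by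
  haveI := (Subgroup.nontrivial_iff_ne_bot M).mpr hM
  rw [← Subgroup.commutator_eq_bot_iff_le_centralizer]
  refine (hmin _ inferInstance (Subgroup.commutator_le_right M M)).resolve_right fun e => ?_
  have h1 := Group.IsSolvable.commutator_lt_top_of_nontrivial M
  refine h1.ne (Subgroup.map_injective M.subtype_injective ?_)
  rw [Subgroup.map_subtype_commutator, e, ← MonoidHom.range_eq_map, Subgroup.range_subtype]

/-- A minimal abelian normal subgroup is elementary abelian. -/
theorem exists_isElementaryAbelian [Finite G] {M : Subgroup G} [M.Normal] (hM : M ≠ ⊥)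
    (hmin : ∀ K : Subgroup G, K.Normal → K ≤ M → K = ⊥ ∨ K = M)
    (hab : M ≤ Subgroup.centralizer (M : Set G)) {p : ℕ} (hp : p.Prime) (hpM : p ∣ Nat.card M) :
    Cfsg.IsElementaryAbelian p M ∧ ∃ d, 0 < d ∧ Nat.card M = p ^ d := by
  haveI := Fact.mk hp
  haveI hcomm : IsMulCommutative M :=
    ⟨⟨fun a b => Subtype.ext (Subgroup.mem_centralizer_iff.mp (hab b.2) a a.2)⟩⟩
  let W : Subgroup G :=
    { carrier := {x | x ∈ M ∧ x ^ p = 1}
      one_mem' := ⟨one_mem _, one_pow p⟩
      mul_mem' := fun {a b} ha hb => ⟨mul_mem ha.1 hb.1, by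
        have hc : Commute a b := Subgroup.mem_centralizer_iff.mp (hab hb.1) a ha.1
        rw [hc.mul_pow, ha.2, hb.2, mul_one]⟩
      inv_mem' := fun {a} ha => ⟨inv_mem ha.1, by rw [inv_pow, ha.2, inv_one]⟩ }
  have hWn : W.Normal := ⟨fun x hx g => ⟨Subgroup.Normal.conj_mem inferInstance x hx.1 g, by
    rw [conj_pow, hx.2, mul_one, mul_inv_cancel]⟩⟩
  have hW : W = M := by
    refine (hmin W hWn fun x hx => hx.1).resolve_left fun e => ?_
    obtain ⟨x, hx⟩ := exists_prime_orderOf_dvd_card' p hpM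
    have h1 : (x : G) ∈ W := ⟨x.2, by rw [← SubmonoidClass.coe_pow, ← hx, pow_orderOf_eq_one]; rfl⟩
    rw [e, Subgroup.mem_bot, ← OneMemClass.coe_one M, Subtype.coe_inj] at h1
    rw [h1, orderOf_one] at hx
    exact hp.ne_one hx.symm
  have hexp : ∀ a ∈ M, a ^ p = 1 := fun a ha => by rw [← hW] at ha; exact ha.2
  refine ⟨⟨hcomm, hexp⟩, ?_⟩
  obtain ⟨d, hd⟩ := IsPGroup.iff_card.mp
    (show IsPGroup p M from fun a => ⟨1, Subtype.ext (by simpa using hexp a a.2)⟩)
  refine ⟨d, Nat.pos_of_ne_zero fun h0 => ?_, hd⟩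
  rw [h0, pow_zero] at hd
  exact hM (Subgroup.card_eq_one.mp hd)

section Action

variable {Ω : Type*} [MulAction G Ω] [FaithfulSMul G Ω]

theorem normalCore_stabilizer_eq_bot [MulAction.IsPretransitive G Ω] (ω : Ω) :
    (MulAction.stabilizer G ω).normalCore = ⊥ := by
  refine (Subgroup.eq_bot_iff_forall _).mpr fun x hx => eq_of_smul_eq_smul (α := Ω) fun a => ?_
  obtain ⟨g, rfl⟩ := MulAction.exists_smul_eq G ω a
  have h1 : g⁻¹ * x * g ∈ MulAction.stabilizer G ω := by
    simpa using Subgroup.normalCore_le _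
      ((Subgroup.normalCore_normal _).conj_mem x hx g⁻¹)
  rw [MulAction.mem_stabilizer_iff, mul_smul, mul_smul, inv_smul_eq_iff] at h1
  rw [one_smul, h1]

theorem nontrivial_of_faithful [Nontrivial G] : Nontrivial Ω := by
  by_contra h
  rw [not_nontrivial_iff_subsingleton] at h
  obtain ⟨a, b, hab⟩ := exists_pair_ne G
  exact hab (eq_of_smul_eq_smul (α := Ω) fun x => Subsingleton.elim _ _)

/-- Solvable primitive groups. -/
theorem primitive_solvable [Finite G] [Group.IsSolvable G] (hprim : MulAction.IsPreprimitive G Ω)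
    (M : Subgroup G) [M.Normal] (hM : M ≠ ⊥)
    (hmin : ∀ K : Subgroup G, K.Normal → K ≤ M → K = ⊥ ∨ K = M) (ω : Ω) :
    Subgroup.IsComplement' M (MulAction.stabilizer G ω) ∧
      MulAction.stabilizer G ω ⊓ Subgroup.centralizer (M : Set G) = ⊥ ∧
      ∀ K : Subgroup G, K ≤ M → MulAction.stabilizer G ω ≤ Subgroup.normalizer (K : Set G) →
        K = ⊥ ∨ K = M := by
  haveI := hprim
  haveI : Nontrivial G := by
    by_contra h
    rw [not_nontrivial_iff_subsingleton] at h
    exact hM (Subsingleton.elim _ _)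
  haveI := nontrivial_of_faithful (G := G) (Ω := Ω)
  have hU := MulAction.IsPreprimitive.isCoatom_stabilizer_of_isPreprimitive G ω
  have hcore := normalCore_stabilizer_eq_bot (G := G) ω
  have hab := le_centralizer_of_minimal hM hmin
  obtain ⟨hC, hcompl⟩ := isComplement'_of_abelian hU hcore hM hab
  refine ⟨hcompl, by rw [inf_comm]; exact centralizer_inf_eq_bot hU hcore hM, fun K hK hn => ?_⟩
  exact hmin K (normal_of_sup_eq_top (sup_eq_top hU hcore hM)
    (le_normalizer_of_le_centralizer (hK.trans hab)) hn) hK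

end Action

/-- The `p`-core of a group with a core-free maximal subgroup. -/
theorem pCore_structure [Finite G] (p : ℕ) [Fact p.Prime] (hL : Cfsg.pCore p G ≠ ⊥)
    (hU : IsCoatom U) (hcore : U.normalCore = ⊥) :
    Cfsg.IsElementaryAbelian p (Cfsg.pCore p G) ∧ Subgroup.IsComplement' (Cfsg.pCore p G) U ∧
      (∀ K : Subgroup G, K.Normal → K ≤ Cfsg.pCore p G → K = ⊥ ∨ K = Cfsg.pCore p G) ∧
      Subgroup.centralizer ((Cfsg.pCore p G : Subgroup G) : Set G) = Cfsg.pCore p G ∧
      ∀ (q : ℕ) [Fact q.Prime], Cfsg.pCore q ↥U ≠ ⊥ →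
        Nat.card (Cfsg.pCore p G) % q = 1 % q ∧ q ≠ p := by
  classical
  set L := Cfsg.pCore p G with hLdef
  haveI : L.Normal := inferInstance
  have hLp := Cores.pCore_isPGroup p G
  haveI := (Subgroup.nontrivial_iff_ne_bot L).mpr hL
  -- the center of `L`
  set Z := (Subgroup.center L).map L.subtype with hZ
  have hZC : Z ≤ Subgroup.centralizer (L : Set G) := by
    rintro _ ⟨z, hz, rfl⟩
    exact Subgroup.mem_centralizer_iff.mpr fun l hl =>
      congrArg Subtype.val (Subgroup.mem_center_iff.mp hz ⟨l, hl⟩)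
  have hZne : Z ≠ ⊥ := by
    rw [hZ, Ne, Subgroup.map_eq_bot_iff_of_injective _ L.subtype_injective]
    haveI := hLp.center_nontrivial
    exact (Subgroup.nontrivial_iff_ne_bot _).mp inferInstance
  have hZC' := eq_centralizer_of_le hU hcore hL hZne hZC
  have hCL : Subgroup.centralizer (L : Set G) ≤ L := hZC' ▸ Subgroup.map_subtype_le _
  have hCne : Subgroup.centralizer (L : Set G) ≠ ⊥ := hZC' ▸ hZne
  have hCtop : Subgroup.centralizer (L : Set G) ⊔ U = ⊤ := sup_eq_top hU hcore hCne
  have hinf : L ⊓ U = ⊥ := by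
    have h1 : (L ⊓ U).Normal := by
      refine normal_of_sup_eq_top hCtop ?_ fun u hu => ?_
      · exact le_normalizer_of_le_centralizer (inf_le_left.trans (Subgroup.le_centralizer_iff.mp le_rfl))
      rw [Subgroup.mem_normalizer_iff]
      intro x
      simp only [Subgroup.mem_inf]
      refine and_congr ?_ ?_
      · exact ⟨fun hx => Subgroup.Normal.conj_mem inferInstance x hx u,
          fun hx => by simpa [mul_assoc] using Subgroup.Normal.conj_mem inferInstance _ hx u⁻¹⟩
      · exact Subgroup.mem_normalizer_iff.mp (Subgroup.le_normalizer hu) x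
    exact le_bot_iff.mp (hcore ▸ (@Subgroup.normal_le_normalCore _ _ _ _ h1).mpr inf_le_right)
  have hC : Subgroup.centralizer (L : Set G) = L := by
    refine le_antisymm hCL fun l hl => ?_
    have h1 : l ∈ Subgroup.centralizer (L : Set G) ⊔ U := by rw [hCtop]; trivial
    obtain ⟨c, hc, u, hu, rfl⟩ := Subgroup.mem_sup_of_normal_left.mp h1
    have h2 : u ∈ L ⊓ U := ⟨by simpa [← mul_assoc] using mul_mem (inv_mem (hCL hc)) hl, hu⟩
    rw [hinf, Subgroup.mem_bot] at h2
    simpa [h2] using hc
  have hmin : ∀ K : Subgroup G, K.Normal → K ≤ L → K = ⊥ ∨ K = L := fun K hK hle => by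
    refine or_iff_not_imp_left.mpr fun hne => ?_
    have := hK
    exact (eq_centralizer_of_le hU hcore hL hne (hC.symm ▸ hle)).trans hC
  obtain ⟨hel, -⟩ := exists_isElementaryAbelian hL hmin hC.ge (Fact.out : p.Prime)
    (hLp.card_eq_or_dvd.resolve_left fun h => hL (Subgroup.card_eq_one.mp h))
  refine ⟨hel, (isComplement'_of_abelian hU hcore hL hC.ge).2, hmin, hC, fun q _ hq => ?_⟩
  set Q := (Cfsg.pCore q ↥U).map U.subtype with hQ
  have hQne : Q ≠ ⊥ := by rwa [hQ, Ne, Subgroup.map_eq_bot_iff_of_injective _ U.subtype_injective]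
  have hQp : IsPGroup q Q := (Cores.pCore_isPGroup q U).map U.subtype
  have hQU : Q ≤ U := Subgroup.map_subtype_le _
  have hUQ : U ≤ Subgroup.normalizer (Q : Set G) :=
    Subgroup.le_normalizer.trans (Cores.normalizer_le_normalizer_map_subtype U _)
  have hQL : ¬ Q ≤ L := fun h => hQne (le_bot_iff.mp (hinf ▸ le_inf h hQU))
  have hqp : q ≠ p := by
    rintro rfl
    apply hQL
    refine le_sup_right.trans (Cores.le_pCore (N := L ⊔ Q) ?_ ?_)
    · refine normal_of_sup_eq_top (sup_eq_top hU hcore hL)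
        ((le_sup_left : L ≤ L ⊔ Q).trans Subgroup.le_normalizer) fun u hu => ?_
      rw [Subgroup.mem_normalizer_iff_map_conj_eq, Subgroup.map_sup]
      rw [Subgroup.mem_normalizer_iff_map_conj_eq.mp (hUQ hu),
        Subgroup.mem_normalizer_iff_map_conj_eq.mp
          (show u ∈ Subgroup.normalizer (L : Set G) by rw [Subgroup.normalizer_eq_top_iff.mpr ‹_›]; trivial)]
    · exact hLp.to_sup_of_normal_left hQp
  refine ⟨?_, hqp⟩
  let act : MulAction Q L := MulAction.compHom L ((MulAut.conjNormal (H := L)).comp Q.subtype)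
  have hfix : MulAction.fixedPoints Q L = {1} := by
    ext l
    simp only [Set.mem_singleton_iff, MulAction.mem_fixedPoints]
    refine ⟨fun h => ?_, fun h g => ?_⟩
    · let F : Subgroup G := L ⊓ Subgroup.centralizer (Q : Set G)
      have hl : (l : G) ∈ F := ⟨l.2, Subgroup.mem_centralizer_iff.mpr fun x hx => by
        have h1 := congrArg Subtype.val (h ⟨x, hx⟩)
        change (MulAut.conjNormal x l : G) = l at h1
        rw [MulAut.conjNormal_apply] at h1
        exact mul_inv_eq_iff_eq_mul.mp h1⟩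
      have hCQ : ∀ u ∈ Subgroup.normalizer (Q : Set G), ∀ x ∈ Subgroup.centralizer (Q : Set G),
          u * x * u⁻¹ ∈ Subgroup.centralizer (Q : Set G) := by
        intro u hu x hx
        refine Subgroup.mem_centralizer_iff.mpr fun g hg => ?_
        have h1 := (Subgroup.mem_normalizer_iff.mp (inv_mem hu) g).mp hg
        rw [inv_inv] at h1
        have h2 := Subgroup.mem_centralizer_iff.mp hx _ h1
        calc g * (u * x * u⁻¹) = u * ((u⁻¹ * g * u) * x) * u⁻¹ := by group
          _ = u * (x * (u⁻¹ * g * u)) * u⁻¹ := by rw [h2]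
          _ = u * x * u⁻¹ * g := by group
      have hFU : U ≤ Subgroup.normalizer (F : Set G) := fun u hu => by
        rw [Subgroup.mem_normalizer_iff]
        refine fun x => ⟨fun hx => ⟨Subgroup.Normal.conj_mem inferInstance x hx.1 u, hCQ u (hUQ hu) x hx.2⟩,
          fun hx => ⟨by simpa [mul_assoc] using Subgroup.Normal.conj_mem inferInstance _ hx.1 u⁻¹,
            by simpa [mul_assoc] using hCQ u⁻¹ (inv_mem (hUQ hu)) _ hx.2⟩⟩
      rcases hmin F (normal_of_sup_eq_top (sup_eq_top hU hcore hL)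
        (le_normalizer_of_le_centralizer (inf_le_left.trans hC.ge))
        hFU) inf_le_left with e | e
      · rw [e, Subgroup.mem_bot] at hl
        exact Subtype.ext hl
      · exact absurd (((inf_eq_left.mp e : L ≤ Subgroup.centralizer (Q : Set G)))) fun h' =>
          hQL ((Subgroup.le_centralizer_iff.mp h').trans hC.le)
    · subst h
      exact map_one (MulAut.conjNormal (H := L) (g : G))
  have h1 := hQp.card_modEq_card_fixedPoints (α := L)
  rw [hfix, Nat.card_coe_set_eq {(1 : L)}, Set.ncard_singleton] at h1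
  exact h1

end Cfsg.Agent.Lib.Solvable.Primitive
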