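import Cfsg.Agent.Lib.Solvable.SystemNormalizer
import Cfsg.Agent.Lib.Solvable.Primitive
import Cfsg.Agent.S1459
import Mathlib.GroupTheory.SchurZassenhaus

/-!
Carter subgroups of finite solvable groups and their relation to system normalizers.
-/

set_option autoImplicit false

open Pointwise

namespace Cfsg.Agent.Lib.Solvable.Carter

open Cfsg.Agent.Lib

universe u

variable {G : Type u} [Group G] [Finite G]

theorem eq_top_of_nilpotent [hG : Group.IsNilpotent G] {C : Subgroup G}
    (hC : Subgroup.normalizer (C : Set G) = C) : C = ⊤ := by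
  by_contra h
  exact (Group.normalizerCondition_of_isNilpotent C (lt_top_iff_ne_top.mpr h)).ne hC.symm

theorem isNilpotent_map {G' : Type*} [Group G'] (f : G →* G') {C : Subgroup G}
    (hC : Group.IsNilpotent C) : Group.IsNilpotent (C.map f) :=
  Group.nilpotent_of_surjective (f.subgroupMap C) (f.subgroupMap_surjective C)

theorem isCarter_conj (g : G) {C : Subgroup G} (hC : Cfsg.IsCarterSubgroup C) :
    Cfsg.IsCarterSubgroup (MulAut.conj g • C) := by
  refine ⟨isNilpotent_map (MulAut.conj g).toMonoidHom hC.1, le_antisymm (fun x hx => ?_) Subgroup.le_normalizer⟩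
  rw [Coprime.mem_conj_smul, ← hC.2]
  refine Coprime.mem_normalizer_of_conj_smul_eq ?_
  have h1 := Coprime.conj_smul_eq_of_mem_normalizer hx
  have h2 := congrArg (fun S => MulAut.conj g⁻¹ • S) h1
  rw [← Coprime.conj_mul_smul, ← Coprime.conj_mul_smul, ← Coprime.conj_mul_smul, inv_mul_cancel,
    Coprime.conj_one_smul] at h2
  exact h2

theorem isCarter_subgroupOf {C X : Subgroup G} (hC : Cfsg.IsCarterSubgroup C) (h : C ≤ X) :
    Cfsg.IsCarterSubgroup (C.subgroupOf X) := by
  refine ⟨?_, le_antisymm (fun x hx => ?_) Subgroup.le_normalizer⟩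
  · haveI := hC.1
    exact Group.nilpotent_of_surjective (Subgroup.subgroupOfEquivOfLe h).symm.toMonoidHom
      (MulEquiv.surjective _)
  · rw [Subgroup.mem_subgroupOf, ← hC.2, Subgroup.mem_normalizer_iff]
    intro y
    refine ⟨fun hy => ?_, fun hy => ?_⟩
    · exact (Subgroup.mem_normalizer_iff.mp hx ⟨y, h hy⟩).mp hy
    · have hyX : y ∈ X := by
        have := mul_mem (mul_mem (inv_mem x.2) (h hy)) x.2
        simpa [mul_assoc] using this
      exact (Subgroup.mem_normalizer_iff.mp hx ⟨y, hyX⟩).mpr hy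

theorem exists_minimal_normal [Group.IsSolvable G] [Nontrivial G] :
    ∃ (p : ℕ) (N : Subgroup G), p.Prime ∧ N.Normal ∧ N ≠ ⊥ ∧ IsMulCommutative N ∧ IsPGroup p N ∧
      ∀ K : Subgroup G, K.Normal → K ≤ N → K = ⊥ ∨ K = N := by
  have hfin : Finite {K : Subgroup G // K.Normal ∧ K ≠ ⊥} := inferInstance
  haveI : Nonempty {K : Subgroup G // K.Normal ∧ K ≠ ⊥} := ⟨⟨⊤, inferInstance, top_ne_bot⟩⟩
  obtain ⟨⟨M, hMn, hM0⟩, hmin⟩ :=
    Finite.exists_min (fun K : {K : Subgroup G // K.Normal ∧ K ≠ ⊥} => Nat.card K.1)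
  haveI := hMn
  obtain ⟨p, N, hp, hNn, hN0, hNM, hNc, hNp, -⟩ := Coprime.exists_normal_abelian_pgroup_le hM0 inferInstance
  refine ⟨p, N, hp, hNn, hN0, hNc, hNp, fun K hK hKN => ?_⟩
  by_cases hK0 : K = ⊥
  · exact Or.inl hK0
  · exact Or.inr (Coprime.eq_of_le_of_card_le hKN ((Nat.le_of_dvd Nat.card_pos
      (Subgroup.card_dvd_of_le hNM)).trans (hmin ⟨K, hK, hK0⟩)))

theorem card_quotient_lt {N : Subgroup G} (hN : N ≠ ⊥) : Nat.card (G ⧸ N) < Nat.card G := by
  rw [Subgroup.card_eq_card_quotient_mul_card_subgroup N]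
  exact lt_mul_of_one_lt_right Nat.card_pos (N.one_lt_card_iff_ne_bot.mpr hN)

theorem le_comap_mk (N : Subgroup G) [N.Normal] (X : Subgroup (G ⧸ N)) :
    N ≤ X.comap (QuotientGroup.mk' N) := fun x hx => by
  show QuotientGroup.mk' N x ∈ X
  rw [show QuotientGroup.mk' N x = 1 from (QuotientGroup.eq_one_iff x).mpr hx]
  exact one_mem _

theorem card_lt_of_ne_top {X : Subgroup G} (h : X ≠ ⊤) : Nat.card X < Nat.card G :=
  lt_of_le_of_ne X.card_le_card_group fun e => h (Subgroup.eq_top_of_card_eq _ e)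

theorem not_dvd_card_of_index {p : ℕ} (hp : p.Prime) {Q : Subgroup G}
    (hQ : Q.index = p ^ (Nat.card G).factorization p) : ¬ p ∣ Nat.card Q := by
  intro hd
  have h1 := congrArg (fun m : ℕ => m.factorization p) Q.card_mul_index
  rw [hQ, Nat.factorization_mul Nat.card_pos.ne' (pow_ne_zero _ hp.ne_zero), Finsupp.add_apply,
    hp.factorization_pow, Finsupp.single_eq_same] at h1
  have h3 : 0 < (Nat.card Q).factorization p := hp.factorization_pos_of_dvd Nat.card_pos.ne' hd
  omega

theorem centralizer_elements {N : Subgroup G} (hNc : IsMulCommutative N) :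
    N ≤ Subgroup.centralizer (N : Set G) := fun x hx => Subgroup.mem_centralizer_iff.mpr
  fun y hy => congrArg Subtype.val (hNc.is_comm.comm ⟨y, hy⟩ ⟨x, hx⟩)

/-- An abelian normal subgroup supplementing a subgroup meets it in a normal subgroup. -/
theorem inf_normal_of_sup {N M : Subgroup G} [N.Normal] (hNc : IsMulCommutative N) (hsup : N ⊔ M = ⊤) :
    (N ⊓ M).Normal := by
  refine Primitive.normal_of_sup_eq_top hsup
    (Primitive.le_normalizer_of_le_centralizer (inf_le_left.trans (centralizer_elements hNc))) fun m hm => ?_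
  refine Coprime.mem_normalizer_of_conj_smul_eq ?_
  rw [Subgroup.smul_inf, Coprime.conj_smul_eq_of_mem_normalizer (H := N)
    (by rw [Subgroup.normalizer_eq_top]; trivial),
    Coprime.conj_smul_eq_of_mem_normalizer (Subgroup.le_normalizer hm)]

/-- A nilpotent self-normalizing complement of a minimal normal `p`-subgroup is the normalizer of a
Hall `p`-complement. -/
theorem complement_case [Group.IsSolvable G] {p : ℕ} (hp : p.Prime) (N : Subgroup G) [N.Normal]
    (hN0 : N ≠ ⊥) (hNc : IsMulCommutative N) (hNp : IsPGroup p N)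
    (hmin : ∀ K : Subgroup G, K.Normal → K ≤ N → K = ⊥ ∨ K = N) {C : Subgroup G}
    (hC : Cfsg.IsCarterSubgroup C) (hd : N ⊓ C = ⊥) (hs : N ⊔ C = ⊤) :
    ∃ Q : Subgroup G, Q ≤ C ∧ Q.index = p ^ (Nat.card G).factorization p ∧
      Subgroup.normalizer (Q : Set G) = C := by
  haveI := Fact.mk hp
  haveI := hC.1
  obtain ⟨S⟩ : Nonempty (Sylow p C) := inferInstance
  haveI hSn : (S : Subgroup C).Normal :=
    Sylow.normal_of_normalizerCondition Group.normalizerCondition_of_isNilpotent S
  obtain ⟨Q', hQ'⟩ := Subgroup.exists_right_complement'_of_coprime (N := (S : Subgroup C)) S.card_coprime_index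
  set Q := Q'.map C.subtype with hQ
  have hQC : Q ≤ C := Subgroup.map_subtype_le _
  obtain ⟨l, hl⟩ := IsPGroup.iff_card.mp hNp
  have hCi : C.index = p ^ l := by
    have h1 := Coprime.card_sup_mul_card_inf (N := N) (H := C) Subgroup.le_normalizer_of_normal
    rw [hd, hs, Subgroup.card_bot, mul_one, Subgroup.card_top, ← C.card_mul_index, mul_comm (Nat.card N)] at h1
    rw [Nat.eq_of_mul_eq_mul_left Nat.card_pos h1, hl]
  have hQi : Q.index = p ^ (Nat.card G).factorization p := by
    have h1 : Q.index = Nat.card (S : Subgroup C) * p ^ l := by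
      rw [hQ, Subgroup.index_map_subtype, hCi, hQ'.index_eq_card]
    have h3 : ¬ p ∣ Nat.card Q := by
      rw [hQ, Subgroup.card_map_of_injective C.subtype_injective, ← hQ'.symm.index_eq_card]
      exact S.not_dvd_index
    rw [h1, S.card_eq_multiplicity, ← pow_add]
    congr 1
    have h2 := congrArg (fun m : ℕ => m.factorization p) Q.card_mul_index
    rw [h1, S.card_eq_multiplicity, ← pow_add, Nat.factorization_mul Nat.card_pos.ne' (pow_ne_zero _ hp.ne_zero),
      Finsupp.add_apply, hp.factorization_pow, Finsupp.single_eq_same,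
      Nat.factorization_eq_zero_of_not_dvd h3, zero_add] at h2
    exact h2
  refine ⟨Q, hQC, hQi, ?_⟩
  have hCQ : C ≤ Subgroup.normalizer (Q : Set G) := by
    haveI : Q'.Normal := Subgroup.normalizer_eq_top_iff.mp (by
      by_contra hne
      have hH : Nat.card Q' = (S : Subgroup C).index := hQ'.symm.index_eq_card.symm
      exact hne (eq_top_iff.mpr fun c _ => Subgroup.mem_normalizer_iff.mpr fun y => by
        have key : ∀ c y : C, y ∈ Q' → c * y * c⁻¹ ∈ Q' := by
          intro c y hy
          obtain ⟨⟨⟨a, ha⟩, ⟨b, hb⟩⟩, hab⟩ := hQ'.2 c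
          have hcomm : ∀ y ∈ Q', a * y = y * a := fun y hy =>
            Cfsg.Agent.S1459.commute_of_coprime_orderOf (N := C) a y (Nat.Coprime.coprime_dvd_left
              (Subgroup.orderOf_dvd_natCard _ ha) (Nat.Coprime.coprime_dvd_right
                (Subgroup.orderOf_dvd_natCard _ hy) (hH ▸ S.card_coprime_index)))
          have h1 : b * y * b⁻¹ ∈ Q' := mul_mem (mul_mem hb hy) (inv_mem hb)
          rw [← hab]
          show a * b * y * (a * b)⁻¹ ∈ Q'
          rw [show a * b * y * (a * b)⁻¹ = a * (b * y * b⁻¹) * a⁻¹ by group, hcomm _ h1, mul_inv_cancel_right]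
          exact h1
        refine ⟨key c y, fun h => ?_⟩
        have := key c⁻¹ _ h
        simpa [mul_assoc] using this))
    intro c hc
    refine Coprime.mem_normalizer_of_conj_smul_eq (Coprime.eq_of_le_of_card_le (fun x hx => ?_)
      (Coprime.card_conj_smul _ _).ge)
    obtain ⟨y, hy, hyx⟩ := Coprime.mem_conj_smul.mp hx
    refine ⟨⟨c, hc⟩ * y * ⟨c, hc⟩⁻¹, (‹Q'.Normal›).conj_mem y hy _, ?_⟩
    simp only [Subgroup.coe_subtype, Subgroup.coe_mul, Subgroup.coe_inv] at hyx ⊢
    rw [hyx]; group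
  refine le_antisymm (fun g hg => ?_) hCQ
  obtain ⟨a, ha, c, hc, rfl⟩ := Subgroup.mem_sup_of_normal_left.mp (show g ∈ N ⊔ C by rw [hs]; trivial)
  have haQ : a ∈ Subgroup.normalizer (Q : Set G) := by simpa using mul_mem hg (inv_mem (hCQ hc))
  suffices a = 1 by rw [this, one_mul]; exact hc
  by_contra ha1
  -- then `Q` would be normal
  have hW : (N ⊓ Subgroup.normalizer (Q : Set G)).Normal :=
    inf_normal_of_sup hNc (top_le_iff.mp (hs.ge.trans (sup_le_sup_left hCQ _)))
  have hNQ : N ≤ Subgroup.normalizer (Q : Set G) := by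
    rcases hmin _ hW inf_le_left with h | h
    · exact absurd (Subgroup.mem_bot.mp (h ▸ ⟨ha, haQ⟩ : a ∈ (⊥ : Subgroup G))) ha1
    · exact inf_eq_left.mp h
  haveI hQn : Q.Normal := Primitive.normal_of_sup_eq_top hs hNQ hCQ
  have hNQc : ∀ x ∈ N, ∀ y ∈ Q, x * y = y * x := fun x hx y hy =>
    (Subgroup.commute_of_normal_of_disjoint N Q inferInstance hQn
      (disjoint_iff.mpr (le_bot_iff.mp ((inf_le_inf_left N hQC).trans hd.le))) x y hx hy).eq
  -- and the Sylow subgroup of `C` centralizes `N`
  set P := (S : Subgroup C).map C.subtype with hP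
  have hPN : P ≤ Subgroup.centralizer (N : Set G) := by
    have hWp : IsPGroup p (P ⊔ N : Subgroup G) := (S.2.map _).to_sup_of_normal_right hNp
    haveI := hWp.isNilpotent
    have hne : N.subgroupOf (P ⊔ N) ≠ ⊥ := fun e => hN0 (by
      rw [← Subgroup.map_subgroupOf_eq_of_le (le_sup_right : N ≤ P ⊔ N), e, Subgroup.map_bot])
    obtain ⟨z, hz, hz1⟩ := (Subgroup.bot_or_exists_ne_one _).resolve_left (Solvable.inf_center_ne_bot hne)
    have hPn : (P ⊔ N).Normal := by
      refine Primitive.normal_of_sup_eq_top hs (le_sup_right.trans Subgroup.le_normalizer) fun c hc => ?_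
      refine Coprime.mem_normalizer_of_conj_smul_eq ?_
      rw [Subgroup.smul_sup, Coprime.conj_smul_eq_of_mem_normalizer (H := N)
        (by rw [Subgroup.normalizer_eq_top]; trivial),
        Coprime.conj_smul_eq_of_mem_normalizer (g := c) (H := P) ?_]
      refine Coprime.mem_normalizer_of_conj_smul_eq (Coprime.eq_of_le_of_card_le (fun x hx => ?_)
        (Coprime.card_conj_smul _ _).ge)
      obtain ⟨y, hy, hyx⟩ := Coprime.mem_conj_smul.mp hx
      refine ⟨⟨c, hc⟩ * y * ⟨c, hc⟩⁻¹, hSn.conj_mem y hy _, ?_⟩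
      simp only [Subgroup.coe_subtype, Subgroup.coe_mul, Subgroup.coe_inv] at hyx ⊢
      rw [hyx]; group
    haveI := hPn
    rcases hmin (N ⊓ Subgroup.centralizer ((P ⊔ N : Subgroup G) : Set G)) inferInstance inf_le_left with h | h
    · exfalso
      apply hz1
      have : (z : G) ∈ N ⊓ Subgroup.centralizer ((P ⊔ N : Subgroup G) : Set G) :=
        ⟨hz.1, Subgroup.mem_centralizer_iff.mpr fun y hy =>
          congrArg Subtype.val (Subgroup.mem_center_iff.mp hz.2 ⟨y, hy⟩)⟩
      rw [h, Subgroup.mem_bot] at this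
      exact Subtype.ext this
    · exact le_sup_left.trans (Subgroup.le_centralizer_iff.mp (h.ge.trans inf_le_right))
  -- so `N` is central and `G` is nilpotent
  have hNcen : N ≤ Subgroup.center G := by
    intro x hx
    refine Subgroup.mem_center_iff.mpr fun g => ?_
    obtain ⟨b, hb, c, hc, rfl⟩ := Subgroup.mem_sup_of_normal_left.mp (show g ∈ N ⊔ C by rw [hs]; trivial)
    obtain ⟨⟨⟨u, hu⟩, ⟨v, hv⟩⟩, huv⟩ := hQ'.2 ⟨c, hc⟩
    have hc' : c = (u : G) * v := (congrArg Subtype.val huv).symm
    have e1 : b * x = x * b := congrArg Subtype.val (hNc.is_comm.comm ⟨b, hb⟩ ⟨x, hx⟩)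
    have e2 : x * (u : G) = u * x := Subgroup.mem_centralizer_iff.mp (hPN ⟨u, hu, rfl⟩) x hx
    have e3 : x * (v : G) = v * x := hNQc x hx v ⟨v, hv, rfl⟩
    calc b * c * x = b * u * (v * x) := by rw [hc']; group
      _ = b * (u * x) * v := by rw [← e3]; group
      _ = (b * x) * u * v := by rw [← e2]; group
      _ = x * (b * c) := by rw [e1, hc']; group
  haveI : Group.IsNilpotent (G ⧸ N) := by
    refine Group.nilpotent_of_surjective ((QuotientGroup.mk' N).comp C.subtype) fun q => ?_
    obtain ⟨x, rfl⟩ := QuotientGroup.mk'_surjective N q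
    obtain ⟨b, hb, c, hc, rfl⟩ := Subgroup.mem_sup_of_normal_left.mp (show x ∈ N ⊔ C by rw [hs]; trivial)
    refine ⟨⟨c, hc⟩, ?_⟩
    rw [map_mul, show QuotientGroup.mk' N b = 1 from (QuotientGroup.eq_one_iff b).mpr hb, one_mul]
    rfl
  haveI : Group.IsNilpotent G := Subgroup.isNilpotent_of_ker_le_center (QuotientGroup.mk' N)
    (by rw [QuotientGroup.ker_mk']; exact hNcen)
  have := eq_top_of_nilpotent hC.2
  rw [this, inf_top_eq] at hd
  exact hN0 hd

/-- Conjugacy inside a subgroup, from conjugacy in smaller groups. -/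
theorem conj_subgroup
    (IH : ∀ (H : Type u) [Group H] [Finite H], Nat.card H < Nat.card G → Group.IsSolvable H →
      ∀ C D : Subgroup H, Cfsg.IsCarterSubgroup C → Cfsg.IsCarterSubgroup D → ∃ h : H, MulAut.conj h • C = D)
    [Group.IsSolvable G] {X C D : Subgroup G} (hX : X ≠ ⊤) (hC : Cfsg.IsCarterSubgroup C)
    (hD : Cfsg.IsCarterSubgroup D) (hCX : C ≤ X) (hDX : D ≤ X) :
    ∃ x ∈ X, MulAut.conj x • C = D := by
  obtain ⟨x, hx⟩ := IH X (card_lt_of_ne_top hX) inferInstance _ _ (isCarter_subgroupOf hC hCX)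
    (isCarter_subgroupOf hD hDX)
  refine ⟨x, x.2, le_antisymm (fun y hy => ?_) fun y hy => ?_⟩
  · have h1 := Coprime.mem_conj_smul.mp hy
    have hyX : y ∈ X := by
      have := mul_mem (mul_mem x.2 (hCX h1)) (inv_mem x.2)
      simpa [mul_assoc] using this
    have h2 : (⟨y, hyX⟩ : X) ∈ MulAut.conj x • C.subgroupOf X := Coprime.mem_conj_smul.mpr h1
    rw [hx] at h2
    exact h2
  · have h2 : (⟨y, hDX hy⟩ : X) ∈ D.subgroupOf X := hy
    rw [← hx, Coprime.mem_conj_smul] at h2
    exact Coprime.mem_conj_smul.mpr h2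

/-- Images of Carter subgroups, from conjugacy in smaller groups. -/
theorem map_aux
    (IH : ∀ (H : Type u) [Group H] [Finite H], Nat.card H < Nat.card G → Group.IsSolvable H →
      ∀ C D : Subgroup H, Cfsg.IsCarterSubgroup C → Cfsg.IsCarterSubgroup D → ∃ h : H, MulAut.conj h • C = D)
    [Group.IsSolvable G] (N : Subgroup G) [N.Normal] {C : Subgroup G} (hC : Cfsg.IsCarterSubgroup C) :
    Cfsg.IsCarterSubgroup (C.map (QuotientGroup.mk' N)) := by
  refine ⟨isNilpotent_map _ hC.1, le_antisymm (fun q hq => ?_) Subgroup.le_normalizer⟩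
  obtain ⟨x, rfl⟩ := QuotientGroup.mk'_surjective N q
  have hmem : ∀ y : G, y ∈ C ⊔ N ↔ QuotientGroup.mk' N y ∈ C.map (QuotientGroup.mk' N) := by
    intro y
    rw [← Subgroup.mem_comap, Subgroup.comap_map_eq, QuotientGroup.ker_mk']
  by_cases hX : C ⊔ N = ⊤
  · exact (hmem x).mp (by rw [hX]; trivial)
  have hxC : MulAut.conj x • C ≤ C ⊔ N := by
    intro y hy
    rw [Coprime.mem_conj_smul] at hy
    rw [hmem]
    have h1 := (Subgroup.mem_normalizer_iff.mp hq (QuotientGroup.mk' N (x⁻¹ * y * x))).mp ⟨_, hy, rfl⟩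
    rw [← map_inv, ← map_mul, ← map_mul] at h1
    simpa [mul_assoc] using h1
  obtain ⟨z, hz, he⟩ := conj_subgroup IH hX hC (isCarter_conj x hC) le_sup_left hxC
  have h3 : z⁻¹ * x ∈ C := by
    rw [← hC.2]
    refine Coprime.mem_normalizer_of_conj_smul_eq ?_
    rw [Coprime.conj_mul_smul, ← he, ← Coprime.conj_mul_smul, inv_mul_cancel, Coprime.conj_one_smul]
  apply (hmem x).mp
  simpa using mul_mem hz (Subgroup.mem_sup_left h3 : _ ∈ C ⊔ N)

theorem map_normalizer_conj (g : G) (Q : Subgroup G) :
    MulAut.conj g • Subgroup.normalizer (Q : Set G) = Subgroup.normalizer ((MulAut.conj g • Q : Subgroup G) : Set G) :=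
  Subgroup.map_equiv_normalizer_eq Q (MulAut.conj g)

theorem conj_aux : ∀ (n : ℕ) (G : Type u) [Group G] [Finite G], Nat.card G = n → Group.IsSolvable G →
    ∀ C D : Subgroup G, Cfsg.IsCarterSubgroup C → Cfsg.IsCarterSubgroup D → ∃ g : G, MulAut.conj g • C = D := by
  intro n
  induction n using Nat.strongRecOn with
  | ind n ih =>
  intro G _ _ hn hs C D hC hD
  have IH : ∀ (H : Type u) [Group H] [Finite H], Nat.card H < Nat.card G → Group.IsSolvable H →
      ∀ C D : Subgroup H, Cfsg.IsCarterSubgroup C → Cfsg.IsCarterSubgroup D → ∃ h : H, MulAut.conj h • C = D :=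
    fun H _ _ hlt hsH => ih _ (hn ▸ hlt) H rfl hsH
  rcases subsingleton_or_nontrivial G with h | h
  · exact ⟨1, Subsingleton.elim _ _⟩
  obtain ⟨p, N, hp, hNn, hN0, hNc, hNp, hmin⟩ := exists_minimal_normal (G := G)
  haveI := hNn
  let π := QuotientGroup.mk' N
  obtain ⟨q, hq⟩ := IH (G ⧸ N) (card_quotient_lt hN0) inferInstance _ _ (map_aux IH N hC) (map_aux IH N hD)
  obtain ⟨g, rfl⟩ := QuotientGroup.mk'_surjective N q
  set C' := MulAut.conj g • C with hC'
  have hC'c := isCarter_conj g hC
  have heq : C' ⊔ N = D ⊔ N := by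
    have h1 := congrArg (Subgroup.comap π) hq
    rw [Subgroup.comap_map_eq, QuotientGroup.ker_mk'] at h1
    rw [← h1]
    refine le_antisymm (sup_le (fun y hy => ?_) fun y hy => ?_) fun y hy => ?_
    · rw [hC', Coprime.mem_conj_smul] at hy
      rw [Subgroup.mem_comap, Coprime.mem_conj_smul]
      exact ⟨_, hy, by simp [π]⟩
    · rw [Subgroup.mem_comap, show π y = 1 from (QuotientGroup.eq_one_iff y).mpr hy]
      exact one_mem _
    · rw [Subgroup.mem_comap, Coprime.mem_conj_smul] at hy
      obtain ⟨c, hc, hcy⟩ := hy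
      have h2 : g * c * g⁻¹ ∈ C' := by
        rw [hC', Coprime.mem_conj_smul]
        simpa [mul_assoc] using hc
      have h3 : (g * c * g⁻¹)⁻¹ * y ∈ N := by
        rw [← QuotientGroup.eq_one_iff]
        show QuotientGroup.mk' N _ = 1
        simp only [π] at hcy
        rw [map_mul, map_inv, map_mul, map_mul, hcy, map_inv]
        group
      have h4 := mul_mem (Subgroup.mem_sup_left h2 : _ ∈ C' ⊔ N) (Subgroup.mem_sup_right h3)
      rwa [mul_inv_cancel_left] at h4
  suffices ∃ x : G, MulAut.conj x • C' = D by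
    obtain ⟨x, hx⟩ := this
    exact ⟨x * g, by rw [Coprime.conj_mul_smul]; exact hx⟩
  by_cases hX : C' ⊔ N = ⊤
  swap
  · obtain ⟨x, -, hx⟩ := conj_subgroup IH hX hC'c hD le_sup_left (heq ▸ le_sup_left)
    exact ⟨x, hx⟩
  have htopc : ∀ E : Subgroup G, Cfsg.IsCarterSubgroup E → N ⊔ E = ⊤ → N ⊓ E ≠ ⊥ → Group.IsNilpotent G := by
    intro E hE hs hd
    have h1 := (hmin _ (inf_normal_of_sup hNc hs) inf_le_left).resolve_left hd
    rw [sup_eq_right.mpr (inf_eq_left.mp h1)] at hs
    subst hs
    haveI := hE.1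
    exact Group.nilpotent_of_surjective Subgroup.topEquiv.toMonoidHom (MulEquiv.surjective _)
  have hsC : N ⊔ C' = ⊤ := by rw [sup_comm, hX]
  have hsD : N ⊔ D = ⊤ := by rw [sup_comm, ← heq, hX]
  by_cases hnil : Group.IsNilpotent G
  · exact ⟨1, (Coprime.conj_one_smul C').trans
      ((eq_top_of_nilpotent hC'c.2).trans (eq_top_of_nilpotent hD.2).symm)⟩
  obtain ⟨Q, -, hQi, hQn⟩ := complement_case hp N hN0 hNc hNp hmin hC'c
    (by_contra fun hd => hnil (htopc _ hC'c hsC hd)) hsC
  obtain ⟨R, -, hRi, hRn⟩ := complement_case hp N hN0 hNc hNp hmin hD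
    (by_contra fun hd => hnil (htopc _ hD hsD hd)) hsD
  have hcard : Nat.card R = Nat.card Q := by
    refine Nat.eq_of_mul_eq_mul_right (Nat.pos_of_ne_zero R.index_ne_zero_of_finite) ?_
    rw [R.card_mul_index, hRi, ← hQi, Q.card_mul_index]
  obtain ⟨x, hx⟩ := Coprime.exists_conj_eq_of_solvable (G := G) (H := Q) (K := R) (by
    rw [hQi]; exact (Nat.Coprime.pow_right _ ((hp.coprime_iff_not_dvd.mpr (not_dvd_card_of_index hp hQi)).symm))) hcard
  exact ⟨x, (congrArg (fun S => MulAut.conj x • S) hQn.symm).trans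
    ((map_normalizer_conj x Q).trans (by rw [hx, hRn]))⟩

/-- Conjugacy of Carter subgroups. -/
theorem exists_conj [Group.IsSolvable G] {C D : Subgroup G} (hC : Cfsg.IsCarterSubgroup C)
    (hD : Cfsg.IsCarterSubgroup D) : ∃ g : G, MulAut.conj g • C = D :=
  conj_aux _ G rfl inferInstance C D hC hD

/-- The image of a Carter subgroup is a Carter subgroup. -/
theorem isCarter_map [Group.IsSolvable G] (N : Subgroup G) [N.Normal] {C : Subgroup G}
    (hC : Cfsg.IsCarterSubgroup C) : Cfsg.IsCarterSubgroup (C.map (QuotientGroup.mk' N)) :=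
  map_aux (fun H _ _ _ hs => conj_aux _ H rfl hs) N hC

/-- Existence of Carter subgroups. -/
theorem exists_carter : ∀ (n : ℕ) (G : Type u) [Group G] [Finite G], Nat.card G = n → Group.IsSolvable G →
    ∃ C : Subgroup G, Cfsg.IsCarterSubgroup C := by
  intro n
  induction n using Nat.strongRecOn with
  | ind n ih =>
  intro G _ _ hn hs
  by_cases hnil : Group.IsNilpotent G
  · exact ⟨⊤, inferInstance, by rw [Subgroup.coe_top]; exact top_le_iff.mp Subgroup.le_normalizer⟩
  haveI : Nontrivial G := by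
    by_contra h
    rw [not_nontrivial_iff_subsingleton] at h
    exact hnil inferInstance
  obtain ⟨p, N, hp, hNn, hN0, hNc, hNp, hmin⟩ := exists_minimal_normal (G := G)
  haveI := hNn
  obtain ⟨Cb, hCb⟩ := ih _ (hn ▸ card_quotient_lt hN0) (G ⧸ N) rfl inferInstance
  set X := Cb.comap (QuotientGroup.mk' N) with hX
  by_cases hXt : X = ⊤
  · -- the quotient is nilpotent
    have hCbt : Cb = ⊤ := by
      rw [← Subgroup.map_comap_eq_self_of_surjective (QuotientGroup.mk'_surjective N) Cb, ← hX, hXt,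
        Subgroup.map_top_of_surjective _ (QuotientGroup.mk'_surjective N)]
    have hQ : Group.IsNilpotent (G ⧸ N) := by
      have h1 := hCb.1
      rw [hCbt] at h1
      exact Group.nilpotent_of_surjective (Subgroup.topEquiv.toMonoidHom) (MulEquiv.surjective _)
    obtain ⟨M, hM, hNM⟩ : ∃ M : Subgroup G, IsCoatom M ∧ ¬ N ≤ M := by
      by_contra h
      push Not at h
      apply hnil
      haveI : ((⊤ : Subgroup G)).Normal := inferInstance
      have h1 := Solvable.isNilpotent_of_quotient_le_frattini (⊤ : Subgroup G) N le_top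
        (by simp only [frattini, Order.radical, le_iInf_iff]; exact fun M hM => h M hM)
        (Cores.isNilpotent_of_injective
          (QuotientGroup.map (N.subgroupOf ⊤) N (⊤ : Subgroup G).subtype le_rfl)
          (by
            rw [← MonoidHom.ker_eq_bot_iff, eq_bot_iff]
            intro q hq
            obtain ⟨x, rfl⟩ := QuotientGroup.mk'_surjective (N.subgroupOf ⊤) q
            exact Subgroup.mem_bot.mpr ((QuotientGroup.eq_one_iff x).mpr
              ((QuotientGroup.eq_one_iff (x : G)).mp hq))))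
      exact Group.nilpotent_of_surjective Subgroup.topEquiv.toMonoidHom (MulEquiv.surjective _)
    have hsup : N ⊔ M = ⊤ := hM.2 _ (lt_of_le_of_ne le_sup_right fun e => hNM (e ▸ le_sup_left))
    have hW : (N ⊓ M).Normal := inf_normal_of_sup hNc hsup
    have hd : N ⊓ M = ⊥ := (hmin _ hW inf_le_left).resolve_right fun e => hNM (inf_eq_left.mp e)
    have hinj : Function.Injective ((QuotientGroup.mk' N).comp M.subtype) := by
      rw [← MonoidHom.ker_eq_bot_iff, eq_bot_iff]
      intro x hx
      have : (x : G) ∈ N ⊓ M := ⟨by simpa [QuotientGroup.eq_one_iff] using hx, x.2⟩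
      rw [hd, Subgroup.mem_bot] at this
      exact Subgroup.mem_bot.mpr (Subtype.ext this)
    have hMnil : Group.IsNilpotent M := Cores.isNilpotent_of_injective _ hinj
    refine ⟨M, hMnil, (hM.le_iff.mp Subgroup.le_normalizer).resolve_left fun e => hnil ?_⟩
    haveI := Subgroup.normalizer_eq_top_iff.mp e
    -- both `N` and `M` normal: `G` embeds in a product of nilpotent groups
    have hQM : Group.IsNilpotent (G ⧸ M) := by
      haveI : Group.IsNilpotent N := by
        haveI := Fact.mk hp
        exact hNp.isNilpotent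
      refine Group.nilpotent_of_surjective ((QuotientGroup.mk' M).comp N.subtype) ?_
      intro q
      obtain ⟨x, rfl⟩ := QuotientGroup.mk'_surjective M q
      obtain ⟨a, ha, m, hm, rfl⟩ := Subgroup.mem_sup_of_normal_left.mp (show x ∈ N ⊔ M by rw [hsup]; trivial)
      exact ⟨⟨a, ha⟩, by simp [QuotientGroup.mk_mul_of_mem _ hm]⟩
    refine Cores.isNilpotent_of_injective ((QuotientGroup.mk' N).prod (QuotientGroup.mk' M)) ?_
    rw [← MonoidHom.ker_eq_bot_iff, MonoidHom.ker_prod, QuotientGroup.ker_mk', QuotientGroup.ker_mk', hd]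
  · obtain ⟨C, hC⟩ := ih _ (hn ▸ card_lt_of_ne_top hXt) X rfl inferInstance
    have hmapC : (C.map X.subtype).map (QuotientGroup.mk' N) ≤ Cb := by
      rintro _ ⟨_, ⟨c, -, rfl⟩, rfl⟩
      exact c.2
    refine ⟨C.map X.subtype, isNilpotent_map X.subtype hC.1, le_antisymm (fun g hg => ?_) Subgroup.le_normalizer⟩
    -- the image of `C` is the Carter subgroup of the quotient
    have hCN : (C.map X.subtype).map (QuotientGroup.mk' N) = Cb := by
      haveI := hCb.1
      let f : X →* Cb := ((QuotientGroup.mk' N).comp X.subtype).codRestrict Cb fun x => x.2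
      have hf : Function.Surjective f := by
        rintro ⟨q, hq⟩
        obtain ⟨x, rfl⟩ := QuotientGroup.mk'_surjective N q
        exact ⟨⟨x, hq⟩, rfl⟩
      let e := QuotientGroup.quotientKerEquivOfSurjective f hf
      haveI : Group.IsNilpotent (X ⧸ f.ker) := Group.nilpotent_of_surjective e.symm.toMonoidHom e.symm.surjective
      have h1 := eq_top_of_nilpotent (isCarter_map f.ker hC).2
      refine le_antisymm hmapC fun q hq => ?_
      obtain ⟨x, hx⟩ := hf ⟨q, hq⟩
      obtain ⟨c, hc, hcx⟩ : QuotientGroup.mk' f.ker x ∈ C.map (QuotientGroup.mk' f.ker) :=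
        h1 ▸ Subgroup.mem_top _
      refine ⟨_, ⟨c, hc, rfl⟩, ?_⟩
      have h2 : f c = f x := (MonoidHom.eq_iff f).mpr (by
        rw [← QuotientGroup.eq_one_iff]
        show QuotientGroup.mk' f.ker (x⁻¹ * c) = 1
        rw [map_mul, map_inv, hcx, inv_mul_cancel])
      exact congrArg Subtype.val (h2.trans hx)
    have hgX : g ∈ X := by
      show QuotientGroup.mk' N g ∈ Cb
      rw [← hCb.2]
      refine Coprime.mem_normalizer_of_conj_smul_eq
        (Coprime.eq_of_le_of_card_le (fun q hq => ?_) (Coprime.card_conj_smul _ _).ge)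
      rw [Coprime.mem_conj_smul, ← hCN] at hq
      obtain ⟨c, hc, hcq⟩ := hq
      rw [← hCN]
      refine ⟨g * c * g⁻¹, (Subgroup.mem_normalizer_iff.mp hg c).mp hc, ?_⟩
      rw [map_mul, map_mul, hcq, map_inv]; group
    refine ⟨⟨g, hgX⟩, hC.2 ▸ ?_, rfl⟩
    rw [SetLike.mem_coe, Subgroup.mem_normalizer_iff]
    intro z
    have h1 := Subgroup.mem_normalizer_iff.mp hg z
    rw [Subgroup.mem_map_iff_mem X.subtype_injective |> fun h => show (z : G) ∈ C.map X.subtype ↔ z ∈ C from h] at h1
    refine h1.trans ?_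
    exact Subgroup.mem_map_iff_mem X.subtype_injective (x := ⟨g, hgX⟩ * z * ⟨g, hgX⟩⁻¹)

open Cfsg.Agent.Lib.Solvable.SystemNormalizer in
/-- Some complement system reduces into a Carter subgroup and has its normalizer inside it. -/
theorem exists_system : ∀ (n : ℕ) (G : Type u) [Group G] [Finite G], Nat.card G = n → Group.IsSolvable G →
    ∀ C : Subgroup G, Cfsg.IsCarterSubgroup C → ∃ K : Nat.Primes → Subgroup G,
      Cfsg.IsComplementSystem K ∧ Cfsg.systemNormalizer K ≤ C ∧
      ∀ q : Nat.Primes, ∃ j : ℕ, (K q).relIndex C = (q : ℕ) ^ j := by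
  intro n
  induction n using Nat.strongRecOn with
  | ind n ih =>
  intro G _ _ hn hs C hC
  obtain ⟨K₀, hK₀⟩ := Solvable.exists_complement_system (G := G)
  by_cases hCt : C = ⊤
  · subst hCt
    exact ⟨K₀, hK₀, le_top, fun q => ⟨_, by rw [Subgroup.relIndex_top_right]; exact hK₀ q⟩⟩
  haveI : Nontrivial G := by
    by_contra h
    rw [not_nontrivial_iff_subsingleton] at h
    exact hCt (Subsingleton.elim _ _)
  obtain ⟨p, N, hp, hNn, hN0, hNc, hNp, hmin⟩ := exists_minimal_normal (G := G)
  haveI := hNn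
  let π := QuotientGroup.mk' N
  by_cases hX : C ⊔ N = ⊤
  · have hsC : N ⊔ C = ⊤ := by rw [sup_comm, hX]
    have hd : N ⊓ C = ⊥ := (hmin _ (inf_normal_of_sup hNc hsC) inf_le_left).resolve_right fun h => hCt (by
      rw [← hX, sup_eq_left.mpr (inf_eq_left.mp h)])
    obtain ⟨Q, hQC, hQi, hQn⟩ := complement_case hp N hN0 hNc hNp hmin hC hd hsC
    let p' : Nat.Primes := ⟨p, hp⟩
    obtain ⟨g, hg⟩ := Coprime.exists_conj_eq_of_solvable (G := G) (H := K₀ p') (K := Q)
      (coprime_card_index hK₀ p') (by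
        refine Nat.eq_of_mul_eq_mul_right (Nat.pos_of_ne_zero Q.index_ne_zero_of_finite) ?_
        rw [Q.card_mul_index, hQi, ← hK₀ p', (K₀ p').card_mul_index])
    refine ⟨fun q => MulAut.conj g • K₀ q, isComplementSystem_conj hK₀ g, ?_, fun q => ?_⟩
    · rw [← hQn]
      intro x hx
      refine Coprime.mem_normalizer_of_conj_smul_eq ?_
      rw [← hg]
      exact mem_systemNormalizer.mp hx p'
    · have hKi := isComplementSystem_conj hK₀ g q
      by_cases hqp : q = p'
      · subst hqp
        have h1 : Q.relIndex C * C.index = p ^ (Nat.card G).factorization p :=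
          (Subgroup.relIndex_mul_index hQC).trans hQi
        obtain ⟨j, -, hj⟩ := (Nat.dvd_prime_pow hp).mp (Dvd.intro _ h1)
        exact ⟨j, by dsimp only; rw [hg]; exact hj⟩
      · dsimp only at hKi ⊢
        set L := MulAut.conj g • K₀ q with hL
        have hNL : N ≤ L :=
          le_of_normal_isPGroup (isComplementSystem_conj hK₀ g) (q := p') hqp hNp
        refine ⟨_, Eq.trans ?_ hKi⟩
        have h1 := Coprime.relIndex_mul_card (H := L ⊓ C) (K := C) inf_le_right
        rw [Subgroup.inf_relIndex_right] at h1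
        have hsup : N ⊔ (L ⊓ C) = L := by
          refine le_antisymm (sup_le hNL inf_le_left) fun x hx => ?_
          obtain ⟨a, ha, c, hc, rfl⟩ := Subgroup.mem_sup_of_normal_left.mp
            (show x ∈ N ⊔ C by rw [hsC]; trivial)
          exact mul_mem (Subgroup.mem_sup_left ha) (Subgroup.mem_sup_right
            ⟨by simpa using mul_mem (inv_mem (hNL ha)) hx, hc⟩)
        have h2 := Coprime.card_sup_mul_card_inf (N := N) (H := L ⊓ C) Subgroup.le_normalizer_of_normal
        rw [hsup, show N ⊓ (L ⊓ C) = ⊥ from le_bot_iff.mp ((inf_le_inf_left N inf_le_right).trans hd.le),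
          Subgroup.card_bot, mul_one] at h2
        have h3 := Coprime.card_sup_mul_card_inf (N := N) (H := C) Subgroup.le_normalizer_of_normal
        rw [hsC, hd, Subgroup.card_bot, mul_one, Subgroup.card_top] at h3
        refine Nat.eq_of_mul_eq_mul_left (Nat.card_pos (α := L)) ?_
        rw [L.card_mul_index, h3, ← h1, h2]
        ring
  · set X := C ⊔ N with hXd
    obtain ⟨Kb, hKb, hDb, hrb⟩ := ih _ (hn ▸ card_quotient_lt hN0) (G ⧸ N) rfl inferInstance _ (isCarter_map N hC)
    obtain ⟨qg, hqg⟩ := SystemNormalizer.exists_conj (isComplementSystem_map hK₀ N) hKb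
    obtain ⟨g, rfl⟩ := QuotientGroup.mk'_surjective N qg
    set K := fun q => MulAut.conj g • K₀ q with hKd
    have hK := isComplementSystem_conj hK₀ g
    have hKmap : ∀ q, (K q).map π = Kb q := by
      intro q
      rw [← hqg q]
      refine le_antisymm ?_ ?_
      · rintro _ ⟨y, hy, rfl⟩
        rw [SetLike.mem_coe, hKd, Coprime.mem_conj_smul] at hy
        rw [Coprime.mem_conj_smul]
        exact ⟨_, hy, by simp [π]⟩
      · intro y hy
        obtain ⟨z, hz, hzy⟩ := Coprime.mem_conj_smul.mp hy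
        refine ⟨g * z * g⁻¹, ?_, ?_⟩
        · rw [SetLike.mem_coe, hKd, Coprime.mem_conj_smul]
          simpa [mul_assoc] using hz
        · simp only [π]
          rw [map_mul, map_mul, hzy, map_inv]
          group
    have hXπ : (C.map π).comap π = X := by rw [Subgroup.comap_map_eq, QuotientGroup.ker_mk']
    -- the system reduces into `X`
    have hred : ∀ q : Nat.Primes, ∃ j : ℕ, (K q).relIndex X = (q : ℕ) ^ j := by
      intro q
      obtain ⟨j, hj⟩ := hrb q
      set Y := X ⊓ (N ⊔ K q) with hY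
      have h1 : (N ⊔ K q).relIndex X = (q : ℕ) ^ j := by
        rw [← hj, ← hKmap q]
        have e1 : ((K q).map π).comap π = N ⊔ K q := by
          rw [Subgroup.comap_map_eq, QuotientGroup.ker_mk', sup_comm]
        rw [← e1, Subgroup.relIndex_comap, ← hXπ, Subgroup.map_comap_eq_self_of_surjective (QuotientGroup.mk'_surjective N)]
      have hYeq : Y = N ⊔ (X ⊓ K q) := by
        refine le_antisymm (fun x hx => ?_) (sup_le (le_inf le_sup_right le_sup_left) (inf_le_inf_left _ le_sup_right))
        obtain ⟨a, ha, k, hk, rfl⟩ := Subgroup.mem_sup_of_normal_left.mp hx.2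
        exact mul_mem (Subgroup.mem_sup_left ha) (Subgroup.mem_sup_right
          ⟨by simpa using mul_mem (inv_mem ((le_sup_right : N ≤ X) ha)) hx.1, hk⟩)
      obtain ⟨i, -, hi⟩ := (Nat.dvd_prime_pow q.2).mp ((relIndex_dvd_index N (K q)).trans (dvd_of_eq (hK q)))
      refine ⟨i + j, ?_⟩
      rw [pow_add, ← hi, ← h1]
      have e2 := Coprime.card_sup_mul_card_inf (N := N) (H := X ⊓ K q) Subgroup.le_normalizer_of_normal
      rw [← hYeq, show N ⊓ (X ⊓ K q) = N ⊓ K q by rw [← inf_assoc, inf_eq_left.mpr (le_sup_right : N ≤ X)]] at e2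
      have e3 := Coprime.relIndex_mul_card (H := X ⊓ K q) (K := X) inf_le_left
      rw [Subgroup.inf_relIndex_left] at e3
      have e4 := Coprime.relIndex_mul_card (H := Y) (K := X) inf_le_left
      rw [hY, Subgroup.inf_relIndex_left, ← hY] at e4
      have e5 := Coprime.relIndex_mul_card (H := N ⊓ K q) (K := N) inf_le_left
      rw [Subgroup.inf_relIndex_left] at e5
      refine Nat.eq_of_mul_eq_mul_left (Nat.mul_pos (Nat.card_pos (α := (X ⊓ K q : Subgroup G)))
        (Nat.card_pos (α := N))) ?_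
      calc Nat.card (X ⊓ K q : Subgroup G) * Nat.card N * (K q).relIndex X
          = (Nat.card (X ⊓ K q : Subgroup G) * (K q).relIndex X) * Nat.card N := by ring
        _ = (Nat.card Y * (N ⊔ K q).relIndex X) * (Nat.card (N ⊓ K q : Subgroup G) * (K q).relIndex N) := by
            rw [e3, e4, e5]
        _ = (Nat.card Y * Nat.card (N ⊓ K q : Subgroup G)) * ((K q).relIndex N * (N ⊔ K q).relIndex X) := by ring
        _ = _ := by rw [e2]; ring
    -- the induced system of `X`
    have hJ : Cfsg.IsComplementSystem (fun q => (K q).subgroupOf X) := by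
      intro q
      obtain ⟨j, hj⟩ := hred q
      have hJi : ((K q).subgroupOf X).index = (q : ℕ) ^ j := hj
      show ((K q).subgroupOf X).index = _
      rw [hJi]
      congr 1
      have hnd : ¬ (q : ℕ) ∣ Nat.card ((K q).subgroupOf X) := fun hd => not_dvd_card hK q (hd.trans (by
        rw [← Subgroup.card_map_of_injective X.subtype_injective, Subgroup.subgroupOf_map_subtype]
        exact Subgroup.card_dvd_of_le inf_le_left))
      have h2 := congrArg (fun m : ℕ => m.factorization (q : ℕ)) ((K q).subgroupOf X).card_mul_index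
      rw [hJi, Nat.factorization_mul Nat.card_pos.ne' (pow_ne_zero _ q.2.ne_zero), Finsupp.add_apply,
        q.2.factorization_pow, Finsupp.single_eq_same, Nat.factorization_eq_zero_of_not_dvd hnd, zero_add] at h2
      exact h2
    obtain ⟨J', hJ', hDJ, hrJ⟩ := ih _ (hn ▸ card_lt_of_ne_top hX) X rfl inferInstance _
      (isCarter_subgroupOf hC (le_sup_left : C ≤ X))
    obtain ⟨x, hx⟩ := SystemNormalizer.exists_conj hJ hJ'
    have hxq : ∀ q, (MulAut.conj (x : G) • K q).subgroupOf X = J' q := by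
      intro q
      rw [← hx q]
      ext y
      simp only [Subgroup.mem_subgroupOf, Coprime.mem_conj_smul, Subgroup.coe_mul, Subgroup.coe_inv]
    refine ⟨fun q => MulAut.conj (x : G) • K q, isComplementSystem_conj hK x, ?_, fun q => ?_⟩
    · intro d hd
      have hdX : d ∈ X := by
        have hxc : π (x : G) ∈ C.map π := by rw [← Subgroup.mem_comap, hXπ]; exact x.2
        rw [systemNormalizer_conj, Coprime.mem_conj_smul] at hd
        have h1 : π ((x : G)⁻¹ * d * x) ∈ C.map π := hDb (by
          rw [show Kb = fun q => (K q).map π from funext fun q => (hKmap q).symm]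
          rw [show (fun q => (K q).map π) = fun q => (MulAut.conj g • K₀ q).map (QuotientGroup.mk' N) from rfl,
            map_systemNormalizer hK N]
          exact ⟨_, hd, rfl⟩)
        rw [map_mul, map_mul, map_inv] at h1
        rw [← hXπ, Subgroup.mem_comap]
        have := mul_mem (mul_mem hxc h1) (inv_mem hxc)
        simpa [mul_assoc] using this
      have hdJ : (⟨d, hdX⟩ : X) ∈ Cfsg.systemNormalizer J' := by
        refine mem_systemNormalizer.mpr fun q => ?_
        rw [← hxq q]
        ext y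
        rw [Coprime.mem_conj_smul, Subgroup.mem_subgroupOf, Subgroup.mem_subgroupOf]
        have := mem_systemNormalizer.mp hd q
        conv_rhs => rw [← this, Coprime.mem_conj_smul]
        rfl
      exact hDJ hdJ
    · obtain ⟨j, hj⟩ := hrJ q
      refine ⟨j, ?_⟩
      rw [← hj, ← hxq q, Subgroup.relIndex_subgroupOf (le_sup_left : C ≤ X)]

/-- In a nilpotent group a subgroup of prime power index and order prime to it is normal. -/
theorem normal_of_hall_nilpotent [Group.IsNilpotent G] {q : ℕ} [Fact q.Prime] {H : Subgroup G} {j : ℕ}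
    (hi : H.index = q ^ j) (hH : ¬ q ∣ Nat.card H) : H.Normal := by
  refine Subgroup.normalizer_eq_top_iff.mp (eq_top_of_nilpotent (le_antisymm (fun g hg => ?_) Subgroup.le_normalizer))
  set M := Subgroup.normalizer (H : Set G) with hM
  haveI : (H.subgroupOf M).Normal := (Subgroup.normal_subgroupOf_iff_le_normalizer Subgroup.le_normalizer).mpr le_rfl
  refine Coprime.mem_normalizer_of_conj_smul_eq (Coprime.eq_of_le_of_card_le (fun x hx => ?_)
    (Coprime.card_conj_smul _ _).ge)
  have hxM : x ∈ M := by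
    rw [← Coprime.conj_smul_eq_of_mem_normalizer hg]
    exact Subgroup.pointwise_smul_le_pointwise_smul_iff.mpr Subgroup.le_normalizer hx
  have h1 : orderOf x ∣ Nat.card H := by
    rw [← Coprime.card_conj_smul g H]
    exact Subgroup.orderOf_dvd_natCard _ hx
  have h2 : orderOf (QuotientGroup.mk' (H.subgroupOf M) ⟨x, hxM⟩) ∣ q ^ j := by
    refine (orderOf_dvd_natCard _).trans ?_
    rw [← hi, ← Subgroup.index_eq_card]
    exact Dvd.intro _ (Subgroup.relIndex_mul_index Subgroup.le_normalizer)
  have h3 : orderOf (QuotientGroup.mk' (H.subgroupOf M) ⟨x, hxM⟩) = 1 :=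
    Nat.eq_one_of_dvd_coprimes (Nat.Coprime.pow_right j ((Fact.out : q.Prime).coprime_iff_not_dvd.mpr hH).symm)
      ((orderOf_map_dvd _ (⟨x, hxM⟩ : M)).trans ((Subgroup.orderOf_mk x hxM).le.trans_eq rfl |> fun _ =>
        (Subgroup.orderOf_mk x hxM ▸ h1))) h2
  exact (QuotientGroup.eq_one_iff (⟨x, hxM⟩ : M)).mp (orderOf_eq_one_iff.mp h3)

open Cfsg.Agent.Lib.Solvable.SystemNormalizer in
/-- For a nilpotent-by-nilpotent group a reduced system has normalizer equal to the Carter subgroup. -/
theorem systemNormalizer_eq [Group.IsSolvable G] (F : Subgroup G) [F.Normal] (hF : Group.IsNilpotent F)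
    [Group.IsNilpotent (G ⧸ F)] {C : Subgroup G} (hC : Cfsg.IsCarterSubgroup C) {K : Nat.Primes → Subgroup G}
    (hK : Cfsg.IsComplementSystem K) (hr : ∀ q : Nat.Primes, ∃ j : ℕ, (K q).relIndex C = (q : ℕ) ^ j) :
    C ≤ Cfsg.systemNormalizer K := by
  have hFC : F ⊔ C = ⊤ := by
    have h1 := eq_top_of_nilpotent (isCarter_map F hC).2
    have h2 := congrArg (Subgroup.comap (QuotientGroup.mk' F)) h1
    rwa [Subgroup.comap_map_eq, QuotientGroup.ker_mk', Subgroup.comap_top, sup_comm] at h2
  haveI := hF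
  haveI := hC.1
  intro c hc
  refine mem_systemNormalizer.mpr fun q => ?_
  haveI := Fact.mk q.2
  obtain ⟨j, hj⟩ := hr q
  obtain ⟨i, -, hi⟩ := (Nat.dvd_prime_pow q.2).mp ((relIndex_dvd_index F (K q)).trans (dvd_of_eq (hK q)))
  have hA : ((K q).subgroupOf F).Normal := normal_of_hall_nilpotent (q := q) (j := i) hi fun hd =>
    not_dvd_card hK q (hd.trans (by
      rw [← Subgroup.card_map_of_injective F.subtype_injective, Subgroup.subgroupOf_map_subtype]
      exact Subgroup.card_dvd_of_le inf_le_left))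
  have hB : ((K q).subgroupOf C).Normal := normal_of_hall_nilpotent (q := q) (j := j) hj fun hd =>
    not_dvd_card hK q (hd.trans (by
      rw [← Subgroup.card_map_of_injective C.subtype_injective, Subgroup.subgroupOf_map_subtype]
      exact Subgroup.card_dvd_of_le inf_le_left))
  set A := K q ⊓ F with hAd
  set B := K q ⊓ C with hBd
  haveI hAn : A.Normal := by
    haveI : ((K q).subgroupOf F).Characteristic := by
      refine Subgroup.characteristic_iff_map_le.mpr fun φ => ?_
      rintro _ ⟨y, hy, rfl⟩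
      rw [← QuotientGroup.eq_one_iff]
      refine orderOf_eq_one_iff.mp (Nat.eq_one_of_dvd_coprimes (a := Nat.card (K q)) (b := (q : ℕ) ^ i)
        (Nat.Coprime.pow_right i
          (((q.2).coprime_iff_not_dvd.mpr (not_dvd_card hK q))).symm) ?_ ?_)
      · refine (orderOf_map_dvd (QuotientGroup.mk' _) (φ y)).trans ?_
        rw [MulEquiv.orderOf_eq, ← Subgroup.orderOf_coe]
        exact Subgroup.orderOf_dvd_natCard _ hy
      · refine (orderOf_dvd_natCard _).trans ?_
        rw [← hi]; exact dvd_of_eq rfl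
    have h1 : A = ((K q).subgroupOf F).map F.subtype := (Subgroup.subgroupOf_map_subtype _ _).symm
    rw [h1]; infer_instance
  have hM : A ⊔ B = K q := by
    refine Coprime.eq_of_le_of_card_le (sup_le inf_le_left inf_le_left) ?_
    have e1 := Coprime.card_sup_mul_card_inf (N := A) (H := B) Subgroup.le_normalizer_of_normal
    have e2 := Coprime.card_sup_mul_card_inf (N := F) (H := C) Subgroup.le_normalizer_of_normal
    rw [hFC, Subgroup.card_top] at e2
    have e3 := Coprime.relIndex_mul_card (H := A) (K := F) inf_le_right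
    have e4 := Coprime.relIndex_mul_card (H := B) (K := C) inf_le_right
    rw [hAd, Subgroup.inf_relIndex_right, ← hAd, hi] at e3
    rw [hBd, Subgroup.inf_relIndex_right, ← hBd, hj] at e4
    have e5 := (K q).card_mul_index
    rw [hK q] at e5
    -- compare the parts prime to `q`
    have h6 : Nat.card (K q) * ((q : ℕ) ^ (Nat.card G).factorization q * Nat.card (F ⊓ C : Subgroup G)) =
        Nat.card (A ⊔ B : Subgroup G) * ((q : ℕ) ^ (i + j) * Nat.card (A ⊓ B : Subgroup G)) := by
      calc _ = Nat.card (K q) * (q : ℕ) ^ (Nat.card G).factorization q * Nat.card (F ⊓ C : Subgroup G) := by ring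
        _ = Nat.card F * Nat.card C := by rw [e5, e2]
        _ = (Nat.card A * Nat.card B) * (q : ℕ) ^ (i + j) := by rw [← e3, ← e4, pow_add]; ring
        _ = _ := by rw [← e1]; ring
    obtain ⟨m, hm⟩ := Subgroup.card_dvd_of_le (inf_le_inf inf_le_right inf_le_right : A ⊓ B ≤ F ⊓ C)
    have h7 : Nat.card (K q) * ((q : ℕ) ^ (Nat.card G).factorization q * m) =
        Nat.card (A ⊔ B : Subgroup G) * (q : ℕ) ^ (i + j) := by
      refine Nat.eq_of_mul_eq_mul_left (Nat.card_pos (α := (A ⊓ B : Subgroup G))) ?_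
      rw [hm] at h6
      linarith
    have hd : Nat.card (K q) ∣ Nat.card (A ⊔ B : Subgroup G) :=
      (Nat.Coprime.pow_right _ ((q.2).coprime_iff_not_dvd.mpr (not_dvd_card hK q)).symm).dvd_of_dvd_mul_right
        (Dvd.intro _ h7)
    exact Nat.le_of_dvd Nat.card_pos hd
  rw [← hM, Subgroup.smul_sup, Coprime.conj_smul_eq_of_mem_normalizer (H := A)
    (by rw [Subgroup.normalizer_eq_top]; trivial),
    Coprime.conj_smul_eq_of_mem_normalizer (g := c) (H := B) ?_]
  refine Coprime.mem_normalizer_of_conj_smul_eq (Coprime.eq_of_le_of_card_le (fun x hx => ?_)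
    (Coprime.card_conj_smul _ _).ge)
  have h1 := Coprime.mem_conj_smul.mp hx
  have h2 := hB.conj_mem ⟨_, h1.2⟩ h1.1 ⟨c, hc⟩
  refine ⟨?_, ?_⟩
  · simpa [Subgroup.mem_subgroupOf, mul_assoc] using h2
  · simpa [mul_assoc] using mul_mem (mul_mem hc h1.2) (inv_mem hc)

end Cfsg.Agent.Lib.Solvable.Carter
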