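import Cfsg.Agent.Lib.Solvable.FixedPointFree
import Cfsg.Agent.Lib.Frobenius.Kernel
import Cfsg.Agent.Lib.Frobenius.UniqueSubgroup
import Cfsg.Agent.Lib.Characters.Burnside
import Mathlib.GroupTheory.SpecificGroups.ZGroup

/-!
Consequences for Frobenius groups and fixed-point-free actions by conjugation.
-/

set_option autoImplicit false

open Pointwise

namespace Cfsg.Agent.Lib.Solvable.FrobeniusAux

open Cfsg.Agent.Lib

variable {G : Type*} [Group G]

theorem fixedPointFree_iff {K : Subgroup G} {h : G} :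
    K ⊓ Subgroup.centralizer ({h} : Set G) = ⊥ ↔ ∀ n ∈ K, h * n = n * h → n = 1 := by
  rw [Subgroup.eq_bot_iff_forall]
  simp only [Subgroup.mem_inf, Subgroup.mem_centralizer_singleton_iff, and_imp]
  exact forall₂_congr fun n _ => ⟨fun H e => H e.symm, fun H e => H e.symm⟩

/-- The action of a subgroup normalizing `V` on `V`. -/
def act {V A : Subgroup G} (hAV : A ≤ Subgroup.normalizer (V : Set G)) : A →* MulAut V :=
  V.normalizerMonoidHom.comp (Subgroup.inclusion hAV)

theorem act_apply {V A : Subgroup G} (hAV : A ≤ Subgroup.normalizer (V : Set G)) (a : A) (v : V) :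
    (act hAV a v : G) = a * v * (a : G)⁻¹ := rfl

theorem act_fpf {V A : Subgroup G} (hAV : A ≤ Subgroup.normalizer (V : Set G))
    (hfpf : ∀ a ∈ A, a ≠ 1 → ∀ n ∈ V, a * n = n * a → n = 1) :
    ∀ a : A, a ≠ 1 → ∀ v : V, act hAV a v = v → v = 1 := fun a ha v hv =>
  Subtype.ext (hfpf a a.2 (fun h => ha (Subtype.ext h)) v v.2
    (mul_inv_eq_iff_eq_mul.mp ((act_apply hAV a v).symm.trans (congrArg Subtype.val hv))))

theorem le_normalizer_of_normal (K H : Subgroup G) [K.Normal] :
    H ≤ Subgroup.normalizer (K : Set G) := by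
  rw [Subgroup.normalizer_eq_top]; exact le_top

/-- A normal subgroup centralized without fixed points by a nontrivial element is nilpotent. -/
theorem isNilpotent_of_fpf [Finite G] {K : Subgroup G} [K.Normal] {H : Subgroup G} (hH : H ≠ ⊥)
    (hfpf : ∀ a ∈ H, a ≠ 1 → ∀ n ∈ K, a * n = n * a → n = 1) : Group.IsNilpotent K := by
  obtain ⟨r, hr, hrd⟩ := Nat.exists_prime_and_dvd (fun h => hH (Subgroup.card_eq_one.mp h))
  haveI := Fact.mk hr
  obtain ⟨a, ha⟩ := exists_prime_orderOf_dvd_card' r hrd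
  have hne : a ≠ 1 := fun h => by rw [h, orderOf_one] at ha; exact hr.ne_one ha.symm
  refine FixedPointFree.isNilpotent_of_fixedPointFree hr (act (le_normalizer_of_normal K H) a) ?_
    (act_fpf _ hfpf a hne)
  rw [← map_pow, ← ha, pow_orderOf_eq_one, map_one]

theorem exists_nilpotent_kernel [Finite G] {H : Subgroup G} (hH : Cfsg.IsFrobeniusComplement H) :
    ∃ K : Subgroup G, K.Normal ∧ (K : Set G) = Cfsg.frobeniusKernel H ∧ K ⊓ H = ⊥ ∧ K ⊔ H = ⊤ ∧
      K ≠ ⊥ ∧ Nat.card K = H.index ∧ Group.IsNilpotent K ∧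
      ∀ a ∈ H, a ≠ 1 → ∀ n ∈ K, a * n = n * a → n = 1 := by
  obtain ⟨K, hKn, hK, hdisj, hsup, hK0, -, hcard⟩ := Frobenius.exists_frobeniusKernel hH
  haveI := hKn
  have hfpf := Frobenius.frobeniusKernel_fixedPointFree hH hK
  exact ⟨K, hKn, hK, hdisj, hsup, hK0, hcard, isNilpotent_of_fpf hH.1 hfpf, hfpf⟩

/-- A subgroup whose order divides the order of a complement lies in a complement. -/
theorem exists_le_conj [Finite G] {H L : Subgroup G} (hH : Cfsg.IsFrobeniusComplement H)
    (hL : Nat.card L ∣ Nat.card H) : ∃ x : G, L ≤ MulAut.conj x • H := by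
  obtain ⟨K, hKn, -, -, hsup, -, hcard, hnil, -⟩ := exists_nilpotent_kernel hH
  haveI := hKn
  haveI := hnil
  have hcop : (Nat.card K).Coprime (Nat.card H) := hcard ▸ (Frobenius.card_coprime_index hH).symm
  obtain ⟨n, -, hn⟩ := Coprime.exists_le_conj_of_le_sup (le_normalizer_of_normal K H) hcop
    (Or.inl inferInstance) (hcop.coprime_dvd_right hL) (by rw [hsup]; exact le_top (a := L))
  exact ⟨n, hn⟩

/-- The kernel is the Fitting subgroup. -/
theorem fittingSubgroup_eq [Finite G] {H K : Subgroup G} (hK : K.Normal) (hnil : Group.IsNilpotent K)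
    (hK0 : K ≠ ⊥) (hsup : K ⊔ H = ⊤) (hcop : (Nat.card K).Coprime (Nat.card H))
    (hfpf : ∀ a ∈ H, a ≠ 1 → ∀ n ∈ K, a * n = n * a → n = 1) : Cfsg.fittingSubgroup G = K := by
  haveI := hK
  refine le_antisymm ?_ (Cores.le_fittingSubgroup hK hnil)
  intro x hx
  obtain ⟨n, hn, h, hh, rfl⟩ := Coprime.exists_mul_of_mem_sup (le_normalizer_of_normal K H)
    (show x ∈ K ⊔ H by rw [hsup]; exact Subgroup.mem_top x)
  suffices h = 1 by rwa [this, mul_one]
  set F := Cfsg.fittingSubgroup G with hF
  have hKF : K ≤ F := Cores.le_fittingSubgroup hK hnil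
  have hhF : h ∈ F := by simpa using mul_mem (inv_mem (hKF hn)) hx
  haveI : Group.IsNilpotent F := Cores.fittingSubgroup_isNilpotent G
  by_contra h1
  obtain ⟨p, hp, hpd⟩ := Nat.exists_prime_and_dvd (fun he => h1 (orderOf_eq_one_iff.mp he))
  obtain ⟨q, hq, hqd⟩ := Nat.exists_prime_and_dvd (fun he => hK0 (Subgroup.card_eq_one.mp he))
  haveI := Fact.mk hp
  haveI := Fact.mk hq
  obtain ⟨b, hb⟩ := exists_prime_orderOf_dvd_card' q hqd
  set a := h ^ (orderOf h / p) with ha
  have hao : orderOf a = p := orderOf_pow_orderOf_div (orderOf_pos h).ne' hpd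
  have hpq : p ≠ q := by
    rintro rfl
    exact hp.ne_one (Nat.eq_one_of_dvd_coprimes hcop hqd
      (hpd.trans (Subgroup.orderOf_dvd_natCard H hh)))
  have hmem : ∀ (r : ℕ) [Fact r.Prime] (x : F), orderOf x = r → x ∈ Cfsg.pCore r F := by
    intro r _ x hx
    have hxp : IsPGroup r (Subgroup.zpowers x) :=
      IsPGroup.of_card (n := 1) (by rw [Nat.card_zpowers, hx, pow_one])
    obtain ⟨P, hP⟩ := hxp.exists_le_sylow
    exact Cores.le_pCore
      (Sylow.normal_of_normalizerCondition Group.normalizerCondition_of_isNilpotent P) P.2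
      (hP (Subgroup.mem_zpowers x))
  have haF : a ∈ F := pow_mem hhF _
  have hc := Subgroup.commute_of_normal_of_disjoint _ _ (Cfsg.pCore_normal p F)
    (Cfsg.pCore_normal q F) (IsPGroup.disjoint_of_ne p q hpq _ _ (Cores.pCore_isPGroup p F)
      (Cores.pCore_isPGroup q F)) _ _
    (hmem p ⟨a, haF⟩ (by rwa [Subgroup.orderOf_mk]))
    (hmem q ⟨b, hKF b.2⟩ (by rwa [Subgroup.orderOf_mk, Subgroup.orderOf_coe]))
  have hb1 := hfpf a (pow_mem hh _) (fun e => by rw [e, orderOf_one] at hao; exact hp.ne_one hao.symm)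
    b b.2 (congrArg Subtype.val hc.eq)
  rw [← Subgroup.orderOf_coe, hb1, orderOf_one] at hb
  exact hq.ne_one hb.symm

/-- All Frobenius complements have the same order. -/
theorem card_eq [Finite G] {H H₀ : Subgroup G} (hH : Cfsg.IsFrobeniusComplement H)
    (hH₀ : Cfsg.IsFrobeniusComplement H₀) : Nat.card H = Nat.card H₀ := by
  obtain ⟨K, hKn, -, -, hs, hK0, hc, hnil, hf⟩ := exists_nilpotent_kernel hH
  obtain ⟨L, hLn, -, -, hs', hL0, hc', hnil', hf'⟩ := exists_nilpotent_kernel hH₀
  have e1 := fittingSubgroup_eq hKn hnil hK0 hs (hc ▸ (Frobenius.card_coprime_index hH).symm) hf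
  have e2 := fittingSubgroup_eq hLn hnil' hL0 hs'
    (hc' ▸ (Frobenius.card_coprime_index hH₀).symm) hf'
  have hi : H.index = H₀.index := by rw [← hc, ← hc', ← e1, ← e2]
  have h1 := H.card_mul_index
  rw [← H₀.card_mul_index, hi] at h1
  exact Nat.eq_of_mul_eq_mul_right (Nat.pos_of_ne_zero Subgroup.index_ne_zero_of_finite) h1

/-- All Frobenius complements are conjugate. -/
theorem exists_conj_eq [Finite G] {H H₀ : Subgroup G} (hH : Cfsg.IsFrobeniusComplement H)
    (hH₀ : Cfsg.IsFrobeniusComplement H₀) : ∃ g : G, MulAut.conj g • H₀ = H := by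
  obtain ⟨x, hx⟩ := exists_le_conj hH (card_eq hH hH₀ ▸ dvd_rfl : Nat.card H₀ ∣ Nat.card H)
  have he : H₀ = MulAut.conj x • H := Coprime.eq_of_le_of_card_le hx
    (by rw [Coprime.card_conj_smul, card_eq hH hH₀])
  refine ⟨x⁻¹, ?_⟩
  rw [he, ← Coprime.conj_mul_smul, inv_mul_cancel, Coprime.conj_one_smul]

theorem eq_of_le_cyclic_of_card_eq [Finite G] {C H K : Subgroup G} (hC : IsCyclic C) (hH : H ≤ C)
    (hK : K ≤ C) (h : Nat.card H = Nat.card K) : H = K := by
  classical
  have := Fintype.ofFinite C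
  have key : ∀ L : Subgroup G, L ≤ C → Nat.card L = Nat.card H → ∀ x : C,
      x ∈ L.subgroupOf C ↔ x ^ Nat.card H = 1 := by
    intro L hL hc x
    have hsub : (Finset.univ.filter fun x : C => x ∈ L.subgroupOf C) ⊆
        Finset.univ.filter fun x : C => x ^ Nat.card H = 1 := by
      intro y hy
      simp only [Finset.mem_filter, Finset.mem_univ, true_and] at hy ⊢
      refine Subtype.ext ?_
      have h1 := congrArg Subtype.val (pow_card_eq_one' (x := (⟨y, hy⟩ : L)))
      simpa [hc] using h1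
    have hcard : (Finset.univ.filter fun x : C => x ∈ L.subgroupOf C).card = Nat.card H := by
      rw [← hc, ← Nat.card_congr (Subgroup.subgroupOfEquivOfLe hL).toEquiv,
        Nat.card_eq_fintype_card, Fintype.card_subtype]
    have heq := Finset.eq_of_subset_of_card_le hsub
      ((IsCyclic.card_pow_eq_one_le Nat.card_pos).trans hcard.ge)
    have h2 := Finset.ext_iff.mp heq x
    simpa using h2
  have h' : H.subgroupOf C = K.subgroupOf C := by
    ext x; rw [key H hH rfl, key K hK h.symm]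
  rw [← Subgroup.map_subgroupOf_eq_of_le hH, h', Subgroup.map_subgroupOf_eq_of_le hK]

/-- A fixed-point-free group of automorphisms of odd order with cyclic Sylow subgroups, or of even
order, has nontrivial centre. -/
theorem center_ne_bot {A V : Type*} [Group A] [Group V] [Finite A] [Finite V] [Nontrivial A]
    [Nontrivial V] (φ : A →* MulAut V) (hfpf : ∀ a : A, a ≠ 1 → ∀ v : V, φ a v = v → v = 1) :
    Subgroup.center A ≠ ⊥ := by
  suffices ∃ z : A, z ≠ 1 ∧ z ∈ Subgroup.center A by
    obtain ⟨z, hz1, hz⟩ := this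
    exact fun h => hz1 (Subgroup.mem_bot.mp (h ▸ hz))
  haveI := Fact.mk Nat.prime_two
  by_cases h2 : 2 ∣ Nat.card A
  · obtain ⟨s, hs⟩ := exists_prime_orderOf_dvd_card' 2 h2
    refine ⟨s, fun h => by rw [h, orderOf_one] at hs; omega,
      Subgroup.mem_center_iff.mpr fun g => ?_⟩
    have h := Frobenius.eq_of_orderOf_eq_two φ hfpf (s := g * s * g⁻¹) (t := s)
      (by rw [← MulAut.conj_apply, MulEquiv.orderOf_eq, hs]) hs
    exact mul_inv_eq_iff_eq_mul.mp h
  have hZ : IsZGroup A := ⟨fun p hp P => by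
    haveI := Fact.mk hp
    rcases Frobenius.isCyclic_or_quaternion_of_fixedPointFree φ hfpf (P : Subgroup A) P.2 with
      h | ⟨rfl, m, ⟨e⟩⟩
    · exact h
    · exfalso
      have h4 : Nat.card (P : Subgroup A) = 4 * 2 ^ (m + 1) := by
        rw [Nat.card_congr e.toEquiv, Nat.card_eq_fintype_card, QuaternionGroup.card]
      refine h2 ((Dvd.intro (2 * 2 ^ (m + 1)) ?_).trans (Subgroup.card_subgroup_dvd_card (P : Subgroup A)))
      rw [h4]; ring⟩
  haveI := hZ
  set N := Cfsg.fittingSubgroup A with hN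
  haveI : Group.IsNilpotent N := Cores.fittingSubgroup_isNilpotent A
  have hCN : Subgroup.centralizer (N : Set A) ≤ N :=
    Cores.centralizer_fittingSubgroup_le inferInstance
  have hNc : IsCyclic N := inferInstance
  -- elements of prime order lie in `N`
  have hprime : ∀ r : ℕ, r.Prime → r ∣ Nat.card A → r ∣ Nat.card N := by
    intro r hr hrd
    haveI := Fact.mk hr
    obtain ⟨z, hz⟩ := exists_prime_orderOf_dvd_card' r hrd
    by_contra hrN
    have hzN : z ∈ N := by
      refine hCN ?_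
      haveI : IsMulCommutative N := IsCyclic.isMulCommutative
      refine Cfsg.Agent.S0056.result (Subgroup.zpowers z) N (le_normalizer_of_normal N _) ?_ ?_
        (Subgroup.mem_zpowers z)
      · rw [Nat.card_zpowers, hz]; exact hr.coprime_iff_not_dvd.mpr hrN
      · rintro v hv hvp _ ⟨i, rfl⟩
        have hnorm : z ∈ Subgroup.normalizer (Subgroup.zpowers v : Set A) := by
          refine Coprime.mem_normalizer_of_conj_smul_eq ?_
          have hle : MulAut.conj z • Subgroup.zpowers v ≤ N := by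
            intro x hx
            rw [Coprime.mem_conj_smul] at hx
            have h1 := Subgroup.Normal.conj_mem (Cores.fittingSubgroup_normal A) _
              (Subgroup.zpowers_le.mpr hv hx) z
            simpa [mul_assoc] using h1
          exact eq_of_le_cyclic_of_card_eq hNc hle (Subgroup.zpowers_le.mpr hv)
            (Coprime.card_conj_smul z _)
        exact ((show Commute z v from
          Frobenius.commute_of_mem_normalizer φ hfpf (by rw [hz]; exact hr) hvp hnorm).zpow_left i).eq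
    exact hrN (hz ▸ Subgroup.orderOf_dvd_natCard N hzN)
  -- the smallest prime
  set r := (Nat.card A).minFac with hr
  have hA1 : Nat.card A ≠ 1 := Finite.one_lt_card.ne'
  have hrp : r.Prime := Nat.minFac_prime hA1
  haveI := Fact.mk hrp
  obtain ⟨b, hb⟩ := exists_prime_orderOf_dvd_card' r (hprime r hrp (Nat.minFac_dvd _))
  refine ⟨b, fun h => by rw [← Subgroup.orderOf_coe, h, orderOf_one] at hb; exact hrp.ne_one hb.symm,
    Subgroup.mem_center_iff.mpr fun g => ?_⟩
  -- the orbit of `b` under conjugation by `A` has fewer than `r` elements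
  have hnorm : ∀ x : A, x * (b : A) * x⁻¹ ∈ Subgroup.zpowers (b : A) := by
    intro x
    have hle : Subgroup.zpowers (x * (b : A) * x⁻¹) ≤ N :=
      Subgroup.zpowers_le.mpr ((Cores.fittingSubgroup_normal A).conj_mem b b.2 x)
    rw [eq_of_le_cyclic_of_card_eq hNc (Subgroup.zpowers_le.mpr b.2) hle (by
      rw [Nat.card_zpowers, Nat.card_zpowers, ← MulAut.conj_apply, MulEquiv.orderOf_eq])]
    exact Subgroup.mem_zpowers _
  haveI : (Subgroup.zpowers (b : A)).Normal := ⟨fun n hn x => by
    obtain ⟨i, rfl⟩ := hn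
    rw [← conj_zpow]
    exact zpow_mem (hnorm x) i⟩
  have hr2 : r ≠ 2 := fun h => h2 (h ▸ Nat.minFac_dvd _)
  let f : A →* MulAut (Subgroup.zpowers (b : A)) := MulAut.conjNormal
  have hcard : Nat.card (Subgroup.zpowers (b : A)) = r := by
    rw [Nat.card_zpowers, Subgroup.orderOf_coe, hb]
  have hcop : (Nat.card (MulAut (Subgroup.zpowers (b : A)))).Coprime (Nat.card A) := by
    rw [IsCyclic.card_mulAut, hcard, Nat.totient_prime hrp]
    refine Nat.coprime_of_dvd fun q hq hq1 hq2 => ?_
    have h1 : r ≤ q := Nat.minFac_le_of_dvd hq.two_le hq2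
    have h2' : q ≤ r - 1 := Nat.le_of_dvd (by have := hrp.two_le; omega) hq1
    have := hrp.two_le
    omega
  have hfg : f g = 1 := orderOf_eq_one_iff.mp (Nat.eq_one_of_dvd_coprimes hcop
    (orderOf_dvd_natCard _) ((orderOf_map_dvd f g).trans (orderOf_dvd_natCard g)))
  have h := congrArg Subtype.val (DFunLike.congr_fun hfg ⟨(b : A), Subgroup.mem_zpowers _⟩)
  change g * (b : A) * g⁻¹ = (b : A) at h
  exact mul_inv_eq_iff_eq_mul.mp h

end Cfsg.Agent.Lib.Solvable.FrobeniusAux
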