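import Cfsg.Prelude.Def_SolvableStructure
import Cfsg.Agent.Lib.Coprime.Hall

/-!
Hall complement systems and Sylow systems.
-/

set_option autoImplicit false

open Pointwise

namespace Cfsg.Agent.Lib.Solvable

variable {G : Type*} [Group G] [Finite G]

theorem index_inf_of_coprime {H K : Subgroup G} (h : H.index.Coprime K.index) :
    (H ⊓ K).index = H.index * K.index := by
  have hd : H.index * K.index ∣ (H ⊓ K).index :=
    h.mul_dvd_of_dvd_of_dvd (Subgroup.index_dvd_of_le inf_le_left)
      (Subgroup.index_dvd_of_le inf_le_right)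
  exact le_antisymm Subgroup.index_inf_le
    (Nat.le_of_dvd (Nat.pos_of_ne_zero Subgroup.index_ne_zero_of_finite) hd)

/-- The index of an intersection of subgroups of pairwise coprime indices. -/
theorem index_finset_inf {ι : Type*} (T : Finset ι) (K : ι → Subgroup G)
    (h : ∀ i ∈ T, ∀ j ∈ T, i ≠ j → (K i).index.Coprime (K j).index) :
    (T.inf K).index = ∏ i ∈ T, (K i).index := by
  classical
  induction T using Finset.induction_on with
  | empty => simp
  | insert a T ha ih =>
    have ih' := ih fun i hi j hj => h i (Finset.mem_insert_of_mem hi) j (Finset.mem_insert_of_mem hj)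
    rw [Finset.inf_insert, Finset.prod_insert ha, index_inf_of_coprime, ih']
    rw [ih']
    refine Nat.Coprime.prod_right fun j hj => ?_
    exact h a (Finset.mem_insert_self a T) j (Finset.mem_insert_of_mem hj)
      (fun h => ha (h ▸ hj))

theorem exists_complement_system [Group.IsSolvable G] :
    ∃ K : Nat.Primes → Subgroup G, Cfsg.IsComplementSystem K := by
  suffices ∀ p : Nat.Primes, ∃ H : Subgroup G,
      H.index = (p : ℕ) ^ (Nat.card G).factorization p by
    choose K hK using this
    exact ⟨K, hK⟩
  intro p
  set n := (Nat.card G).factorization p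
  set m := Nat.card G / (p : ℕ) ^ n with hm
  have hmul : m * (p : ℕ) ^ n = Nat.card G := Nat.div_mul_cancel (Nat.ordProj_dvd _ _)
  obtain ⟨H, hH⟩ := Coprime.exists_subgroup_card_eq_of_solvable (G := G) hmul.symm
    (Nat.Coprime.pow_right _ (Nat.coprime_ordCompl p.2 Nat.card_pos.ne').symm)
  refine ⟨H, ?_⟩
  have := H.card_mul_index
  rw [hH, ← hmul] at this
  exact Nat.eq_of_mul_eq_mul_left (by rw [← hH]; exact Nat.card_pos) this

variable {K : Nat.Primes → Subgroup G}

theorem coprime_index_of_isComplementSystem (hK : Cfsg.IsComplementSystem K) {p q : Nat.Primes}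
    (h : p ≠ q) : (K p).index.Coprime (K q).index := by
  rw [hK p, hK q]
  exact Nat.Coprime.pow _ _ ((Nat.coprime_primes p.2 q.2).mpr fun h' => h (Subtype.ext h'))

/-- Intersections of members of a complement system have the expected order. -/
theorem card_finset_inf_of_isComplementSystem (hK : Cfsg.IsComplementSystem K)
    (T : Finset Nat.Primes) :
    Nat.card (T.inf K : Subgroup G) * ∏ p ∈ T, (p : ℕ) ^ (Nat.card G).factorization p =
      Nat.card G := by
  have h := index_finset_inf T K fun i _ j _ => coprime_index_of_isComplementSystem hK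
  rw [Finset.prod_congr rfl fun p _ => (hK p).symm, ← h]
  exact Subgroup.card_mul_index _

/-- The primes dividing the group order. -/
noncomputable def groupPrimes (G : Type*) [Group G] [Finite G] : Finset Nat.Primes :=
  (Nat.card G).primeFactors.subtype _

theorem mem_groupPrimes {p : Nat.Primes} : p ∈ groupPrimes G ↔ (p : ℕ) ∣ Nat.card G := by
  exact ⟨fun h => Nat.dvd_of_mem_primeFactors
      (Finset.mem_subtype.mp (show p ∈ Finset.subtype Nat.Prime _ from h)),
    fun h => Finset.mem_subtype.mpr (Nat.mem_primeFactors.mpr ⟨p.2, h, Nat.card_pos.ne'⟩)⟩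

theorem prod_groupPrimes : ∏ p ∈ groupPrimes G, (p : ℕ) ^ (Nat.card G).factorization p =
    Nat.card G := by
  conv_rhs => rw [← Nat.prod_factorization_pow_eq_self (Nat.card_pos (α := G)).ne']
  rw [Finsupp.prod, Nat.support_factorization]
  refine Finset.prod_bij (fun p _ => (p : ℕ)) ?_ ?_ ?_ ?_
  · intro p hp
    exact Finset.mem_subtype.mp hp
  · intro p _ q _ h
    exact Subtype.ext h
  · intro q hq
    exact ⟨⟨q, Nat.prime_of_mem_primeFactors hq⟩, Finset.mem_subtype.mpr hq, rfl⟩
  · intro p _
    rfl

/-- The Sylow subgroup attached to a complement system. -/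
noncomputable def systemSylowSubgroup (K : Nat.Primes → Subgroup G) (p : Nat.Primes) : Subgroup G :=
  ((groupPrimes G).erase p).inf K

theorem card_systemSylowSubgroup (hK : Cfsg.IsComplementSystem K) (p : Nat.Primes) :
    Nat.card (systemSylowSubgroup K p) = (p : ℕ) ^ (Nat.card G).factorization p := by
  have h := card_finset_inf_of_isComplementSystem hK ((groupPrimes G).erase p)
  by_cases hp : p ∈ groupPrimes G
  · have h2 := prod_groupPrimes (G := G)
    rw [← Finset.mul_prod_erase _ _ hp] at h2
    refine Nat.eq_of_mul_eq_mul_right ?_ (h.trans h2.symm)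
    exact Finset.prod_pos fun q _ => pow_pos q.2.pos _
  · rw [Finset.erase_eq_of_notMem hp, prod_groupPrimes] at h
    have h1 : Nat.card ((groupPrimes G).inf K : Subgroup G) = 1 :=
      Nat.eq_of_mul_eq_mul_right Nat.card_pos (h.trans (one_mul _).symm)
    rw [Nat.factorization_eq_zero_of_not_dvd (fun hd => hp (mem_groupPrimes.mpr hd)), pow_zero,
      systemSylowSubgroup, Finset.erase_eq_of_notMem hp]
    exact h1

/-- The Sylow system attached to a complement system. -/
noncomputable def systemSylow (hK : Cfsg.IsComplementSystem K) (p : Nat.Primes) :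
    Sylow (p : ℕ) G :=
  haveI := Fact.mk p.2
  Sylow.ofCard (systemSylowSubgroup K p) (card_systemSylowSubgroup hK p)

theorem coe_systemSylow (hK : Cfsg.IsComplementSystem K) (p : Nat.Primes) :
    (systemSylow hK p : Subgroup G) = systemSylowSubgroup K p := rfl

theorem systemSylow_mul_comm (hK : Cfsg.IsComplementSystem K) (p q : Nat.Primes) :
    (systemSylow hK p : Set G) * (systemSylow hK q : Set G) =
      (systemSylow hK q : Set G) * (systemSylow hK p : Set G) := by
  rcases eq_or_ne p q with rfl | hpq
  · rfl
  show ((systemSylowSubgroup K p : Subgroup G) : Set G) * (systemSylowSubgroup K q : Set G) =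
    (systemSylowSubgroup K q : Set G) * (systemSylowSubgroup K p : Set G)
  set A := systemSylowSubgroup K p with hA
  set B := systemSylowSubgroup K q with hB
  set U := (((groupPrimes G).erase p).erase q).inf K with hU
  have hAU : A ≤ U := Finset.inf_mono (Finset.erase_subset _ _)
  have hBU : B ≤ U := by
    rw [hU, Finset.erase_right_comm]
    exact Finset.inf_mono (Finset.erase_subset _ _)
  have hcU := card_finset_inf_of_isComplementSystem hK (((groupPrimes G).erase p).erase q)
  have hcop : (Nat.card A).Coprime (Nat.card B) := by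
    rw [card_systemSylowSubgroup hK p, card_systemSylowSubgroup hK q]
    exact Nat.Coprime.pow _ _ ((Nat.coprime_primes p.2 q.2).mpr fun h => hpq (Subtype.ext h))
  have hle : Nat.card U ≤ Nat.card A * Nat.card B := by
    rw [card_systemSylowSubgroup hK p, card_systemSylowSubgroup hK q]
    set P := (p : ℕ) ^ (Nat.card G).factorization p
    set Q := (q : ℕ) ^ (Nat.card G).factorization q
    set R := ∏ r ∈ ((groupPrimes G).erase p).erase q, (r : ℕ) ^ (Nat.card G).factorization r
    have hR : Nat.card G ∣ P * Q * R := by
      conv_lhs => rw [← prod_groupPrimes (G := G)]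
      refine dvd_trans (Finset.prod_dvd_prod_of_subset _
        (insert p (insert q (((groupPrimes G).erase p).erase q))) _ ?_) ?_
      · intro r hr
        simp only [Finset.mem_insert, Finset.mem_erase]
        tauto
      · rw [Finset.prod_insert (by simp [hpq]), Finset.prod_insert (by simp), ← mul_assoc]
    rw [← hcU] at hR
    exact Nat.le_of_dvd (Nat.mul_pos (pow_pos p.2.pos _) (pow_pos q.2.pos _))
      (Nat.dvd_of_mul_dvd_mul_right (Finset.prod_pos fun r _ => pow_pos r.2.pos _) hR)
  have key : ∀ X Y : Subgroup G, X ≤ U → Y ≤ U → (Nat.card X).Coprime (Nat.card Y) →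
      Nat.card U ≤ Nat.card X * Nat.card Y → (X : Set G) * (Y : Set G) = U := by
    intro X Y hX hY hc hle
    refine Set.Subset.antisymm ?_ ?_
    · rintro _ ⟨x, hx, y, hy, rfl⟩
      exact mul_mem (hX hx) (hY hy)
    · intro u hu
      let f : X × Y → U := fun z => ⟨z.1 * z.2, mul_mem (hX z.1.2) (hY z.2.2)⟩
      have hinj : Function.Injective f := by
        intro a b hab
        have := Subgroup.mul_injective_of_disjoint
          (Subgroup.disjoint_of_coprime_natCard hc)
          (show (a.1 : G) * a.2 = b.1 * b.2 from congrArg Subtype.val hab)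
        exact this
      have hsurj : Function.Surjective f := by
        refine (hinj.bijective_of_nat_card_le ?_).2
        rw [Nat.card_prod]
        exact hle
      obtain ⟨⟨x, y⟩, hxy⟩ := hsurj ⟨u, hu⟩
      exact ⟨x, x.2, y, y.2, congrArg Subtype.val hxy⟩
  rw [key A B hAU hBU hcop hle, key B A hBU hAU hcop.symm (by rw [mul_comm]; exact hle)]

end Cfsg.Agent.Lib.Solvable
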