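import Cfsg.Agent.Lib.Coprime.Basic
import Cfsg.Agent.Lib.Cores
import Cfsg.Agent.Lib.Solvable.Systems
import Cfsg.Agent.Lib.Characters.Burnside

/-!
Products of subgroups, and solvability criteria resting on the two-prime theorem.
-/

set_option autoImplicit false
set_option maxHeartbeats 400000

open Pointwise

universe u

namespace Cfsg.Agent.Lib.Solvable.Products

open Cfsg.Agent.Lib

variable {G : Type u} [Group G]

/-- The product formula for two subgroups. -/
theorem card_mul_set_mul_card_inf (H K : Subgroup G) :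
    Nat.card ↥((H : Set G) * (K : Set G)) * Nat.card (H ⊓ K : Subgroup G) =
      Nat.card H * Nat.card K := by
  classical
  have hdec : ∀ x : ↥((H : Set G) * (K : Set G)), ∃ h : H, ∃ k : K, (h : G) * k = x := by
    rintro ⟨_, h, hh, k, hk, rfl⟩
    exact ⟨⟨h, hh⟩, ⟨k, hk⟩, rfl⟩
  choose fh fk hf using hdec
  rw [← Nat.card_prod, ← Nat.card_prod]
  refine Nat.card_eq_of_bijective (fun y : ↥((H : Set G) * (K : Set G)) × (H ⊓ K : Subgroup G) =>
    ((⟨(fh y.1 : G) * y.2, mul_mem (fh y.1).2 (Subgroup.mem_inf.mp y.2.2).1⟩ : H),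
      (⟨(y.2 : G)⁻¹ * fk y.1, mul_mem (inv_mem (Subgroup.mem_inf.mp y.2.2).2) (fk y.1).2⟩ : K))) ⟨?_, ?_⟩
  · rintro ⟨x, d⟩ ⟨x', d'⟩ he
    have e1 : (fh x : G) * d = fh x' * d' := congrArg (fun z : H × K => (z.1 : G)) he
    have e2 : (d : G)⁻¹ * fk x = (d' : G)⁻¹ * fk x' := congrArg (fun z : H × K => (z.2 : G)) he
    have hx : x = x' := by
      apply Subtype.ext
      calc (x : G) = ((fh x : G) * d) * ((d : G)⁻¹ * fk x) := by rw [← hf x]; group
        _ = ((fh x' : G) * d') * ((d' : G)⁻¹ * fk x') := by rw [e1, e2]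
        _ = x' := by rw [← hf x']; group
    subst hx
    exact Prod.ext rfl (Subtype.ext (mul_left_cancel e1))
  · rintro ⟨h, k⟩
    have hmem : (h : G) * k ∈ (H : Set G) * (K : Set G) := Set.mul_mem_mul h.2 k.2
    set x : ↥((H : Set G) * (K : Set G)) := ⟨_, hmem⟩
    have hx : (fh x : G) * fk x = h * k := hf x
    have hd : (fh x : G)⁻¹ * h ∈ H ⊓ K := by
      refine Subgroup.mem_inf.mpr ⟨mul_mem (inv_mem (fh x).2) h.2, ?_⟩
      have e : (fh x : G)⁻¹ * h = fk x * (k : G)⁻¹ := by
        calc (fh x : G)⁻¹ * h = (fh x : G)⁻¹ * (h * k) * (k : G)⁻¹ := by group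
          _ = _ := by rw [← hx]; group
      rw [e]
      exact mul_mem (fk x).2 (inv_mem k.2)
    refine ⟨(x, ⟨_, hd⟩), Prod.ext (Subtype.ext ?_) (Subtype.ext ?_)⟩
    · show (fh x : G) * ((fh x : G)⁻¹ * h) = h
      group
    · show ((fh x : G)⁻¹ * h)⁻¹ * fk x = k
      calc ((fh x : G)⁻¹ * h)⁻¹ * fk x = (h : G)⁻¹ * ((fh x : G) * fk x) := by group
        _ = k := by rw [hx]; group

/-- Two permuting subgroups multiply to their join. -/
theorem coe_sup_of_mul_comm {A B : Subgroup G}
    (h : (A : Set G) * (B : Set G) = (B : Set G) * (A : Set G)) :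
    ((A ⊔ B : Subgroup G) : Set G) = (A : Set G) * (B : Set G) := by
  refine Set.Subset.antisymm ?_ ?_
  · have hinv : ∀ x ∈ (A : Set G) * (B : Set G), x⁻¹ ∈ (A : Set G) * (B : Set G) := by
      rintro _ ⟨a, ha, b, hb, rfl⟩
      rw [h]
      exact ⟨b⁻¹, inv_mem hb, a⁻¹, inv_mem ha, by group⟩
    let S : Subgroup G :=
      { carrier := (A : Set G) * (B : Set G)
        one_mem' := ⟨1, one_mem _, 1, one_mem _, mul_one 1⟩
        mul_mem' := by
          rintro _ _ ⟨a, ha, b, hb, rfl⟩ ⟨a', ha', b', hb', rfl⟩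
          obtain ⟨a'', ha'', b'', hb'', he⟩ : b * a' ∈ (A : Set G) * (B : Set G) := by
            rw [h]; exact Set.mul_mem_mul hb ha'
          refine ⟨a * a'', mul_mem ha ha'', b'' * b', mul_mem hb'' hb', ?_⟩
          have he' : a'' * b'' = b * a' := he
          show a * a'' * (b'' * b') = a * b * (a' * b')
          calc a * a'' * (b'' * b') = a * (a'' * b'') * b' := by group
            _ = a * b * (a' * b') := by rw [he']; group
        inv_mem' := fun {x} hx => hinv x hx }
    exact SetLike.coe_subset_coe.mpr (sup_le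
      (show A ≤ S from fun a ha => ⟨a, ha, 1, one_mem _, mul_one a⟩)
      (show B ≤ S from fun b hb => ⟨1, one_mem _, b, hb, one_mul b⟩))
  · rintro _ ⟨a, ha, b, hb, rfl⟩
    exact mul_mem (Subgroup.mem_sup_left ha) (Subgroup.mem_sup_right hb)

theorem exists_normal_pSubgroup [Finite G] [Nontrivial G] (hs : Group.IsSolvable G) :
    ∃ p : ℕ, p.Prime ∧ Cfsg.pCore p G ≠ ⊥ := by
  by_contra h
  push Not at h
  exact Cores.fittingSubgroup_ne_bot_of_isSolvable hs
    (le_bot_iff.mp (Cores.fittingSubgroup_le_of_pCore_le fun p hp => (h p hp).le))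

/-- Wielandt: three solvable subgroups of pairwise coprime indices. -/
theorem isSolvable_three_aux : ∀ (n : ℕ) (G : Type u) [Group G] [Finite G], Nat.card G = n →
    ∀ H₁ H₂ H₃ : Subgroup G, Group.IsSolvable H₁ → Group.IsSolvable H₂ → Group.IsSolvable H₃ →
    H₁.index.Coprime H₂.index → H₁.index.Coprime H₃.index → H₂.index.Coprime H₃.index →
    Group.IsSolvable G := by
  intro n
  induction n using Nat.strongRecOn with
  | ind n IH =>
  intro G _ _ hn H₁ H₂ H₃ s₁ s₂ s₃ c₁₂ c₁₃ c₂₃
  by_cases hH₁ : H₁ = ⊥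
  · rw [hH₁, Subgroup.index_bot] at c₁₂
    have h2 : H₂ = ⊤ := Subgroup.index_eq_one.mp
      (Nat.eq_one_of_dvd_coprimes c₁₂ H₂.index_dvd_card dvd_rfl)
    subst h2
    exact Coprime.isSolvable_of_surjective' (f := (Subgroup.topEquiv (G := G)).toMonoidHom)
      (Subgroup.topEquiv (G := G)).surjective s₂
  haveI : Nontrivial H₁ := (Subgroup.nontrivial_iff_ne_bot H₁).mpr hH₁
  obtain ⟨q, hq, hq0⟩ := exists_normal_pSubgroup (G := H₁) s₁
  haveI := Fact.mk hq
  -- choose the subgroup of index prime to `q`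
  obtain ⟨K, sK, cK, hqK⟩ : ∃ K : Subgroup G,
      Group.IsSolvable K ∧ H₁.index.Coprime K.index ∧ ¬ q ∣ K.index := by
    by_cases h2 : q ∣ H₂.index
    · exact ⟨H₃, s₃, c₁₃, fun h3 => hq.ne_one (Nat.eq_one_of_dvd_coprimes c₂₃ h2 h3)⟩
    · exact ⟨H₂, s₂, c₁₂, h2⟩
  set N := (Cfsg.pCore q H₁).map H₁.subtype with hN
  have hrel : K.relIndex H₁ = K.index := by
    have h1 := index_inf_of_coprime cK
    rw [← Subgroup.relIndex_mul_index (inf_le_left : H₁ ⊓ K ≤ H₁),
      Subgroup.inf_relIndex_left, mul_comm] at h1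
    exact Nat.eq_of_mul_eq_mul_left (Nat.pos_of_ne_zero Subgroup.index_ne_zero_of_finite) h1
  have hNK : N ≤ K := by
    suffices h : Cfsg.pCore q H₁ ≤ K.subgroupOf H₁ by
      rintro _ ⟨x, hx, rfl⟩
      exact Subgroup.mem_subgroupOf.mp (h hx)
    set Y := K.subgroupOf H₁
    set C := Cfsg.pCore q H₁
    obtain ⟨k, hk⟩ := IsPGroup.iff_card.mp (Cores.pCore_isPGroup q H₁)
    have h1 := Cores.card_sup_dvd Y C
    have e : Y.relIndex (Y ⊔ C) = 1 := by
      refine Nat.eq_one_of_dvd_coprimes (k := Y.relIndex (Y ⊔ C)) (Nat.Coprime.pow_left k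
        (hq.coprime_iff_not_dvd.mpr hqK)) ?_ ?_
      · have h2 := Coprime.relIndex_mul_card (le_sup_left : Y ≤ Y ⊔ C)
        rw [← h2, hk] at h1
        exact Nat.dvd_of_mul_dvd_mul_left Nat.card_pos h1
      · rw [← hrel]
        exact Dvd.intro _ (Subgroup.relIndex_mul_index (le_sup_left : Y ≤ Y ⊔ C))
    exact le_sup_right.trans (Subgroup.relIndex_eq_one.mp e)
  have hN0 : N ≠ ⊥ := fun e => hq0 ((Subgroup.map_eq_bot_iff_of_injective _ H₁.subtype_injective).mp e)
  set M := Subgroup.normalClosure (N : Set G) with hM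
  have hprod : ∀ g : G, ∃ a ∈ K, ∃ b ∈ H₁, g = a * b := by
    intro g
    have hcard : Nat.card ↥((K : Set G) * (H₁ : Set G)) = Nat.card G := by
      have h1 := card_mul_set_mul_card_inf K H₁
      have e1 := Coprime.relIndex_mul_card (inf_le_right : K ⊓ H₁ ≤ H₁)
      rw [Subgroup.inf_relIndex_right, hrel] at e1
      refine Nat.eq_of_mul_eq_mul_right (Nat.card_pos (α := (K ⊓ H₁ : Subgroup G))) ?_
      rw [h1, ← K.card_mul_index, ← e1]
      ring
    have huniv : (K : Set G) * (H₁ : Set G) = Set.univ :=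
      Set.eq_of_subset_of_ncard_le (Set.subset_univ _)
        (by rw [Set.ncard_univ, ← hcard, Nat.card_coe_set_eq]) (Set.toFinite _)
    obtain ⟨a, ha, b, hb, hab⟩ := huniv.symm ▸ Set.mem_univ g
    exact ⟨a, ha, b, hb, hab.symm⟩
  have hMK : M ≤ K := by
    refine le_trans ?_ (Subgroup.normalCore_le K)
    refine Subgroup.normalClosure_le_normal fun x hx g => ?_
    obtain ⟨a, ha, b, hb, rfl⟩ := hprod g
    have h1 : b * x * b⁻¹ ∈ N := by
      obtain ⟨y, hy, rfl⟩ := hx
      exact ⟨⟨b, hb⟩ * y * ⟨b, hb⟩⁻¹, (Cfsg.pCore_normal q H₁).conj_mem y hy _, rfl⟩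
    have := mul_mem (mul_mem ha (hNK h1)) (inv_mem ha)
    simpa [mul_assoc] using this
  have hM0 : M ≠ ⊥ := fun e => hN0 (le_bot_iff.mp (e ▸ Subgroup.le_normalClosure))
  haveI := Coprime.isSolvable_of_le hMK sK
  let π := QuotientGroup.mk' M
  have hπ : Function.Surjective π := QuotientGroup.mk'_surjective M
  have hlt : Nat.card (G ⧸ M) < n := by
    rw [← hn, Subgroup.card_eq_card_quotient_mul_card_subgroup M]
    exact lt_mul_of_one_lt_right Nat.card_pos (M.one_lt_card_iff_ne_bot.mpr hM0)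
  haveI := IH _ hlt (G ⧸ M) rfl (H₁.map π) (H₂.map π) (H₃.map π)
    (Coprime.isSolvable_map π s₁) (Coprime.isSolvable_map π s₂) (Coprime.isSolvable_map π s₃)
    ((c₁₂.coprime_dvd_left (Subgroup.index_map_dvd _ hπ)).coprime_dvd_right (Subgroup.index_map_dvd _ hπ))
    ((c₁₃.coprime_dvd_left (Subgroup.index_map_dvd _ hπ)).coprime_dvd_right (Subgroup.index_map_dvd _ hπ))
    ((c₂₃.coprime_dvd_left (Subgroup.index_map_dvd _ hπ)).coprime_dvd_right (Subgroup.index_map_dvd _ hπ))
  exact Group.isSolvable_of_ker_le_range M.subtype π (by rw [QuotientGroup.ker_mk', Subgroup.range_subtype])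

/-- The converse of Hall's theorem. -/
theorem isSolvable_of_complements_aux : ∀ (n : ℕ) (G : Type u) [Group G] [Finite G], Nat.card G = n →
    (∀ p : ℕ, p.Prime → ∃ H : Subgroup G, H.index = p ^ (Nat.card G).factorization p) →
    Group.IsSolvable G := by
  intro n
  induction n using Nat.strongRecOn with
  | ind n IH =>
  intro G _ _ hn h
  set S := (Nat.card G).primeFactors with hS
  by_cases htwo : S.card ≤ 2
  · have hG := Nat.prod_factorization_pow_eq_self (Nat.card_pos (α := G)).ne'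
    rw [Nat.prod_factorization_eq_prod_primeFactors, ← hS] at hG
    obtain h1 | h1 | h1 : S.card = 0 ∨ S.card = 1 ∨ S.card = 2 := by omega
    · rw [Finset.card_eq_zero.mp h1, Finset.prod_empty] at hG
      haveI : Subsingleton G := (Nat.card_eq_one_iff_unique.mp hG.symm).1
      infer_instance
    · obtain ⟨p, hp⟩ := Finset.card_eq_one.mp h1
      rw [hp, Finset.prod_singleton] at hG
      exact Characters.isSolvable_of_card_eq_pow_mul_pow (q := p) (a := (Nat.card G).factorization p) (b := 0)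
        (Nat.prime_of_mem_primeFactors (hS ▸ hp ▸ Finset.mem_singleton_self p))
        (Nat.prime_of_mem_primeFactors (hS ▸ hp ▸ Finset.mem_singleton_self p))
        (by rw [pow_zero, mul_one]; exact hG.symm)
    · obtain ⟨p, q, hpq, hp⟩ := Finset.card_eq_two.mp h1
      rw [hp, Finset.prod_pair hpq] at hG
      exact Characters.isSolvable_of_card_eq_pow_mul_pow
        (Nat.prime_of_mem_primeFactors (hS ▸ hp ▸ Finset.mem_insert_self p {q}))
        (Nat.prime_of_mem_primeFactors
          (hS ▸ hp ▸ Finset.mem_insert_of_mem (Finset.mem_singleton_self q)))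
        hG.symm
  obtain ⟨p, q, r, hp, hq, hr, hpq, hpr, hqr⟩ : ∃ p q r, p ∈ S ∧ q ∈ S ∧ r ∈ S ∧ p ≠ q ∧ p ≠ r ∧ q ≠ r :=
    Finset.two_lt_card_iff.mp (by omega)
  have hsol : ∀ p ∈ S, ∃ H : Subgroup G, Group.IsSolvable H ∧
      H.index = p ^ (Nat.card G).factorization p := by
    intro p hp
    have hpp := Nat.prime_of_mem_primeFactors hp
    obtain ⟨K, hK⟩ := h p hpp
    refine ⟨K, ?_, hK⟩
    have hlt : Nat.card K < n := by
      rw [← hn]
      refine lt_of_le_of_ne (Subgroup.card_le_card_group K) fun e => ?_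
      rw [Subgroup.eq_top_of_card_eq K e, Subgroup.index_top] at hK
      exact (Nat.one_lt_pow
        ((hpp.factorization_pos_of_dvd Nat.card_pos.ne' (Nat.dvd_of_mem_primeFactors hp)).ne')
        hpp.one_lt).ne hK
    refine IH _ hlt K rfl fun s hs => ?_
    by_cases hsp : s = p
    · subst hsp
      refine ⟨⊤, ?_⟩
      have : ¬ s ∣ Nat.card K := by
        have h1 := K.card_mul_index
        rw [hK] at h1
        intro hd
        have h2 : s ^ ((Nat.card G).factorization s + 1) ∣ Nat.card G := by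
          rw [pow_succ']
          exact (mul_dvd_mul hd dvd_rfl).trans (dvd_of_eq h1)
        exact absurd ((hs.pow_dvd_iff_le_factorization Nat.card_pos.ne').mp h2) (Nat.not_succ_le_self _)
      rw [Subgroup.index_top, Nat.factorization_eq_zero_of_not_dvd this, pow_zero]
    · obtain ⟨L, hL⟩ := h s hs
      have hc : K.index.Coprime L.index := by
        rw [hK, hL]; exact Nat.Coprime.pow _ _ ((Nat.coprime_primes hpp hs).mpr (Ne.symm hsp))
      refine ⟨L.subgroupOf K, ?_⟩
      have h1 := index_inf_of_coprime hc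
      rw [← Subgroup.relIndex_mul_index (inf_le_left : K ⊓ L ≤ K), Subgroup.inf_relIndex_left,
        mul_comm] at h1
      rw [← Subgroup.relIndex,
        Nat.eq_of_mul_eq_mul_left (Nat.pos_of_ne_zero Subgroup.index_ne_zero_of_finite) h1, hL]
      congr 1
      rw [← K.card_mul_index, hK, Nat.factorization_mul Nat.card_pos.ne' (pow_ne_zero _ hpp.ne_zero)]
      simp [hpp.factorization_pow, Finsupp.single_apply, Ne.symm hsp]
  obtain ⟨A, sA, iA⟩ := hsol p hp
  obtain ⟨B, sB, iB⟩ := hsol q hq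
  obtain ⟨C, sC, iC⟩ := hsol r hr
  refine isSolvable_three_aux _ G rfl A B C sA sB sC ?_ ?_ ?_ <;>
    simp only [iA, iB, iC] <;>
    refine Nat.Coprime.pow _ _ ((Nat.coprime_primes ?_ ?_).mpr ?_) <;>
    first
      | exact hpq | exact hpr | exact hqr
      | exact Nat.prime_of_mem_primeFactors hp | exact Nat.prime_of_mem_primeFactors hq
      | exact Nat.prime_of_mem_primeFactors hr

theorem isSolvable_of_complements [Finite G]
    (h : ∀ p : ℕ, p.Prime → ∃ H : Subgroup G, H.index = p ^ (Nat.card G).factorization p) :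
    Group.IsSolvable G :=
  isSolvable_of_complements_aux _ G rfl h

/-- A Sylow system makes the group solvable. -/
theorem isSolvable_of_sylow_system [Finite G] (S : (p : Nat.Primes) → Sylow (p : ℕ) G)
    (hS : ∀ p q : Nat.Primes, (S p : Set G) * (S q : Set G) = (S q : Set G) * (S p : Set G)) :
    Group.IsSolvable G := by
  classical
  refine isSolvable_of_complements fun p hp => ?_
  have key : ∀ T : Finset Nat.Primes, ∃ U : Subgroup G,
      Nat.card U = ∏ q ∈ T, (q : ℕ) ^ (Nat.card G).factorization q ∧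
      ∀ r : Nat.Primes, (U : Set G) * (S r : Set G) = (S r : Set G) * (U : Set G) := by
    intro T
    induction T using Finset.induction_on with
    | empty => exact ⟨⊥, by simp, fun r => by simp [Subgroup.coe_bot, Set.singleton_mul, Set.mul_singleton]⟩
    | insert a T ha ih =>
      haveI : Fact (Nat.Prime (a : ℕ)) := ⟨a.2⟩
      obtain ⟨U, hU, hcomm⟩ := ih
      have hsup := coe_sup_of_mul_comm (B := (S a : Subgroup G)) (hcomm a)
      refine ⟨U ⊔ (S a : Subgroup G), ?_, fun r => ?_⟩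
      · have h1 := card_mul_set_mul_card_inf U (S a : Subgroup G)
        rw [← hsup] at h1
        have hinf : U ⊓ (S a : Subgroup G) = ⊥ := by
          refine Coprime.inf_eq_bot_of_coprime_card ?_
          rw [hU, Sylow.card_eq_multiplicity]
          refine Nat.Coprime.prod_left fun q hq => Nat.Coprime.pow _ _
            ((Nat.coprime_primes q.2 a.2).mpr fun e => ha ((Subtype.ext e : q = a) ▸ hq))
        rw [hinf, Subgroup.card_bot, mul_one] at h1
        rw [Finset.prod_insert ha, mul_comm, ← hU, ← Sylow.card_eq_multiplicity (S a)]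
        exact h1
      · rw [hsup, mul_assoc]
        have h2 : ((S a : Subgroup G) : Set G) * (S r : Set G) = (S r : Set G) * ((S a : Subgroup G) : Set G) :=
          hS a r
        rw [h2, ← mul_assoc, hcomm r, mul_assoc]
  by_cases hpG : (⟨p, hp⟩ : Nat.Primes) ∈ groupPrimes G
  · obtain ⟨U, hU, -⟩ := key ((groupPrimes G).erase ⟨p, hp⟩)
    refine ⟨U, Nat.eq_of_mul_eq_mul_left (Nat.card_pos (α := U)) ?_⟩
    rw [U.card_mul_index, hU]
    exact ((Finset.prod_erase_mul _ _ hpG).trans (prod_groupPrimes (G := G))).symm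
  · obtain ⟨U, hU, -⟩ := key (groupPrimes G)
    refine ⟨U, Nat.eq_of_mul_eq_mul_left (Nat.card_pos (α := U)) ?_⟩
    rw [U.card_mul_index, hU, prod_groupPrimes,
      Nat.factorization_eq_zero_of_not_dvd (fun hd => hpG (mem_groupPrimes.mpr hd)), pow_zero, mul_one]

/-- Sylow subgroups of the factors of a factorized group multiply to one of the whole group. -/
theorem exists_sylow_mul [Finite G] (H K : Subgroup G) (hHK : ∀ g : G, ∃ h ∈ H, ∃ k ∈ K, g = h * k)
    (p : ℕ) [Fact p.Prime] : ∃ (P : Sylow p H) (Q : Sylow p K) (R : Sylow p G),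
      ((R : Subgroup G) : Set G) = (((P : Subgroup H).map H.subtype : Subgroup G) : Set G) *
        (((Q : Subgroup K).map K.subtype : Subgroup G) : Set G) := by
  obtain ⟨P⟩ : Nonempty (Sylow p H) := inferInstance
  obtain ⟨Q⟩ : Nonempty (Sylow p K) := inferInstance
  obtain ⟨R, hR⟩ := (P.2.map H.subtype).exists_le_sylow
  obtain ⟨R', hR'⟩ := (Q.2.map K.subtype).exists_le_sylow
  obtain ⟨g, hg⟩ := MulAction.exists_smul_eq G R R'
  obtain ⟨h, hh, k, hk, hgk⟩ := hHK g⁻¹
  let h' : H := ⟨h⁻¹, inv_mem hh⟩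
  let k' : K := ⟨k, hk⟩
  refine ⟨h' • P, k' • Q, h⁻¹ • R, ?_⟩
  have hPR : ((h' • P : Sylow p H) : Subgroup H).map H.subtype ≤ (h⁻¹ • R : Sylow p G) := by
    rintro _ ⟨x, hx, rfl⟩
    rw [SetLike.mem_coe, Sylow.coe_subgroup_smul, Subgroup.mem_pointwise_smul_iff_inv_smul_mem] at hx
    rw [Sylow.coe_subgroup_smul, Subgroup.mem_pointwise_smul_iff_inv_smul_mem]
    have h1 := hR (Subgroup.mem_map_of_mem H.subtype hx)
    simpa [MulAut.smul_def, h'] using h1
  have hQR : ((k' • Q : Sylow p K) : Subgroup K).map K.subtype ≤ (h⁻¹ • R : Sylow p G) := by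
    rintro _ ⟨x, hx, rfl⟩
    rw [SetLike.mem_coe, Sylow.coe_subgroup_smul, Subgroup.mem_pointwise_smul_iff_inv_smul_mem] at hx
    rw [Sylow.coe_subgroup_smul, Subgroup.mem_pointwise_smul_iff_inv_smul_mem]
    have h1 := hR' (Subgroup.mem_map_of_mem K.subtype hx)
    rw [← hg, Sylow.coe_subgroup_smul, Subgroup.mem_pointwise_smul_iff_inv_smul_mem] at h1
    have hgg : g⁻¹ = h * k := hgk
    simp only [MulAut.smul_def, map_inv, inv_inv, MulAut.conj_apply, MulAut.conj_inv_apply] at h1 ⊢
    simpa [k', mul_assoc, show g = k⁻¹ * h⁻¹ by rw [← inv_inv g, hgg, mul_inv_rev]] using h1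
  set A := ((h' • P : Sylow p H) : Subgroup H).map H.subtype
  set B := ((k' • Q : Sylow p K) : Subgroup K).map K.subtype
  set T := ((h⁻¹ • R : Sylow p G) : Subgroup G)
  have hsub : (A : Set G) * (B : Set G) ⊆ (T : Set G) := by
    rintro _ ⟨a, ha, b, hb, rfl⟩
    exact mul_mem (hPR ha) (hQR hb)
  refine (Set.eq_of_subset_of_ncard_le hsub ?_ (Set.toFinite _)).symm
  rw [← Nat.card_coe_set_eq, ← Nat.card_coe_set_eq]
  show Nat.card T ≤ _
  have hcardA : Nat.card A = p ^ (Nat.card H).factorization p := by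
    rw [Subgroup.card_map_of_injective H.subtype_injective, Sylow.card_eq_multiplicity]
  have hcardB : Nat.card B = p ^ (Nat.card K).factorization p := by
    rw [Subgroup.card_map_of_injective K.subtype_injective, Sylow.card_eq_multiplicity]
  have hinf : Nat.card (A ⊓ B : Subgroup G) ≤ p ^ (Nat.card (H ⊓ K : Subgroup G)).factorization p := by
    obtain ⟨i, hi⟩ := IsPGroup.iff_card.mp
      (((h' • P).2.map H.subtype).to_le (inf_le_left : A ⊓ B ≤ A))
    rw [hi]
    refine Nat.pow_le_pow_right (Fact.out : p.Prime).pos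
      (((Fact.out : p.Prime).pow_dvd_iff_le_factorization Nat.card_pos.ne').mp (hi ▸ ?_))
    exact Subgroup.card_dvd_of_le (inf_le_inf (Subgroup.map_subtype_le _) (Subgroup.map_subtype_le _))
  have h1 := card_mul_set_mul_card_inf A B
  have h2 := card_mul_set_mul_card_inf H K
  have huniv : (H : Set G) * (K : Set G) = Set.univ := Set.eq_univ_of_forall fun x => by
    obtain ⟨a, ha, b, hb, rfl⟩ := hHK x
    exact Set.mul_mem_mul ha hb
  rw [huniv, Nat.card_congr (Equiv.Set.univ G)] at h2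
  have h3 := congrArg (fun m => m.factorization p) h2
  simp only [Nat.factorization_mul Nat.card_pos.ne' Nat.card_pos.ne', Finsupp.add_apply] at h3
  rw [Sylow.card_eq_multiplicity]
  refine Nat.le_of_mul_le_mul_right ?_ (Nat.card_pos (α := (A ⊓ B : Subgroup G)))
  calc p ^ (Nat.card G).factorization p * Nat.card (A ⊓ B : Subgroup G)
      ≤ p ^ (Nat.card G).factorization p * p ^ (Nat.card (H ⊓ K : Subgroup G)).factorization p :=
        Nat.mul_le_mul_left _ hinf
    _ = Nat.card A * Nat.card B := by rw [hcardA, hcardB, ← pow_add, ← pow_add, h3]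
    _ = _ := h1.symm

/-- Kegel's lemma. -/
theorem exists_normal_of_permutable [Finite G] (A B : Subgroup G) (hB : B ≠ ⊥)
    (h : ∀ x : G, ∃ S : Subgroup G, S ≠ ⊤ ∧
      (S : Set G) = (A : Set G) * ((MulAut.conj x • B : Subgroup G) : Set G)) :
    ∃ N : Subgroup G, N.Normal ∧ N ≠ ⊤ ∧ (A ≤ N ∨ B ≤ N) := by
  obtain ⟨c, hc⟩ : ∃ c, Nat.card G - Nat.card A = c := ⟨_, rfl⟩
  induction c using Nat.strongRecOn generalizing A with
  | ind c ih =>
  have hleS : ∀ {x : G} {S : Subgroup G},
      (S : Set G) = (A : Set G) * ((MulAut.conj x • B : Subgroup G) : Set G) →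
      A ≤ S ∧ MulAut.conj x • B ≤ S := fun {x S} hS =>
    ⟨fun a ha => by
        show a ∈ (S : Set G)
        rw [hS]; exact ⟨a, ha, 1, one_mem _, mul_one a⟩,
      fun b hb => by
        show b ∈ (S : Set G)
        rw [hS]; exact ⟨1, one_mem _, b, hb, one_mul b⟩⟩
  by_cases hall : ∀ y : G, MulAut.conj y • B ≤ Subgroup.normalizer (A : Set G)
  · by_cases hBn : Subgroup.normalClosure (B : Set G) = ⊤
    · refine ⟨A, Subgroup.normalizer_eq_top_iff.mp (top_le_iff.mp (hBn ▸ ?_)), ?_, Or.inl le_rfl⟩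
      · refine le_trans (Subgroup.normalClosure_le_normal (N := (Subgroup.normalizer (A : Set G)).normalCore)
          fun b hb y => ?_) (Subgroup.normalCore_le _)
        refine hall y ?_
        rw [Coprime.mem_conj_smul]
        simpa [mul_assoc] using hb
      · intro hA
        obtain ⟨S, hS, hSeq⟩ := h 1
        exact hS (top_le_iff.mp (hA ▸ (hleS hSeq).1))
    · exact ⟨_, Subgroup.normalClosure_normal, hBn, Or.inr Subgroup.le_normalClosure⟩
  push Not at hall
  obtain ⟨y, hy⟩ := hall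
  obtain ⟨x, hx, hxA⟩ := Set.not_subset.mp hy
  set A' := A ⊔ MulAut.conj x • A with hA'
  have hAA' : A < A' := lt_of_le_of_ne le_sup_left fun e =>
    hxA (Coprime.mem_normalizer_of_conj_smul_eq (Coprime.eq_of_le_of_card_le
      (show MulAut.conj x • A ≤ A from le_sup_right.trans e.ge) (Coprime.card_conj_smul x A).ge))
  obtain ⟨S, hStop, hS⟩ := h y
  have hA'S : A' ≤ S := by
    refine sup_le (hleS hS).1 fun z hz => ?_
    rw [Coprime.mem_conj_smul] at hz
    have hxS := (hleS hS).2 hx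
    have := mul_mem (mul_mem hxS ((hleS hS).1 hz)) (inv_mem hxS)
    simpa [mul_assoc] using this
  have hperm : ∀ z : G, (A' : Set G) * ((MulAut.conj z • B : Subgroup G) : Set G) =
      ((MulAut.conj z • B : Subgroup G) : Set G) * (A' : Set G) := by
    intro z
    set Bz := MulAut.conj z • B
    have hsub : ∀ C : Subgroup G, (∀ w : G, (∃ T : Subgroup G, (T : Set G) = (C : Set G) *
        ((MulAut.conj w • B : Subgroup G) : Set G))) → ∀ w : G,
        (C : Set G) * ((MulAut.conj w • B : Subgroup G) : Set G) =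
          ((MulAut.conj w • B : Subgroup G) : Set G) * (C : Set G) := by
      intro C hC w
      obtain ⟨T, hT⟩ := hC w
      have hinv : (T : Set G)⁻¹ = (T : Set G) := inv_coe_set (H := T)
      rw [hT, mul_inv_rev, inv_coe_set, inv_coe_set] at hinv
      exact hinv.symm
    have h1 := hsub A (fun w => (h w).imp fun T hT => hT.2) z
    have h2 := hsub (MulAut.conj x • A) (fun w => by
      obtain ⟨T, -, hT⟩ := h (x⁻¹ * w)
      refine ⟨MulAut.conj x • T, ?_⟩
      rw [Subgroup.coe_pointwise_smul, hT, smul_mul', ← Subgroup.coe_pointwise_smul,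
        ← Subgroup.coe_pointwise_smul, ← Coprime.conj_mul_smul, mul_inv_cancel_left]) z
    -- both permute with `Bz`
    have hBsub : ((A' : Set G) * (Bz : Set G)) ⊆ (Bz : Set G) * (A' : Set G) := by
      rintro _ ⟨a, ha, b, hb, rfl⟩
      have hA'le : A' ≤ Subgroup.closure ((A : Set G) ∪ ((MulAut.conj x • A : Subgroup G) : Set G)) := by
        rw [hA', Subgroup.sup_eq_closure]
      have key : ∀ a ∈ Subgroup.closure ((A : Set G) ∪ ((MulAut.conj x • A : Subgroup G) : Set G)),
          ∀ b ∈ Bz, ∃ b' ∈ Bz, ∃ a' ∈ A', a * b = b' * a' := by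
        intro a ha
        have hgen : ∀ a ∈ ((A : Set G) ∪ ((MulAut.conj x • A : Subgroup G) : Set G)),
            ∀ b ∈ Bz, ∃ b' ∈ Bz, ∃ a' ∈ A', a * b = b' * a' := by
          rintro a (ha | ha) b hb
          · obtain ⟨b', hb', a', ha', he⟩ : a * b ∈ (Bz : Set G) * (A : Set G) :=
              h1 ▸ Set.mul_mem_mul ha hb
            exact ⟨b', hb', a', Subgroup.mem_sup_left ha', he.symm⟩
          · obtain ⟨b', hb', a', ha', he⟩ : a * b ∈ (Bz : Set G) * ((MulAut.conj x • A : Subgroup G) : Set G) :=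
              h2 ▸ Set.mul_mem_mul ha hb
            exact ⟨b', hb', a', Subgroup.mem_sup_right ha', he.symm⟩
        induction ha using Subgroup.closure_induction_left with
        | one => exact fun b hb => ⟨b, hb, 1, one_mem _, by group⟩
        | mul_left u hu v hv ih =>
          intro b hb
          obtain ⟨b', hb', a', ha', he⟩ := ih b hb
          obtain ⟨b'', hb'', a'', ha'', he'⟩ := hgen u hu b' hb'
          refine ⟨b'', hb'', a'' * a', mul_mem ha'' ha', ?_⟩
          calc u * v * b = u * (v * b) := mul_assoc _ _ _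
            _ = (u * b') * a' := by rw [he, mul_assoc]
            _ = b'' * (a'' * a') := by rw [he', mul_assoc]
        | inv_mul_cancel u hu v hv ih =>
          intro b hb
          obtain ⟨b', hb', a', ha', he⟩ := ih b hb
          obtain ⟨b'', hb'', a'', ha'', he'⟩ := hgen u⁻¹
            (hu.imp (fun h => inv_mem h) fun h => inv_mem h) b' hb'
          refine ⟨b'', hb'', a'' * a', mul_mem ha'' ha', ?_⟩
          calc u⁻¹ * v * b = u⁻¹ * (v * b) := mul_assoc _ _ _
            _ = (u⁻¹ * b') * a' := by rw [he, mul_assoc]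
            _ = b'' * (a'' * a') := by rw [he', mul_assoc]
      obtain ⟨b', hb', a', ha', he⟩ := key a (hA'le ha) b hb
      exact ⟨b', hb', a', ha', he.symm⟩
    exact le_antisymm hBsub (by
      intro w hw
      have h3 : w⁻¹ ∈ (A' : Set G) * (Bz : Set G) := by
        obtain ⟨b, hb, a, ha, rfl⟩ := hw
        exact ⟨a⁻¹, inv_mem ha, b⁻¹, inv_mem hb, by group⟩
      obtain ⟨b, hb, a, ha, hba⟩ := hBsub h3
      refine ⟨a⁻¹, inv_mem ha, b⁻¹, inv_mem hb, ?_⟩
      show a⁻¹ * b⁻¹ = w
      rw [← mul_inv_rev, show b * a = w⁻¹ from hba, inv_inv])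
  have hnew : ∀ z : G, ∃ T : Subgroup G, T ≠ ⊤ ∧
      (T : Set G) = (A' : Set G) * ((MulAut.conj z • B : Subgroup G) : Set G) := by
    intro z
    refine ⟨A' ⊔ MulAut.conj z • B, fun htop => ?_, coe_sup_of_mul_comm (hperm z)⟩
    have huniv : ∀ g : G, ∃ s ∈ S, ∃ b ∈ B, g = s * (z * b * z⁻¹) := by
      intro g
      have hg : g ∈ ((A' ⊔ MulAut.conj z • B : Subgroup G) : Set G) := by rw [htop]; trivial
      rw [coe_sup_of_mul_comm (hperm z)] at hg
      obtain ⟨a, ha, b, hb, rfl⟩ := hg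
      rw [SetLike.mem_coe, Coprime.mem_conj_smul] at hb
      exact ⟨a, hA'S ha, z⁻¹ * b * z, hb, by group⟩
    obtain ⟨s₀, hs₀, b₀, hb₀, hz⟩ := huniv z⁻¹
    have hzSB : ∃ s ∈ S, ∃ b ∈ B, z = s * b := by
      refine ⟨s₀⁻¹, inv_mem hs₀, b₀⁻¹, inv_mem hb₀, ?_⟩
      calc z = z⁻¹ * z * z * (b₀ * b₀⁻¹) := by group
        _ = s₀⁻¹ * (s₀ * (z * b₀ * z⁻¹)) * z * b₀⁻¹ * 1 := by group
        _ = s₀⁻¹ * z⁻¹ * z * b₀⁻¹ := by rw [← hz, mul_one]
        _ = _ := by group
    obtain ⟨s, hs, b, hb, rfl⟩ := hzSB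
    -- so `G = S B`
    have hSB : ∀ g : G, ∃ s' ∈ S, ∃ b' ∈ B, g = s' * b' := by
      intro g
      obtain ⟨s', hs', b', hb', hg⟩ := huniv (g * s⁻¹)
      refine ⟨s' * s, mul_mem hs' hs, b * b' * b⁻¹, mul_mem (mul_mem hb hb') (inv_mem hb), ?_⟩
      calc g = g * s⁻¹ * s := by group
        _ = _ := by rw [hg]; group
    obtain ⟨t, ht, c, hc', rfl⟩ := hSB y
    have hBS : B ≤ S := by
      intro w hw
      have h1 : (t * c) * (c⁻¹ * w * c) * (t * c)⁻¹ ∈ S := (hleS hS).2 (by
        rw [Coprime.mem_conj_smul]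
        simpa [mul_assoc] using mul_mem (mul_mem (inv_mem hc') hw) hc')
      have h2 := mul_mem (mul_mem (inv_mem ht) h1) ht
      simpa [mul_assoc] using h2
    exact hStop (eq_top_iff.mpr fun g _ => by
      obtain ⟨s', hs', b', hb', rfl⟩ := hSB g
      exact mul_mem hs' (hBS hb'))
  have hlt : Nat.card G - Nat.card A' < c := by
    have h1 : Nat.card A < Nat.card A' := lt_of_not_ge fun e =>
      hAA'.ne (Coprime.eq_of_le_of_card_le hAA'.le e)
    have h2 := Subgroup.card_le_card_group A'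
    omega
  obtain ⟨N, hN, hNt, hAN⟩ := ih _ hlt A' hnew rfl
  exact ⟨N, hN, hNt, hAN.imp (fun e => le_sup_left.trans e) id⟩

end Cfsg.Agent.Lib.Solvable.Products
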