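import Cfsg.Agent.Lib.Cores
import Cfsg.Agent.Lib.Coprime.Basic

/-!
Elementary facts about nilpotent groups and the Frattini subgroup.
-/

set_option autoImplicit false

open Pointwise
open scoped commutatorElement

namespace Cfsg.Agent.Lib.Solvable

variable {G : Type*} [Group G]

/-- In a nilpotent group a nontrivial normal subgroup meets the centre. -/
theorem inf_center_ne_bot [Group.IsNilpotent G] {N : Subgroup G} [N.Normal] (hN : N ≠ ⊥) :
    N ⊓ Subgroup.center G ≠ ⊥ := by
  intro h
  obtain ⟨n, hn⟩ := Subgroup.nilpotent_iff_lowerCentralSeries.mp ‹Group.IsNilpotent G›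
  have key : ∀ j, j ≤ n → N ⊓ (⊤ : Subgroup G).lowerCentralSeries (n - j) = ⊥ := by
    intro j
    induction j with
    | zero => intro _; rw [Nat.sub_zero, hn, inf_bot_eq]
    | succ j ih =>
      intro hj
      rw [eq_bot_iff, ← h]
      refine le_inf inf_le_left fun x hx => Subgroup.mem_center_iff.mpr fun g => ?_
      have h2 : ⁅x, g⁆ ∈ N ⊓ (⊤ : Subgroup G).lowerCentralSeries (n - j) := by
        refine Subgroup.mem_inf.mpr ⟨Subgroup.commutator_le_left N ⊤
          (Subgroup.commutator_mem_commutator hx.1 (Subgroup.mem_top g)), ?_⟩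
        have h3 : n - j = (n - (j + 1)) + 1 := by omega
        rw [h3, Subgroup.lowerCentralSeries_succ]
        exact Subgroup.commutator_mem_commutator hx.2 (Subgroup.mem_top g)
      rw [ih (by omega), Subgroup.mem_bot, commutatorElement_eq_one_iff_commute] at h2
      exact h2.eq.symm
  have := key n le_rfl
  rw [Nat.sub_self, Subgroup.lowerCentralSeries_zero, inf_top_eq] at this
  exact hN this

/-- A normal subgroup `A` with `A/B` nilpotent and `B ≤ Φ(G)` is nilpotent. -/
theorem isNilpotent_of_quotient_le_frattini [Finite G] (A B : Subgroup G) [A.Normal] [B.Normal]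
    (hBA : B ≤ A) (hB : B ≤ frattini G) (h : Group.IsNilpotent (↥A ⧸ B.subgroupOf A)) :
    Group.IsNilpotent A := by
  refine ((Group.isNilpotent_of_finite_tfae (G := A)).out 0 3 rfl rfl).mpr ?_
  intro p hp P
  let π : A →* A ⧸ B.subgroupOf A := QuotientGroup.mk' _
  have hπ : Function.Surjective π := QuotientGroup.mk'_surjective _
  have huniq : ∀ Q : Sylow p A, (Q : Subgroup A) ≤ (P : Subgroup A) ⊔ B.subgroupOf A := by
    intro Q
    let R : Sylow p (A ⧸ B.subgroupOf A) := P.mapSurjective hπ
    have hn : (R : Subgroup (A ⧸ B.subgroupOf A)).Normal :=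
      ((Group.isNilpotent_of_finite_tfae (G := A ⧸ B.subgroupOf A)).out 0 3 rfl rfl).mp h p hp _
    have : Subsingleton (Sylow p (A ⧸ B.subgroupOf A)) :=
      @Unique.instSubsingleton _ (_root_.Sylow.unique_of_normal R hn)
    have heq := congrArg (fun R : Sylow p (A ⧸ B.subgroupOf A) => (R : Subgroup (A ⧸ B.subgroupOf A)))
      (Subsingleton.elim (Q.mapSurjective hπ) (P.mapSurjective hπ))
    simp only [Sylow.coe_mapSurjective] at heq
    calc (Q : Subgroup A) ≤ ((Q : Subgroup A).map π).comap π := Subgroup.le_comap_map _ _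
      _ = (P : Subgroup A) ⊔ B.subgroupOf A := by
        rw [heq, Subgroup.comap_map_eq, QuotientGroup.ker_mk']
  set P' := (P : Subgroup A).map A.subtype with hP'
  set K := P' ⊔ B with hK
  have hKA : K ≤ A := sup_le (Subgroup.map_subtype_le _) hBA
  have hKn : K.Normal := by
    rw [← Subgroup.normalizer_eq_top_iff, eq_top_iff]
    intro g _
    refine Coprime.mem_normalizer_of_conj_smul_eq (Coprime.eq_of_le_of_card_le ?_
      (by rw [Coprime.card_conj_smul]))
    rw [hK, Subgroup.smul_sup, Coprime.conj_smul_eq_of_mem_normalizer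
      (Subgroup.le_normalizer_of_normal (Subgroup.mem_top g) :
        g ∈ Subgroup.normalizer (B : Set G))]
    refine sup_le ?_ le_sup_right
    have hgP : MulAut.conj g • P' ≤ A := by
      intro x hx
      rw [Coprime.mem_conj_smul] at hx
      simpa [mul_assoc] using
        Subgroup.Normal.conj_mem ‹A.Normal› _ (Subgroup.map_subtype_le _ hx) g
    have hp' : IsPGroup p ((MulAut.conj g • P' : Subgroup G).subgroupOf A) :=
      (Coprime.isPGroup_conj_smul (P.2.map _)).comap_of_injective A.subtype A.subtype_injective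
    obtain ⟨Q, hQ⟩ := hp'.exists_le_sylow
    intro x hx
    have h1 := huniq Q (hQ (show (⟨x, hgP hx⟩ : A) ∈ _ from hx))
    have h2 := Subgroup.mem_map_of_mem A.subtype h1
    rwa [Subgroup.map_sup, Subgroup.map_subgroupOf_eq_of_le hBA] at h2
  have hP'K : P' ≤ K := le_sup_left
  have hc : Nat.card (P'.subgroupOf K) = p ^ (Nat.card K).factorization p := by
    rw [Nat.card_congr (Subgroup.subgroupOfEquivOfLe hP'K).toEquiv]
    have e1 : Nat.card P' = p ^ (Nat.card A).factorization p := by
      rw [hP', Nat.card_congr ((P : Subgroup A).equivMapOfInjective A.subtype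
        A.subtype_injective).toEquiv.symm, P.card_eq_multiplicity]
    rw [e1]
    congr 1
    refine le_antisymm ?_ ((Nat.factorization_le_iff_dvd Nat.card_pos.ne' Nat.card_pos.ne').mpr
      (Subgroup.card_dvd_of_le hKA) p)
    exact (hp.out.pow_dvd_iff_le_factorization Nat.card_pos.ne').mp
      (e1 ▸ Subgroup.card_dvd_of_le hP'K)
  have harg := Sylow.normalizer_sup_eq_top (Sylow.ofCard (P'.subgroupOf K) hc)
  rw [Sylow.coe_ofCard, Subgroup.map_subgroupOf_eq_of_le hP'K, hK, ← sup_assoc,
    sup_eq_left.mpr (Subgroup.le_normalizer : P' ≤ _)] at harg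
  have htop : Subgroup.normalizer (P' : Set G) = ⊤ :=
    frattini_nongenerating (eq_top_iff.mpr (harg ▸ sup_le_sup_left hB _))
  have : P'.Normal := Subgroup.normalizer_eq_top_iff.mp htop
  exact this.of_map_subtype

end Cfsg.Agent.Lib.Solvable
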