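import Cfsg.Agent.Lib.Solvable.ThompsonComplement
import Cfsg.Agent.Lib.Frobenius.Action
import Cfsg.Agent.Lib.Frobenius.Structure
import Cfsg.Agent.Lib.Cores

/-!
Thompson's theorem: a finite group with a fixed-point-free automorphism of prime order is nilpotent.
-/

set_option autoImplicit false

universe u

namespace Cfsg.Agent.Lib.Solvable.FixedPointFree

open Cfsg.Agent.Lib

variable {G : Type u} [Group G]

/-- A nilpotent group has a normal `p`-complement. -/
theorem hasNormalPComplement_of_isNilpotent [Finite G] [Group.IsNilpotent G] (p : ℕ)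
    [Fact p.Prime] : Cfsg.HasNormalPComplement p G := by
  have htop : Cfsg.pCore p G ⊔ Cfsg.pPrimeCore p G = ⊤ := top_le_iff.mp
    ((Cores.fittingSubgroup_eq_top_iff.mpr inferInstance).ge.trans
      (Cores.fittingSubgroup_le_pCore_sup_pPrimeCore p))
  obtain ⟨k, hk⟩ := IsPGroup.iff_card.mp (Cores.pCore_isPGroup p G)
  refine Transfer.hasNormalPComplement_of_coprime_of_index (Cfsg.pPrimeCore p G)
    (Cores.pPrimeCore_coprime p G) (k := k) ?_
  have h := Cores.card_sup_mul_card_inf (Cfsg.pCore p G) (Cfsg.pPrimeCore p G)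
  rw [htop, Cores.pCore_inf_pPrimeCore, Subgroup.card_top, Subgroup.card_bot, mul_one, hk,
    ← (Cfsg.pPrimeCore p G).index_mul_card] at h
  exact Nat.eq_of_mul_eq_mul_right Nat.card_pos h

theorem mem_iff_of_map_eq {σ : MulAut G} {H : Subgroup G} (h : H.map σ.toMonoidHom = H) (x : G) :
    σ x ∈ H ↔ x ∈ H := by
  constructor
  · intro hx
    rw [← h] at hx
    obtain ⟨y, hy, hyx⟩ := hx
    exact σ.injective hyx ▸ hy
  · intro hx
    rw [← h]
    exact ⟨x, hx, rfl⟩

theorem map_eq_of_le [Finite G] {σ : MulAut G} {H : Subgroup G}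
    (h : ∀ x ∈ H, σ x ∈ H) : H.map σ.toMonoidHom = H := by
  refine Coprime.eq_of_le_of_card_le ?_ (Subgroup.card_map_of_injective σ.injective).ge
  rintro _ ⟨x, hx, rfl⟩
  exact h x hx

theorem map_normalizer {σ : MulAut G} {H : Subgroup G} (h : H.map σ.toMonoidHom = H) :
    (Subgroup.normalizer (H : Set G)).map σ.toMonoidHom = Subgroup.normalizer (H : Set G) := by
  rw [Subgroup.map_normalizer_eq_of_bijective H (f := σ.toMonoidHom) σ.bijective, h]

theorem map_centralizer [Finite G] {σ : MulAut G} {H : Subgroup G}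
    (h : H.map σ.toMonoidHom = H) :
    (Subgroup.centralizer (H : Set G)).map σ.toMonoidHom = Subgroup.centralizer (H : Set G) := by
  refine map_eq_of_le fun x hx => Subgroup.mem_centralizer_iff.mpr fun y hy => ?_
  obtain ⟨z, rfl⟩ := σ.surjective y
  rw [← map_mul, ← map_mul, Subgroup.mem_centralizer_iff.mp hx z ((mem_iff_of_map_eq h z).mp hy)]

/-- The restriction of an automorphism to an invariant subgroup. -/
def restrict (σ : MulAut G) (H : Subgroup G) (h : H.map σ.toMonoidHom = H) : MulAut H where
  toFun x := ⟨σ x, (mem_iff_of_map_eq h x).mpr x.2⟩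
  invFun x := ⟨σ.symm x, (mem_iff_of_map_eq h _).mp (by rw [σ.apply_symm_apply]; exact x.2)⟩
  left_inv x := Subtype.ext (σ.symm_apply_apply x)
  right_inv x := Subtype.ext (σ.apply_symm_apply x)
  map_mul' x y := Subtype.ext (map_mul σ (x : G) y)

theorem restrict_pow (σ : MulAut G) (H : Subgroup G) (h : H.map σ.toMonoidHom = H) (n : ℕ)
    (x : H) : (((restrict σ H h) ^ n) x : G) = (σ ^ n) (x : G) := by
  induction n generalizing x with
  | zero => rfl
  | succ n ih =>
    rw [pow_succ, pow_succ, MulAut.mul_apply, MulAut.mul_apply, ih]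
    rfl

/-- The restriction as a homomorphism, on a group of automorphisms leaving `H` invariant. -/
def restrictHom (S : Subgroup (MulAut G)) (H : Subgroup G)
    (hS : ∀ a ∈ S, H.map a.toMonoidHom = H) : S →* MulAut H where
  toFun a := restrict a H (hS a a.2)
  map_one' := MulEquiv.ext fun _ => Subtype.ext rfl
  map_mul' _ _ := MulEquiv.ext fun _ => Subtype.ext rfl

theorem invariant_zpowers [Finite G] {σ : MulAut G} {H : Subgroup G}
    (h : H.map σ.toMonoidHom = H) : ∀ a ∈ Subgroup.zpowers σ, H.map a.toMonoidHom = H := by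
  intro a ha
  obtain ⟨n, rfl⟩ := (isOfFinOrder_of_finite σ).mem_powers_iff_mem_zpowers.mpr ha
  refine map_eq_of_le ?_
  clear ha
  induction n with
  | zero => exact fun x hx => by simpa using hx
  | succ n ih =>
    intro x hx
    show (σ ^ (n + 1)) x ∈ H
    rw [pow_succ, MulAut.mul_apply]
    exact ih _ ((mem_iff_of_map_eq h x).mpr hx)

theorem fixed_trivial_of_ne_one {r : ℕ} (hr : r.Prime) {σ : MulAut G} (hpow : σ ^ r = 1)
    (hσ : ∀ g, σ g = g → g = 1) {a : MulAut G} (ha : a ∈ Subgroup.zpowers σ) (ha1 : a ≠ 1)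
    (g : G) (hg : a g = g) : g = 1 := by
  have hord : orderOf σ = r := by
    rcases (Nat.dvd_prime hr).mp (orderOf_dvd_of_pow_eq_one hpow) with h | h
    · refine absurd ?_ ha1
      rw [orderOf_eq_one_iff] at h
      subst h
      rw [Subgroup.zpowers_one_eq_bot, Subgroup.mem_bot] at ha
      exact ha
    · exact h
  haveI := Fact.mk hr
  have hσa : σ ∈ Subgroup.zpowers a := by
    have h1 : (⟨σ, Subgroup.mem_zpowers σ⟩ : Subgroup.zpowers σ) ∈
        Subgroup.zpowers (⟨a, ha⟩ : Subgroup.zpowers σ) :=
      mem_zpowers_of_prime_card (by rw [Nat.card_zpowers, hord])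
        (fun h => ha1 (congrArg Subtype.val h))
    obtain ⟨i, hi⟩ := h1
    exact ⟨i, congrArg Subtype.val hi⟩
  let S : Subgroup (MulAut G) :=
    { carrier := {b | b g = g}
      one_mem' := rfl
      mul_mem' := fun {b c} hb hc => by
        show (b * c) g = g
        rw [MulAut.mul_apply, hc, hb]
      inv_mem' := fun {b} hb => by
        show b⁻¹ g = g
        nth_rw 1 [← hb]
        exact b.symm_apply_apply g }
  exact hσ g (show σ ∈ S from (Subgroup.zpowers_le.mpr (show a ∈ S from hg)) hσa)

theorem main_aux {r : ℕ} (hr : r.Prime) : ∀ (n : ℕ) (G : Type u) [Group G] [Finite G],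
    Nat.card G = n → ∀ σ : MulAut G, σ ^ r = 1 → (∀ g, σ g = g → g = 1) →
    Group.IsNilpotent G := by
  intro n
  induction n using Nat.strongRecOn with
  | ind n IH =>
  intro G _ _ hn σ hpow hσ
  by_contra hG
  have hsub : ∀ H : Subgroup G, H.map σ.toMonoidHom = H → H ≠ ⊤ → Group.IsNilpotent H :=
    fun H hH hHtop => IH _ (hn ▸ ThompsonComplement.card_lt_of_ne_top hHtop) H rfl
      (restrict σ H hH) (MulEquiv.ext fun x => Subtype.ext (by rw [restrict_pow, hpow]; rfl))
      (fun x hx => Subtype.ext (hσ x (congrArg Subtype.val hx)))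
  have hquot : ∀ (N : Subgroup G) [N.Normal], N.map σ.toMonoidHom = N → N ≠ ⊥ →
      Group.IsNilpotent (G ⧸ N) := by
    intro N _ hN hN0
    let τ : MulAut (G ⧸ N) := QuotientGroup.congr N N σ hN
    have hτ : ∀ (k : ℕ) (g : G), (τ ^ k) (g : G ⧸ N) = ((σ ^ k) g : G) := by
      intro k
      induction k with
      | zero => intro g; rfl
      | succ k ih =>
        intro g
        rw [pow_succ, pow_succ, MulAut.mul_apply, MulAut.mul_apply, ← ih]
        rfl
    refine IH _ (hn ▸ ThompsonComplement.card_quotient_lt hN0) (G ⧸ N) rfl τ ?_ ?_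
    · refine MulEquiv.ext fun x => ?_
      induction x using QuotientGroup.induction_on with
      | H g => rw [hτ, hpow]; rfl
    · intro x hx
      induction x using QuotientGroup.induction_on with
      | H g =>
        have h1 : ((σ g : G) : G ⧸ N) = (g : G) := hx
        rw [eq_comm, QuotientGroup.eq] at h1
        exact (QuotientGroup.eq_one_iff g).mpr (Frobenius.fixedPointFree_quotient σ hσ N
          (fun x hx => (mem_iff_of_map_eq hN x).mpr hx) h1)
  have hchar : ∀ (K : Subgroup G) [K.Characteristic], K.map σ.toMonoidHom = K := fun K hK =>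
    Subgroup.characteristic_iff_map_eq.mp hK σ
  have hnonp : ∀ p : ℕ, [Fact p.Prime] → ¬ IsPGroup p G := fun p _ h => hG h.isNilpotent
  haveI : Nontrivial G := by
    by_contra h
    rw [not_nontrivial_iff_subsingleton] at h
    exact hG inferInstance
  -- solvability
  have hsolv : Group.IsSolvable G := by
    by_contra hns
    have hext : ∀ (N : Subgroup G) [N.Normal], N.map σ.toMonoidHom = N → N ≠ ⊥ → N = ⊤ := by
      intro N _ hN hN0
      by_contra hNtop
      haveI := hquot N hN hN0
      haveI := hsub N hN hNtop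
      exact hns (Group.isSolvable_of_ker_le_range N.subtype (QuotientGroup.mk' N)
        (by rw [QuotientGroup.ker_mk', Subgroup.range_subtype]))
    obtain ⟨p, hp, hp2, hpd⟩ : ∃ p, p.Prime ∧ p ≠ 2 ∧ p ∣ Nat.card G := by
      by_contra h
      push Not at h
      refine hnonp 2 (IsPGroup.of_card (n := (Nat.card G).primeFactorsList.length) ?_)
      exact Nat.eq_prime_pow_of_unique_prime_dvd Nat.card_pos.ne' fun {d} hd hdd => by
        by_contra hd2
        exact h d hd hd2 hdd
    haveI := Fact.mk hp
    obtain ⟨P, hP⟩ := Frobenius.exists_invariant_sylow p σ hσ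
    have hPm : (P : Subgroup G).map σ.toMonoidHom = P := map_eq_of_le hP
    have hP0 : (P : Subgroup G) ≠ ⊥ := fun h => by
      have h1 := P.dvd_card_of_dvd_card hpd
      rw [h, Subgroup.card_bot] at h1
      exact hp.not_dvd_one h1
    have hsmall : ∀ Y : Subgroup G, Y.map σ.toMonoidHom = Y → IsPGroup p Y → Y ≠ ⊥ →
        Cfsg.HasNormalPComplement p (Subgroup.normalizer (Y : Set G)) := by
      intro Y hY hYp hY0
      by_cases htop : Subgroup.normalizer (Y : Set G) = ⊤
      · haveI : Y.Normal := Subgroup.normalizer_eq_top_iff.mp htop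
        exact absurd (hext Y hY hY0) fun h => hnonp p (by
          rw [h] at hYp; exact hYp.of_equiv Subgroup.topEquiv)
      · haveI := hsub _ (map_normalizer hY) htop
        exact hasNormalPComplement_of_isNilpotent p
    have hJm : (Cfsg.thompsonSubgroupOf p (P : Subgroup G)).map σ.toMonoidHom =
        Cfsg.thompsonSubgroupOf p (P : Subgroup G) := by
      rw [← ThompsonComplement.thompsonSubgroupOf_map p σ.toMonoidHom σ.injective, hPm]
    have hZm : ((P : Subgroup G) ⊓ Subgroup.centralizer ((P : Subgroup G) : Set G)).map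
        σ.toMonoidHom = (P : Subgroup G) ⊓ Subgroup.centralizer ((P : Subgroup G) : Set G) := by
      rw [Subgroup.map_inf _ _ σ.toMonoidHom σ.injective, hPm, map_centralizer hPm]
    have hnpc : Cfsg.HasNormalPComplement p G := ThompsonComplement.hasNormalPComplement hp2 P
      (hsmall _ hJm (P.2.to_le (LocalEven2.thompsonSubgroupOf_le _ _))
        (ThompsonComplement.thompsonSubgroupOf_ne_bot P.2 hP0))
      (Transfer.hasNormalPComplement_of_le (Subgroup.centralizer_le_normalizer _)
        (hsmall _ hZm (P.2.to_le inf_le_left) (ThompsonComplement.center_ne_bot P.2 hP0)))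
    have hK := Transfer.hasNormalPComplement_iff_coprime.mp hnpc
    by_cases hK0 : Cfsg.pResidual p G = ⊥
    · obtain ⟨k, hk⟩ := Transfer.exists_index_pResidual (G := G) (p := p)
      rw [hK0, Subgroup.index_bot] at hk
      exact hnonp p (IsPGroup.of_card hk)
    · rw [hext _ (hchar _) hK0, Subgroup.card_top, Transfer.coprime_iff_not_dvd] at hK
      exact hK hpd
  -- a minimal invariant normal subgroup
  obtain ⟨M, ⟨hMn, hM, hM0⟩, hmin⟩ := (Set.toFinite {M : Subgroup G |
      M.Normal ∧ M.map σ.toMonoidHom = M ∧ M ≠ ⊥}).exists_minimal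
    ⟨⊤, inferInstance, hchar _, top_ne_bot⟩
  have hminE : ∀ L : Subgroup G, L.Normal → L.map σ.toMonoidHom = L → L ≤ M → L = ⊥ ∨ L = M := by
    intro L hLn hL hLM
    by_cases h : L = ⊥
    · exact Or.inl h
    · exact Or.inr (le_antisymm hLM (hmin ⟨hLn, hL, h⟩ hLM))
  have hMc : IsMulCommutative M := by
    haveI := hsolv
    haveI : Nontrivial M := (Subgroup.nontrivial_iff_ne_bot M).mpr hM0
    rcases hminE ⁅M, M⁆ inferInstance (by rw [Subgroup.map_commutator, hM])
      (Subgroup.commutator_le_right M M) with h | h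
    · exact ⟨⟨fun x y => Subtype.ext (Subgroup.mem_centralizer_iff.mp
        (Subgroup.commutator_eq_bot_iff_le_centralizer.mp h y.2) x x.2)⟩⟩
    · refine absurd ?_ (IsSolvable.commutator_lt_top_of_nontrivial M).ne
      refine Subgroup.map_injective M.subtype_injective ?_
      rw [← MonoidHom.range_eq_map, Subgroup.range_subtype, commutator_def,
        Subgroup.map_commutator, ← MonoidHom.range_eq_map, Subgroup.range_subtype, h]
  have hMcomm : ∀ x ∈ M, ∀ y ∈ M, x * y = y * x := fun x hx y hy =>
    congrArg Subtype.val (hMc.is_comm.comm (⟨x, hx⟩ : M) ⟨y, hy⟩)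
  obtain ⟨p, hp, hpd⟩ := Nat.exists_prime_and_dvd (fun h => hM0 (Subgroup.card_eq_one.mp h))
  haveI := Fact.mk hp
  have hMp : IsPGroup p M := by
    obtain ⟨x, hx⟩ := exists_prime_orderOf_dvd_card' p hpd
    let E : Subgroup G :=
      { carrier := {x | x ∈ M ∧ x ^ p = 1}
        one_mem' := ⟨one_mem _, one_pow _⟩
        mul_mem' := fun {x y} hx hy => ⟨mul_mem hx.1 hy.1, by
          rw [(show Commute x y from hMcomm x hx.1 y hy.1).mul_pow, hx.2, hy.2, one_mul]⟩
        inv_mem' := fun {x} hx => ⟨inv_mem hx.1, by rw [inv_pow, hx.2, inv_one]⟩ }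
    rcases hminE E ⟨fun x hx g => ⟨hMn.conj_mem x hx.1 g, by
        rw [conj_pow, hx.2, mul_one, mul_inv_cancel]⟩⟩
      (map_eq_of_le fun x hx => ⟨(mem_iff_of_map_eq hM x).mpr hx.1, by
        rw [← map_pow, hx.2, map_one]⟩) (fun x hx => hx.1) with h | h
    · have hxE : (x : G) ∈ E := ⟨x.2, by rw [← hx, ← Subgroup.orderOf_coe, pow_orderOf_eq_one]⟩
      rw [h, Subgroup.mem_bot] at hxE
      rw [← Subgroup.orderOf_coe, hxE, orderOf_one] at hx
      exact absurd hx.symm hp.ne_one
    · intro y
      have hy : (y : G) ∈ E := h.ge y.2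
      exact ⟨1, Subtype.ext (by simpa using hy.2)⟩
  haveI := hMn
  haveI hGM := hquot M hM hM0
  obtain ⟨q, hq, hqp, hqd⟩ : ∃ q, q.Prime ∧ q ≠ p ∧ q ∣ Nat.card G := by
    by_contra h
    push Not at h
    refine hnonp p (IsPGroup.of_card (n := (Nat.card G).primeFactorsList.length) ?_)
    exact Nat.eq_prime_pow_of_unique_prime_dvd Nat.card_pos.ne' fun {d} hd hdd => by
      by_contra hd2
      exact h d hd hd2 hdd
  haveI := Fact.mk hq
  obtain ⟨Q, hQ⟩ := Frobenius.exists_invariant_sylow q σ hσ
  have hQm : (Q : Subgroup G).map σ.toMonoidHom = Q := map_eq_of_le hQ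
  have hQ0 : (Q : Subgroup G) ≠ ⊥ := fun h => by
    have h1 := Q.dvd_card_of_dvd_card hqd
    rw [h, Subgroup.card_bot] at h1
    exact hq.not_dvd_one h1
  obtain ⟨j, hj⟩ := IsPGroup.iff_card.mp Q.2
  obtain ⟨i, hi⟩ := IsPGroup.iff_card.mp hMp
  have hcop : (Nat.card (Q : Subgroup G)).Coprime (Nat.card M) :=
    hj ▸ hi ▸ Nat.Coprime.pow _ _ ((Nat.coprime_primes hq hp).mpr hqp)
  have hQn : ¬ (Q : Subgroup G).Normal := by
    intro hn'
    haveI := hn'
    haveI := hquot (Q : Subgroup G) hQm hQ0
    refine hG (Cores.isNilpotent_of_injective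
      ((QuotientGroup.mk' (Q : Subgroup G)).prod (QuotientGroup.mk' M)) ?_)
    rw [← MonoidHom.ker_eq_bot_iff, MonoidHom.ker_prod, QuotientGroup.ker_mk',
      QuotientGroup.ker_mk']
    exact Coprime.inf_eq_bot_of_coprime_card hcop
  -- `G = MQ`
  have hMQ : (Q : Subgroup G) ⊔ M = ⊤ := by
    by_contra htop
    have hn' : ((Q : Subgroup G) ⊔ M).Normal := by
      have h1 : ((Q.mapSurjective (QuotientGroup.mk'_surjective M) : Sylow q (G ⧸ M)) :
          Subgroup (G ⧸ M)).Normal := Sylow.normal_of_normalizerCondition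
        (Group.normalizerCondition_of_isNilpotent) _
      have h2 := h1.comap (QuotientGroup.mk' M)
      rwa [Sylow.coe_mapSurjective, Subgroup.comap_map_eq, QuotientGroup.ker_mk'] at h2
    have hm : ((Q : Subgroup G) ⊔ M).map σ.toMonoidHom = (Q : Subgroup G) ⊔ M := by
      rw [Subgroup.map_sup, hQm, hM]
    haveI := hsub _ hm htop
    apply hQn
    set L := (Q : Subgroup G) ⊔ M
    haveI := hn'
    have h3 : ((Q.subtype (le_sup_left : (Q : Subgroup G) ≤ L) : Sylow q L) :
        Subgroup L).Characteristic :=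
      Sylow.characteristic_of_normal _
        (Sylow.normal_of_normalizerCondition Group.normalizerCondition_of_isNilpotent _)
    have h4 := Cores.normal_map_subtype_of_char L
      ((Q.subtype (le_sup_left : (Q : Subgroup G) ≤ L) : Sylow q L) : Subgroup L)
    rwa [Sylow.coe_subtype, Subgroup.map_subgroupOf_eq_of_le le_sup_left] at h4
  -- the partition argument
  have hCQ : M ⊓ Subgroup.centralizer ((Q : Subgroup G) : Set G) = ⊥ := by
    set L := M ⊓ Subgroup.centralizer ((Q : Subgroup G) : Set G) with hL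
    have hLn : L.Normal := by
      rw [← Subgroup.normalizer_eq_top_iff, eq_top_iff, ← hMQ]
      refine sup_le ((fun x hx => ?_ : (Q : Subgroup G) ≤ _)) (fun x hx => ?_)
      · refine Subgroup.centralizer_le_normalizer _ (Subgroup.mem_centralizer_iff.mpr fun y hy => ?_)
        exact (Subgroup.mem_centralizer_iff.mp (Subgroup.mem_inf.mp hy).2 x hx).symm
      · refine Subgroup.centralizer_le_normalizer _ (Subgroup.mem_centralizer_iff.mpr fun y hy => ?_)
        exact hMcomm y (Subgroup.mem_inf.mp hy).1 x hx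
    have hLm : L.map σ.toMonoidHom = L := by
      rw [hL, Subgroup.map_inf _ _ σ.toMonoidHom σ.injective, hM, map_centralizer hQm]
    refine (hminE L hLn hLm inf_le_left).resolve_right fun h => hQn ?_
    rw [← Subgroup.normalizer_eq_top_iff, eq_top_iff, ← hMQ]
    exact sup_le Subgroup.le_normalizer
      ((h.ge.trans inf_le_right).trans (Subgroup.centralizer_le_normalizer _))
  let S := Subgroup.zpowers σ
  let ψ : S →* MulAut (Q : Subgroup G) := restrictHom S _ (invariant_zpowers hQm)
  let f₁ : (Q : Subgroup G) →* MulAut M := MulAut.conjNormal.comp (Q : Subgroup G).subtype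
  let f₂ : S →* MulAut M := restrictHom S M (invariant_zpowers hM)
  let A := (Q : Subgroup G) ⋊[ψ] S
  haveI : Finite A := Finite.of_equiv _ SemidirectProduct.equivProd.symm
  letI : CommGroup M := { (inferInstance : Group M) with mul_comm := hMc.is_comm.comm }
  let φ : A →* MulAut M := SemidirectProduct.lift f₁ f₂ (fun a => by
    refine MonoidHom.ext fun x => MulEquiv.ext fun v => Subtype.ext ?_
    show (MulAut.conjNormal ((a : MulAut G) (x : G)) v : G) =
      (a : MulAut G) ((MulAut.conjNormal (x : G) ((f₂ a).symm v) : M) : G)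
    rw [MulAut.conjNormal_apply, MulAut.conjNormal_apply, map_mul, map_mul, map_inv]
    congr 2
    exact congrArg Subtype.val ((f₂ a).apply_symm_apply v).symm)
  have hψfree : ∀ a : S, a ≠ 1 → ∀ x : (Q : Subgroup G), ψ a x = x → x = 1 := fun a ha x hx =>
    Subtype.ext (fixed_trivial_of_ne_one hr hpow hσ a.2 (fun h => ha (Subtype.ext h)) x
      (congrArg Subtype.val hx))
  have hcover : ∀ a : A, a ∉ (SemidirectProduct.inl : (Q : Subgroup G) →* A).range →
      ∃! f : (SemidirectProduct.inl : (Q : Subgroup G) →* A).range,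
        (f : A)⁻¹ * a * f ∈ (SemidirectProduct.inr : S →* A).range := by
    intro a ha
    have ha2 : a.right ≠ 1 := fun h => ha ⟨a.left, by
      conv_rhs => rw [← SemidirectProduct.inl_left_mul_inr_right a, h, map_one, mul_one]⟩
    have key : ∀ x : (Q : Subgroup G),
        (SemidirectProduct.inl x : A)⁻¹ * a * SemidirectProduct.inl x ∈
          (SemidirectProduct.inr : S →* A).range ↔ x * (ψ a.right x)⁻¹ = a.left := by
      intro x
      have e : (SemidirectProduct.inl x : A)⁻¹ * a * SemidirectProduct.inl x =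
          SemidirectProduct.inl (x⁻¹ * a.left * ψ a.right x) * SemidirectProduct.inr a.right := by
        conv_lhs => rw [← SemidirectProduct.inl_left_mul_inr_right a]
        rw [map_mul, map_mul, map_inv, SemidirectProduct.inl_aut, map_inv]
        group
      rw [e]
      constructor
      · rintro ⟨y, hy⟩
        have h := congrArg SemidirectProduct.left hy
        simp only [SemidirectProduct.left_inr, SemidirectProduct.mul_left,
          SemidirectProduct.left_inl, SemidirectProduct.right_inl, map_one, MulAut.one_apply,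
          mul_one] at h
        calc x * (ψ a.right x)⁻¹
            = x * (x⁻¹ * a.left * ψ a.right x) * (ψ a.right x)⁻¹ := by rw [← h, mul_one]
          _ = a.left := by group
      · intro hx
        refine ⟨a.right, ?_⟩
        rw [← hx]
        simp [mul_assoc]
    have hinj : Function.Injective fun x : (Q : Subgroup G) => x * (ψ a.right x)⁻¹ := by
      intro x y hxy
      simp only at hxy
      have : ψ a.right (y⁻¹ * x) = y⁻¹ * x := by
        rw [map_mul, map_inv]
        have h1 : ψ a.right x = (x * (ψ a.right x)⁻¹)⁻¹ * x := by group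
        rw [h1, hxy]; group
      exact (inv_mul_eq_one.mp (hψfree _ ha2 _ this)).symm
    obtain ⟨x, hx⟩ := (Finite.surjective_of_injective hinj) a.left
    refine ⟨⟨_, x, rfl⟩, (key x).mpr hx, ?_⟩
    rintro ⟨_, y, rfl⟩ hy
    obtain rfl := hinj (((key y).mp hy).trans hx.symm)
    rfl
  refine hM0 ((Subgroup.eq_bot_iff_forall M).mpr fun v hv => congrArg Subtype.val
    (Frobenius.eq_one_of_frobenius_partition φ (SemidirectProduct.inl : (Q : Subgroup G) →* A).range
      (SemidirectProduct.inr : S →* A).range ?_ hcover ?_ ?_ ?_ (⟨v, hv⟩ : M)))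
  · rw [MonoidHom.range_eq_map, Subgroup.card_map_of_injective SemidirectProduct.inl_injective,
      Subgroup.card_top]
    exact hcop
  · rw [eq_bot_iff]
    rintro _ ⟨⟨x, rfl⟩, y, hy⟩
    have := congrArg SemidirectProduct.left hy
    rw [SemidirectProduct.left_inr, SemidirectProduct.left_inl] at this
    rw [Subgroup.mem_bot, ← this, map_one]
  · intro w hw
    refine Subtype.ext (Subgroup.mem_bot.mp (hCQ ▸ Subgroup.mem_inf.mpr
      ⟨w.2, Subgroup.mem_centralizer_iff.mpr fun x hx => ?_⟩))
    have := congrArg Subtype.val (hw _ ⟨⟨x, hx⟩, rfl⟩)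
    rw [SemidirectProduct.lift_inl] at this
    exact mul_inv_eq_iff_eq_mul.mp ((MulAut.conjNormal_apply (H := M) x w).symm.trans this)
  · intro w hw
    have := congrArg Subtype.val (hw _ ⟨⟨σ, Subgroup.mem_zpowers σ⟩, rfl⟩)
    rw [SemidirectProduct.lift_inr] at this
    exact Subtype.ext (hσ _ this)

/-- Thompson: a fixed-point-free automorphism of prime order forces nilpotence. -/
theorem isNilpotent_of_fixedPointFree [Finite G] {r : ℕ} (hr : r.Prime) (σ : MulAut G)
    (hpow : σ ^ r = 1) (hσ : ∀ g, σ g = g → g = 1) : Group.IsNilpotent G :=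
  main_aux hr _ G rfl σ hpow hσ

end Cfsg.Agent.Lib.Solvable.FixedPointFree
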