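import Cfsg.Agent.Lib.Solvable.Offender
import Cfsg.Agent.Lib.Coprime.Action
import Cfsg.Agent.Lib.Coprime.SchurZassenhaus
import Cfsg.Agent.Lib.Transfer.Frobenius
import Cfsg.Agent.Lib.Cores.PCore
import Cfsg.Agent.Lib.LocalEven2.Thompson
import Cfsg.Agent.Lib.PLocal.Thompson
import Cfsg.Agent.S0056
import Mathlib.GroupTheory.SemidirectProduct

/-!
Thompson's normal `p`-complement theorem for odd `p`.
-/

set_option autoImplicit false

open Pointwise

universe u

namespace Cfsg.Agent.Lib.Solvable.ThompsonComplement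

open Cfsg.Agent.Lib

variable {G : Type u} [Group G] {p : ℕ}

/-- The centre of a subgroup, inside the group. -/
local notation "Zc" S:max => (S ⊓ Subgroup.centralizer (SetLike.coe S))

theorem npc_of_map_le [Finite G] [Fact p.Prime] {H : Type*} [Group H] (f : H →* G)
    (hf : Function.Injective f) {K : Subgroup H} {M : Subgroup G} (h : K.map f ≤ M)
    (hM : Cfsg.HasNormalPComplement p M) : Cfsg.HasNormalPComplement p K :=
  Transfer.hasNormalPComplement_of_injective
    ((f.comp K.subtype).codRestrict M fun x => h ⟨x, x.2, rfl⟩)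
    (fun _ _ hxy => Subtype.ext (hf (congrArg Subtype.val hxy))) hM

theorem thompsonSubgroupOf_map {H : Type*} [Group H] [Finite G] (p : ℕ) (f : H →* G)
    (hf : Function.Injective f) (T : Subgroup H) :
    Cfsg.thompsonSubgroupOf p (T.map f) = (Cfsg.thompsonSubgroupOf p T).map f := by
  have key : ∀ A : Subgroup H, LocalEven2.IsMaxEA p T A ↔
      LocalEven2.IsMaxEA p (T.map f) (A.map f) := by
    intro A
    constructor
    · rintro ⟨h1, h2, h3⟩
      refine ⟨Subgroup.map_mono h1, PLocal.elemAb_map h2 f, fun B hB hBe => ?_⟩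
      have hB' : (B.comap f).map f = B :=
        Subgroup.map_comap_eq_self (hB.trans (Subgroup.map_le_range f T))
      rw [← hB', Subgroup.card_map_of_injective hf, Subgroup.card_map_of_injective hf]
      refine h3 _ ?_ (PLocal.elemAb_of_map hf (hB'.symm ▸ hBe))
      exact (Subgroup.comap_mono hB).trans (Subgroup.comap_map_eq_self_of_injective hf T).le
    · rintro ⟨h1, h2, h3⟩
      refine ⟨(Subgroup.map_le_map_iff_of_injective hf).mp h1, PLocal.elemAb_of_map hf h2,
        fun B hB hBe => ?_⟩
      have := h3 _ (Subgroup.map_mono hB) (PLocal.elemAb_map hBe f)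
      rwa [Subgroup.card_map_of_injective hf, Subgroup.card_map_of_injective hf] at this
  refine le_antisymm (LocalEven2.thompsonSubgroupOf_le_of fun A hA => ?_) ?_
  · have hA' : (A.comap f).map f = A :=
      Subgroup.map_comap_eq_self (hA.1.trans (Subgroup.map_le_range f T))
    rw [← hA']
    exact Subgroup.map_mono (LocalEven2.le_thompsonSubgroupOf ((key _).mpr (hA'.symm ▸ hA)))
  · rw [Subgroup.map_le_iff_le_comap]
    exact LocalEven2.thompsonSubgroupOf_le_of fun A hA =>
      Subgroup.map_le_iff_le_comap.mp (LocalEven2.le_thompsonSubgroupOf ((key A).mp hA))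

theorem thompsonSubgroupOf_map_of_injOn {H : Type*} [Group H] [Finite G] [Finite H] (p : ℕ)
    (f : H →* G) (T : Subgroup H) (hf : ∀ x ∈ T, f x = 1 → x = 1) :
    Cfsg.thompsonSubgroupOf p (T.map f) = (Cfsg.thompsonSubgroupOf p T).map f := by
  have hinj : Function.Injective (f.comp T.subtype) :=
    (injective_iff_map_eq_one _).mpr fun x hx => Subtype.ext (hf x x.2 hx)
  have h1 : (⊤ : Subgroup T).map (f.comp T.subtype) = T.map f := by
    rw [← Subgroup.map_map, ← MonoidHom.range_eq_map, Subgroup.range_subtype]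
  have h2 : (⊤ : Subgroup T).map T.subtype = T := by
    rw [← MonoidHom.range_eq_map, Subgroup.range_subtype]
  rw [← h1, thompsonSubgroupOf_map p _ hinj, ← Subgroup.map_map,
    ← thompsonSubgroupOf_map p _ T.subtype_injective, h2]

theorem center_ne_bot [Finite G] [Fact p.Prime] {S : Subgroup G} (hS : IsPGroup p S) (h : S ≠ ⊥) :
    (Zc S) ≠ ⊥ := by
  haveI : Nontrivial S := (Subgroup.nontrivial_iff_ne_bot S).mpr h
  obtain ⟨z, hz, hz1⟩ := (Subgroup.bot_or_exists_ne_one (Subgroup.center S)).resolve_left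
    (fun h' => by
      have := hS.center_nontrivial
      exact (Subgroup.nontrivial_iff_ne_bot _).mp this h')
  intro hbot
  refine hz1 (Subtype.ext (Subgroup.mem_bot.mp (hbot ▸ Subgroup.mem_inf.mpr ⟨z.2, ?_⟩)))
  exact Subgroup.mem_centralizer_iff.mpr fun x hx =>
    congrArg Subtype.val (Subgroup.mem_center_iff.mp hz ⟨x, hx⟩)

theorem thompsonSubgroupOf_ne_bot [Finite G] [hp : Fact p.Prime] {S : Subgroup G}
    (hS : IsPGroup p S) (h : S ≠ ⊥) : Cfsg.thompsonSubgroupOf p S ≠ ⊥ := by
  intro hbot
  haveI : Nontrivial S := (Subgroup.nontrivial_iff_ne_bot S).mpr h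
  obtain ⟨j, hj, hjc⟩ := hS.nontrivial_iff_card.mp inferInstance
  obtain ⟨x, hx⟩ := exists_prime_orderOf_dvd_card' (G := S) p (hjc ▸ dvd_pow_self p hj.ne')
  have hxe : Cfsg.IsElementaryAbelian p (Subgroup.zpowers (x : G)) := by
    refine ⟨inferInstance, fun a ha => ?_⟩
    obtain ⟨i, rfl⟩ := ha
    rw [← zpow_natCast, zpow_comm, zpow_natCast, ← hx, ← Subgroup.orderOf_coe,
      pow_orderOf_eq_one, one_zpow]
  obtain ⟨A, hA⟩ := LocalEven2.exists_isMaxEA p S
  have h1 := hA.2.2 _ (Subgroup.zpowers_le.mpr x.2) hxe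
  rw [Nat.card_zpowers, Subgroup.orderOf_coe, hx] at h1
  have h2 : A = ⊥ := le_bot_iff.mp (hbot ▸ LocalEven2.le_thompsonSubgroupOf hA)
  rw [h2, Subgroup.card_bot] at h1
  exact absurd h1 (not_le.mpr hp.out.one_lt)

theorem normalizer_le_normalizer_center (S : Subgroup G) :
    Subgroup.normalizer (S : Set G) ≤ Subgroup.normalizer ((Zc S : Subgroup G) : Set G) := by
  refine fun g hg => Coprime.mem_normalizer_of_conj_smul_eq ?_
  have hS := Coprime.conj_smul_eq_of_mem_normalizer hg
  ext x
  have hmem : ∀ y, g⁻¹ * y * g ∈ S ↔ y ∈ S := fun y => by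
    rw [← Coprime.mem_conj_smul, hS]
  rw [Coprime.mem_conj_smul, Subgroup.mem_inf, Subgroup.mem_inf, hmem,
    Subgroup.mem_centralizer_iff, Subgroup.mem_centralizer_iff]
  refine and_congr_right fun _ => ⟨fun h y hy => ?_, fun h y hy => ?_⟩
  · have := h _ ((hmem y).mpr hy)
    calc y * x = g * ((g⁻¹ * y * g) * (g⁻¹ * x * g)) * g⁻¹ := by group
      _ = g * ((g⁻¹ * x * g) * (g⁻¹ * y * g)) * g⁻¹ := by rw [this]
      _ = x * y := by group
  · have h1 : g * y * g⁻¹ ∈ S := (hmem _).mp (by simpa [mul_assoc] using hy)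
    have := h _ h1
    calc y * (g⁻¹ * x * g) = g⁻¹ * ((g * y * g⁻¹) * x) * g := by group
      _ = g⁻¹ * (x * (g * y * g⁻¹)) * g := by rw [this]
      _ = g⁻¹ * x * g * y := by group

theorem centralizer_le_normalizer' (S : Subgroup G) :
    Subgroup.centralizer (S : Set G) ≤ Subgroup.normalizer (S : Set G) :=
  Subgroup.centralizer_le_normalizer _

theorem card_lt_of_ne_top [Finite G] {H : Subgroup G} (h : H ≠ ⊤) : Nat.card H < Nat.card G :=
  lt_of_le_of_ne (Subgroup.card_le_card_group H) fun he => h (Subgroup.eq_top_of_card_eq H he)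

theorem card_quotient_lt [Finite G] {N : Subgroup G} (h : N ≠ ⊥) :
    Nat.card (G ⧸ N) < Nat.card G := by
  rw [Subgroup.card_eq_card_quotient_mul_card_subgroup N]
  exact lt_mul_of_one_lt_right Nat.card_pos (N.one_lt_card_iff_ne_bot.mpr h)

/-- Being a normal `p`-complement passes to overgroups of a Sylow subgroup given locally. -/
theorem npc_relative [Finite G] [Fact p.Prime]
    (ih : ∀ (H : Subgroup G), H ≠ ⊤ → ∀ P : Sylow p H,
      Cfsg.HasNormalPComplement p
        (Subgroup.normalizer (Cfsg.thompsonSubgroupOf p (P : Subgroup H) : Set H)) →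
      Cfsg.HasNormalPComplement p
        (Subgroup.centralizer ((Zc (P : Subgroup H) : Subgroup H) : Set H)) →
      Cfsg.HasNormalPComplement p H)
    {H S : Subgroup G} (hH : H ≠ ⊤) (hSH : S ≤ H) (hS : IsPGroup p S) (hSi : ¬ p ∣ S.relIndex H)
    (hJ : Cfsg.HasNormalPComplement p
      (Subgroup.normalizer (Cfsg.thompsonSubgroupOf p S : Set G)))
    (hZ : Cfsg.HasNormalPComplement p
      (Subgroup.centralizer ((Zc S : Subgroup G) : Set G))) :
    Cfsg.HasNormalPComplement p H := by
  have hS' : IsPGroup p (S.subgroupOf H) := hS.comap_of_injective _ H.subtype_injective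
  let P : Sylow p H := hS'.toSylow hSi
  have hPS : (P : Subgroup H).map H.subtype = S := Subgroup.map_subgroupOf_eq_of_le hSH
  refine ih H hH P (npc_of_map_le H.subtype H.subtype_injective ?_ hJ)
    (npc_of_map_le H.subtype H.subtype_injective ?_ hZ)
  · refine (Subgroup.le_normalizer_map H.subtype).trans ?_
    rw [← thompsonSubgroupOf_map p _ H.subtype_injective, hPS]
  · rintro _ ⟨g, hg, rfl⟩
    refine Subgroup.mem_centralizer_iff.mpr fun z hz => ?_
    obtain ⟨hzS, hzC⟩ := Subgroup.mem_inf.mp hz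
    have hz' : (⟨z, hSH hzS⟩ : H) ∈ (Zc (P : Subgroup H) : Subgroup H) :=
      Subgroup.mem_inf.mpr ⟨Subgroup.mem_subgroupOf.mpr hzS, Subgroup.mem_centralizer_iff.mpr
        fun y hy => Subtype.ext (Subgroup.mem_centralizer_iff.mp hzC y
          (Subgroup.mem_subgroupOf.mp hy))⟩
    exact congrArg Subtype.val (Subgroup.mem_centralizer_iff.mp hg _ hz')

/-- The normalizer of the image of a `p`-group modulo a `p'`-group. -/
theorem normalizer_map_le_of_coprime [Finite G] [Fact p.Prime] (N : Subgroup G) [N.Normal]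
    (hN : (Nat.card N).Coprime p) {Y : Subgroup G} (hY : IsPGroup p Y) :
    Subgroup.normalizer ((Y.map (QuotientGroup.mk' N) : Subgroup (G ⧸ N)) : Set (G ⧸ N)) ≤
      (Subgroup.normalizer (Y : Set G)).map (QuotientGroup.mk' N) := by
  intro x hx
  induction x using QuotientGroup.induction_on with
  | H g =>
  have hsol : Group.IsSolvable Y := by
    haveI := hY.isNilpotent
    infer_instance
  have hcop : (Nat.card N).Coprime (Nat.card Y) := by
    obtain ⟨k, hk⟩ := IsPGroup.iff_card.mp hY
    rw [hk]; exact Nat.Coprime.pow_right k hN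
  have hle : MulAut.conj g • Y ≤ N ⊔ Y := by
    intro y hy
    rw [Coprime.mem_conj_smul] at hy
    have h1 : QuotientGroup.mk' N y ∈ Y.map (QuotientGroup.mk' N) := by
      have := (Subgroup.mem_normalizer_iff.mp hx _).mp (Subgroup.mem_map_of_mem _ hy)
      simpa [mul_assoc] using this
    rw [← Subgroup.mem_comap, Subgroup.comap_map_eq, QuotientGroup.ker_mk'] at h1
    rwa [sup_comm]
  obtain ⟨n, hn, hnY⟩ := Coprime.exists_conj_eq_of_le_sup (H := Y) (K := MulAut.conj g • Y)
    (by rw [Subgroup.normalizer_eq_top]; exact le_top) hcop (Or.inr hsol)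
    (Coprime.card_conj_smul g Y) hle
  refine ⟨n⁻¹ * g, Coprime.mem_normalizer_of_conj_smul_eq ?_, ?_⟩
  · rw [Coprime.conj_mul_smul, ← hnY, ← Coprime.conj_mul_smul, inv_mul_cancel,
      Coprime.conj_one_smul]
  · show ((n⁻¹ * g : G) : G ⧸ N) = (g : G ⧸ N)
    rw [QuotientGroup.mk_mul, QuotientGroup.mk_inv, (QuotientGroup.eq_one_iff n).mpr hn, inv_one,
      one_mul]

/-- The centralizer of the image of a `p`-group modulo a `p'`-group. -/
theorem centralizer_map_le_of_coprime [Finite G] [Fact p.Prime] (N : Subgroup G) [N.Normal]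
    (hN : (Nat.card N).Coprime p) {Y : Subgroup G} (hY : IsPGroup p Y) :
    Subgroup.centralizer ((Y.map (QuotientGroup.mk' N) : Subgroup (G ⧸ N)) : Set (G ⧸ N)) ≤
      (Subgroup.centralizer (Y : Set G)).map (QuotientGroup.mk' N) := by
  intro x hx
  obtain ⟨g, hg, rfl⟩ := normalizer_map_le_of_coprime N hN hY (centralizer_le_normalizer' _ hx)
  refine ⟨g, Subgroup.mem_centralizer_iff.mpr fun y hy => ?_, rfl⟩
  have h1 : g * y * g⁻¹ * y⁻¹ ∈ Y :=
    mul_mem (conj_mem_of_mem_normalizer hg hy) (inv_mem hy)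
  have h2 : g * y * g⁻¹ * y⁻¹ ∈ N := by
    rw [← QuotientGroup.eq_one_iff]
    have := Subgroup.mem_centralizer_iff.mp hx _ (Subgroup.mem_map_of_mem _ hy)
    simp only [QuotientGroup.mk'_apply] at this
    simp only [QuotientGroup.mk_mul, QuotientGroup.mk_inv]
    rw [← this, mul_inv_cancel_right, mul_inv_cancel]
  have h3 : g * y * g⁻¹ * y⁻¹ = 1 :=
    Transfer.eq_one_of_isPGroup_of_coprime hY h1 (Transfer.coprime_orderOf_of_mem hN h2)
  rw [mul_inv_eq_one, mul_inv_eq_iff_eq_mul] at h3
  exact h3.symm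

theorem main_aux (hp2 : p ≠ 2) [hp : Fact p.Prime] : ∀ (n : ℕ) (G : Type u) [Group G] [Finite G],
    Nat.card G = n → ∀ P : Sylow p G,
    Cfsg.HasNormalPComplement p
      (Subgroup.normalizer (Cfsg.thompsonSubgroupOf p (P : Subgroup G) : Set G)) →
    Cfsg.HasNormalPComplement p
      (Subgroup.centralizer ((Zc (P : Subgroup G) : Subgroup G) : Set G)) →
    Cfsg.HasNormalPComplement p G := by
  intro n
  induction n using Nat.strongRecOn with
  | ind n IH =>
  intro G _ _ hn P hJ hZ
  by_contra hG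
  have hPp : IsPGroup p (P : Subgroup G) := P.2
  have hJ' : Subgroup.normalizer (Cfsg.thompsonSubgroupOf p (P : Subgroup G) : Set G) ≠ ⊤ :=
    fun h => hG ((Transfer.hasNormalPComplement_congr
      ((MulEquiv.subgroupCongr h).trans Subgroup.topEquiv)).mp hJ)
  have hrel := fun {H S : Subgroup G} => npc_relative (p := p) (H := H) (S := S) fun H hH =>
    IH (Nat.card H) (hn ▸ card_lt_of_ne_top hH) H rfl
  have hover : ∀ H : Subgroup G, H ≠ ⊤ → (P : Subgroup G) ≤ H →
      Cfsg.HasNormalPComplement p H := fun H hH hPH => hrel hH hPH hPp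
    (fun h => P.not_dvd_index (h.trans (Subgroup.relIndex_dvd_index_of_le hPH))) hJ hZ
  -- no normal subgroup of order prime to `p`
  have hN0 : ∀ N : Subgroup G, N.Normal → (Nat.card N).Coprime p → N = ⊥ := by
    intro N hNn hNc
    by_contra hN
    let π := QuotientGroup.mk' N
    have hπ : Function.Surjective π := QuotientGroup.mk'_surjective N
    have hlt : Nat.card (G ⧸ N) < n := hn ▸ card_quotient_lt hN
    have hinj : ∀ x ∈ (P : Subgroup G), π x = 1 → x = 1 := fun x hx hx1 =>
      Transfer.eq_one_of_isPGroup_of_coprime hPp hx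
        (Transfer.coprime_orderOf_of_mem hNc ((QuotientGroup.eq_one_iff x).mp hx1))
    have hPb : ((P.mapSurjective hπ : Sylow p (G ⧸ N)) : Subgroup (G ⧸ N)) =
        (P : Subgroup G).map π := rfl
    apply hG
    have key := IH _ hlt (G ⧸ N) rfl (P.mapSurjective hπ) ?_ ?_
    · rw [Transfer.hasNormalPComplement_iff_coprime] at key ⊢
      rw [← Transfer.pResidual_map_of_surjective π hπ] at key
      rw [Transfer.coprime_iff_not_dvd] at key ⊢
      intro hdvd
      obtain ⟨x, hx⟩ := exists_prime_orderOf_dvd_card' p hdvd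
      have hxN : (x : G) ∈ N := by
        rw [← QuotientGroup.eq_one_iff]
        by_contra hx1
        refine key ?_
        have h1 : orderOf (π x) = p := by
          rcases (Nat.dvd_prime hp.out).mp ((orderOf_map_dvd π (x : G)).trans
            (Subgroup.orderOf_coe x ▸ hx).dvd) with h | h
          · exact absurd (orderOf_eq_one_iff.mp h) hx1
          · exact h
        have h2 := Subgroup.orderOf_dvd_natCard _ (Subgroup.mem_map_of_mem π x.2)
        rwa [h1] at h2
      have := Transfer.coprime_orderOf_of_mem hNc hxN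
      rw [Subgroup.orderOf_coe, hx, Nat.coprime_self] at this
      exact hp.out.ne_one this
    · rw [hPb, thompsonSubgroupOf_map_of_injOn p π _ hinj]
      refine Transfer.hasNormalPComplement_of_le
        (normalizer_map_le_of_coprime N hNc (hPp.to_le (LocalEven2.thompsonSubgroupOf_le _ _))) ?_
      exact Transfer.hasNormalPComplement_of_surjective
        (π.subgroupMap _) (π.subgroupMap_surjective _) hJ
    · have hZb : ((Zc (P : Subgroup G) : Subgroup G).map π) =
          (Zc ((P : Subgroup G).map π) : Subgroup (G ⧸ N)) := by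
        ext x
        constructor
        · rintro ⟨z, hz, rfl⟩
          refine Subgroup.mem_inf.mpr ⟨Subgroup.mem_map_of_mem _ (Subgroup.mem_inf.mp hz).1,
            Subgroup.mem_centralizer_iff.mpr ?_⟩
          rintro _ ⟨y, hy, rfl⟩
          rw [← map_mul, ← map_mul, Subgroup.mem_centralizer_iff.mp (Subgroup.mem_inf.mp hz).2 y hy]
        · intro hx
          obtain ⟨⟨z, hz, rfl⟩, hx2⟩ := Subgroup.mem_inf.mp hx
          refine ⟨z, Subgroup.mem_inf.mpr ⟨hz, Subgroup.mem_centralizer_iff.mpr fun y hy => ?_⟩, rfl⟩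
          have h1 := Subgroup.mem_centralizer_iff.mp hx2 _ (Subgroup.mem_map_of_mem π hy)
          rw [← map_mul, ← map_mul] at h1
          have h2 := hinj ((y * z) * (z * y)⁻¹) (mul_mem (mul_mem hy hz) (inv_mem (mul_mem hz hy)))
            (by rw [map_mul, map_inv, h1, mul_inv_cancel])
          exact mul_inv_eq_one.mp h2
      rw [hPb, ← hZb]
      refine Transfer.hasNormalPComplement_of_le
        (centralizer_map_le_of_coprime N hNc (hPp.to_le inf_le_left)) ?_
      exact Transfer.hasNormalPComplement_of_surjective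
        (π.subgroupMap _) (π.subgroupMap_surjective _) hZ
  -- a nontrivial normal `p`-subgroup
  have hU0 : Cfsg.pCore p G ≠ ⊥ := by
    intro hU0
    apply hG
    refine Transfer.hasNormalPComplement_of_local fun Q₀ hQ₀p hQ₀ => ?_
    by_contra hbad₀
    let v : Subgroup G → ℕ := fun Q =>
      (Nat.card (Subgroup.normalizer (Q : Set G))).factorization p
    obtain ⟨Q₁, ⟨hQ₁p, hQ₁, hQ₁bad⟩, hmax⟩ := Set.exists_max_image
      {Q : Subgroup G | IsPGroup p Q ∧ Q ≠ ⊥ ∧
        ¬ Cfsg.HasNormalPComplement p (Subgroup.normalizer (Q : Set G))} v (Set.toFinite _)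
      ⟨Q₀, hQ₀p, hQ₀, hbad₀⟩
    obtain ⟨S₁⟩ : Nonempty (Sylow p (Subgroup.normalizer (Q₁ : Set G))) := inferInstance
    have hS₁p : IsPGroup p ((S₁ : Subgroup _).map (Subgroup.normalizer (Q₁ : Set G)).subtype) :=
      S₁.2.map _
    obtain ⟨P₁, hP₁⟩ := hS₁p.exists_le_sylow
    obtain ⟨g, hg⟩ := MulAction.exists_smul_eq G P₁ P
    have hgP : MulAut.conj g • (P₁ : Subgroup G) = P := congrArg (fun R : Sylow p G => (R : Subgroup G)) hg
    set Q := MulAut.conj g • Q₁ with hQ
    have hNQ : Subgroup.normalizer (Q : Set G) =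
        MulAut.conj g • Subgroup.normalizer (Q₁ : Set G) := by
      rw [hQ]
      exact (Subgroup.map_normalizer_eq_of_bijective _ (MulAut.conj g).bijective).symm
    set M := Subgroup.normalizer (Q : Set G) with hM
    have hcardM : Nat.card M = Nat.card (Subgroup.normalizer (Q₁ : Set G)) := by
      rw [hNQ, Coprime.card_conj_smul]
    have hQbad : ¬ Cfsg.HasNormalPComplement p M := by
      intro h
      apply hQ₁bad
      rw [hNQ] at h
      exact (Transfer.hasNormalPComplement_congr (Subgroup.equivSMul (MulAut.conj g) _)).mpr h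
    set S := (P : Subgroup G) ⊓ M with hS
    have hSp : IsPGroup p S := hPp.to_le inf_le_left
    have hSM : S ≤ M := inf_le_right
    have hScard : Nat.card S = p ^ v Q₁ := by
      have hle : MulAut.conj g • (S₁ : Subgroup _).map (Subgroup.normalizer (Q₁ : Set G)).subtype
          ≤ S := le_inf (hgP ▸ Subgroup.pointwise_smul_le_pointwise_smul_iff.mpr hP₁)
            (hNQ ▸ Subgroup.pointwise_smul_le_pointwise_smul_iff.mpr (Subgroup.map_subtype_le _))
      have hcard₁ : Nat.card (MulAut.conj g • (S₁ : Subgroup _).map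
          (Subgroup.normalizer (Q₁ : Set G)).subtype : Subgroup G) = p ^ v Q₁ := by
        rw [Coprime.card_conj_smul, Subgroup.card_map_of_injective
          (Subgroup.normalizer (Q₁ : Set G)).subtype_injective]
        exact S₁.card_eq_multiplicity
      refine le_antisymm ?_ (hcard₁ ▸ Subgroup.card_le_of_le hle)
      obtain ⟨k, hk⟩ := IsPGroup.iff_card.mp hSp
      rw [hk]
      refine Nat.pow_le_pow_right hp.out.pos ?_
      have hdvd : p ^ k ∣ Nat.card (Subgroup.normalizer (Q₁ : Set G)) :=
        hk ▸ hcardM ▸ Subgroup.card_dvd_of_le hSM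
      exact (hp.out.pow_dvd_iff_le_factorization Nat.card_pos.ne').mp hdvd
    have hSi : ¬ p ∣ S.relIndex M := by
      intro hd
      have h1 := Coprime.relIndex_mul_card hSM
      rw [hScard, hcardM] at h1
      have h2 : p ^ (v Q₁ + 1) ∣ Nat.card (Subgroup.normalizer (Q₁ : Set G)) := by
        rw [← h1, pow_succ]
        exact mul_dvd_mul_left _ hd
      have := (hp.out.pow_dvd_iff_le_factorization Nat.card_pos.ne').mp h2
      exact absurd this (Nat.not_succ_le_self _)
    have hQ0 : Q ≠ ⊥ := fun h => hQ₁ (Subgroup.card_eq_one.mp (by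
      rw [← Coprime.card_conj_smul g Q₁, ← hQ, h, Subgroup.card_bot]))
    have hMtop : M ≠ ⊤ := fun h => hQ0 (le_bot_iff.mp (hU0 ▸ Cores.le_pCore
      (Subgroup.normalizer_eq_top_iff.mp h) (Coprime.isPGroup_conj_smul hQ₁p)))
    by_cases hSP : (P : Subgroup G) ≤ M
    · exact hQbad (hover M hMtop hSP)
    have hSltP : S < P := lt_of_le_of_ne inf_le_left fun h => hSP (h ▸ hSM)
    have hgood : ∀ T : Subgroup G, IsPGroup p T → T ≠ ⊥ →
        Subgroup.normalizer (S : Set G) ≤ Subgroup.normalizer (T : Set G) →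
        Cfsg.HasNormalPComplement p (Subgroup.normalizer (T : Set G)) := by
      intro T hT hT0 hST
      by_contra hbad
      have hvT : v T ≤ v Q₁ := hmax T ⟨hT, hT0, hbad⟩
      -- a larger `p`-subgroup normalizes `T`
      haveI := hPp.isNilpotent
      have hnc : S.subgroupOf (P : Subgroup G) < ⊤ := lt_top_iff_ne_top.mpr fun h =>
        hSltP.not_ge (Subgroup.subgroupOf_eq_top.mp h)
      have hgrow := Group.normalizerCondition_of_isNilpotent _ hnc
      set R := (P : Subgroup G) ⊓ Subgroup.normalizer (S : Set G)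
      have hSR : S < R := by
        refine lt_of_le_of_ne (le_inf hSltP.le Subgroup.le_normalizer) fun h => ?_
        obtain ⟨x, hx, hxS⟩ := SetLike.exists_of_lt hgrow
        refine hxS (Subgroup.mem_subgroupOf.mpr (h.ge (Subgroup.mem_inf.mpr ⟨x.2, ?_⟩)))
        exact Coprime.mem_normalizer_of_conj_smul_eq (by
          have hx' := Coprime.conj_smul_eq_of_mem_normalizer hx
          have := congrArg (Subgroup.map (P : Subgroup G).subtype) hx'
          rw [Subgroup.map_subgroupOf_eq_of_le hSltP.le] at this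
          ext y
          rw [Coprime.mem_conj_smul]
          constructor
          · intro hy
            have hyP : y ∈ (P : Subgroup G) := by
              have := mul_mem (mul_mem x.2 (hSltP.le hy)) (inv_mem x.2)
              simpa [mul_assoc] using this
            have : (⟨y, hyP⟩ : P) ∈ MulAut.conj x • S.subgroupOf (P : Subgroup G) := by
              rw [Coprime.mem_conj_smul]; exact Subgroup.mem_subgroupOf.mpr (by simpa using hy)
            rw [hx'] at this
            exact Subgroup.mem_subgroupOf.mp this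
          · intro hy
            have : (⟨y, hSltP.le hy⟩ : P) ∈ MulAut.conj x • S.subgroupOf (P : Subgroup G) := by
              rw [hx']; exact Subgroup.mem_subgroupOf.mpr hy
            rw [Coprime.mem_conj_smul] at this
            simpa using Subgroup.mem_subgroupOf.mp this)
      obtain ⟨k, hk⟩ := IsPGroup.iff_card.mp (hPp.to_le (inf_le_left : R ≤ P))
      have h1 : v Q₁ < k := by
        refine (Nat.pow_lt_pow_iff_right hp.out.one_lt).mp ?_
        rw [← hScard, ← hk]
        exact lt_of_not_ge fun h => hSR.ne (Coprime.eq_of_le_of_card_le hSR.le h)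
      have h2 : k ≤ v T := (hp.out.pow_dvd_iff_le_factorization Nat.card_pos.ne').mp
        (hk ▸ Subgroup.card_dvd_of_le ((inf_le_right : R ≤ _).trans hST))
      omega
    have hS0 : S ≠ ⊥ := by
      intro h
      rw [h, Subgroup.card_bot] at hScard
      have hv : v Q₁ = 0 := by
        rcases Nat.eq_zero_or_pos (v Q₁) with h0 | h0
        · exact h0
        · exact absurd hScard.symm (Nat.one_lt_pow h0.ne' hp.out.one_lt).ne'
      obtain ⟨j, hj, hjc⟩ := Coprime.exists_card_eq_prime_pow hp.out hQ₁p hQ₁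
      have := (hp.out.pow_dvd_iff_le_factorization Nat.card_pos.ne').mp
        (hjc ▸ Subgroup.card_dvd_of_le (Subgroup.le_normalizer (H := Q₁)))
      simp only [v] at hv
      omega
    refine hQbad (hrel hMtop hSM hSp hSi
      (hgood _ (hSp.to_le (LocalEven2.thompsonSubgroupOf_le _ _)) (thompsonSubgroupOf_ne_bot hSp hS0)
        (LocalEven2.normalizer_le_normalizer_thompson p S)) ?_)
    exact Transfer.hasNormalPComplement_of_le (centralizer_le_normalizer' _)
      (hgood _ (hSp.to_le inf_le_left) (center_ne_bot hSp hS0) (normalizer_le_normalizer_center S))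
  -- the quotient by `U` has a normal complement
  set U := Cfsg.pCore p G with hU
  have hUp : IsPGroup p U := Cores.pCore_isPGroup p G
  have hUP : U ≤ (P : Subgroup G) := Cores.pCore_le_sylow P
  let π := QuotientGroup.mk' U
  have hπ : Function.Surjective π := QuotientGroup.mk'_surjective U
  have hPU : U ≠ (P : Subgroup G) := by
    intro h
    refine hJ' (top_le_iff.mp ?_)
    rw [← Subgroup.normalizer_eq_top (H := (P : Subgroup G)) (h := h ▸ inferInstance)]
    exact LocalEven2.normalizer_le_normalizer_thompson p _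
  set Pb := (P : Subgroup G).map π with hPb
  have hPbp : IsPGroup p Pb := hPp.map π
  have hPb0 : Pb ≠ ⊥ := fun h => hPU (le_antisymm hUP (by
    rw [hPb, Subgroup.map_eq_bot_iff, QuotientGroup.ker_mk'] at h
    exact h))
  have hnorm : ∀ Y : Subgroup (G ⧸ U), IsPGroup p Y → Y ≠ ⊥ →
      Pb ≤ Subgroup.normalizer (Y : Set (G ⧸ U)) →
      Cfsg.HasNormalPComplement p (Subgroup.normalizer (Y : Set (G ⧸ U))) := by
    intro Y hY hY0 hPY
    have heq : (Subgroup.normalizer (Y : Set (G ⧸ U))).comap π =
        Subgroup.normalizer ((Y.comap π : Subgroup G) : Set G) :=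
      Subgroup.comap_normalizer_eq_of_surjective Y hπ
    have htop : Subgroup.normalizer ((Y.comap π : Subgroup G) : Set G) ≠ ⊤ := by
      intro h
      have hle : Y.comap π ≤ U := Cores.le_pCore (Subgroup.normalizer_eq_top_iff.mp h)
        (hY.comap_of_ker_isPGroup π (by rw [QuotientGroup.ker_mk']; exact hUp))
      apply hY0
      rw [← Subgroup.map_comap_eq_self_of_surjective hπ Y, Subgroup.map_eq_bot_iff,
        QuotientGroup.ker_mk']
      exact hle
    have h1 := hover _ htop (by rw [← heq]; exact Subgroup.map_le_iff_le_comap.mp hPY)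
    rw [← Subgroup.map_comap_eq_self_of_surjective hπ (Subgroup.normalizer (Y : Set (G ⧸ U))), heq]
    exact Transfer.hasNormalPComplement_of_surjective
      (π.subgroupMap _) (π.subgroupMap_surjective _) h1
  have hltU : Nat.card (G ⧸ U) < n := hn ▸ card_quotient_lt hU0
  have hGU : Cfsg.HasNormalPComplement p (G ⧸ U) := by
    refine IH _ hltU (G ⧸ U) rfl (P.mapSurjective hπ) ?_ ?_
    · exact hnorm _ (hPbp.to_le (LocalEven2.thompsonSubgroupOf_le _ _))
        (thompsonSubgroupOf_ne_bot hPbp hPb0)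
        (Subgroup.le_normalizer.trans (LocalEven2.normalizer_le_normalizer_thompson p _))
    · exact Transfer.hasNormalPComplement_of_le (centralizer_le_normalizer' _)
        (hnorm _ (hPbp.to_le inf_le_left) (center_ne_bot hPbp hPb0)
          (Subgroup.le_normalizer.trans (normalizer_le_normalizer_center _)))
  set Kb := Cfsg.pResidual p (G ⧸ U) with hKb
  have hKbc : (Nat.card Kb).Coprime p := Transfer.hasNormalPComplement_iff_coprime.mp hGU
  have hKbdisj : Pb ⊓ Kb = ⊥ :=
    (Transfer.hasNormalPComplement_iff_inf_eq_bot (P.mapSurjective hπ)).mp hGU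
  have hKbsup : Pb ⊔ Kb = ⊤ := Transfer.sylow_sup_pResidual (P.mapSurjective hπ)
  set K := Kb.comap π with hK
  have hKpr : ∀ g : G, (orderOf g).Coprime p → g ∈ K := fun g hg =>
    Transfer.mem_pResidual_of_coprime (hg.coprime_dvd_left (orderOf_map_dvd π g))
  have hKp : ∀ g ∈ K, (∃ k, orderOf g = p ^ k) → g ∈ U := by
    rintro g hg ⟨k, hk⟩
    refine (QuotientGroup.eq_one_iff g).mp (orderOf_eq_one_iff.mp ?_)
    refine Nat.eq_one_of_dvd_coprimes (Nat.Coprime.pow_right k hKbc) ?_ (hk ▸ orderOf_map_dvd π g)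
    exact Subgroup.orderOf_dvd_natCard _ (show π g ∈ Kb from hg)
  have hKU : Kb ≠ ⊥ := by
    intro h
    rw [h, sup_bot_eq] at hKbsup
    refine hPU (le_antisymm hUP ?_)
    refine Cores.le_pCore ?_ hPp
    have : (P : Subgroup G) = ⊤ := by
      rw [← Subgroup.comap_top π, ← hKbsup, hPb, Subgroup.comap_map_eq, QuotientGroup.ker_mk',
        sup_eq_left.mpr hUP]
    rw [this]; infer_instance
  -- `C(U) ≤ U`
  have hCU : Subgroup.centralizer (U : Set G) ≤ U := by
    set D := Subgroup.centralizer (U : Set G) ⊓ K with hD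
    have hDn : D.Normal := inferInstance
    have hDnpc : Cfsg.HasNormalPComplement p D := by
      obtain ⟨S⟩ : Nonempty (Sylow p D) := inferInstance
      refine Transfer.hasNormalPComplement_of_normalizer_le_centralizer S fun x _ => ?_
      refine Subgroup.mem_centralizer_iff.mpr fun y hy => Subtype.ext ?_
      have hyU : (y : G) ∈ U := hKp _ (Subgroup.mem_inf.mp y.2).2 (by
        obtain ⟨k, hk⟩ := IsPGroup.iff_orderOf.mp S.2 ⟨y, hy⟩
        exact ⟨k, by rwa [Subgroup.orderOf_mk, ← Subgroup.orderOf_coe] at hk⟩)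
      exact Subgroup.mem_centralizer_iff.mp (Subgroup.mem_inf.mp x.2).1 y hyU
    have hRbot : (Cfsg.pResidual p D).map D.subtype = ⊥ := hN0 _
      (Cores.normal_map_subtype_of_char D _) (by
        rw [Subgroup.card_map_of_injective D.subtype_injective]
        exact Transfer.hasNormalPComplement_iff_coprime.mp hDnpc)
    have hDp : IsPGroup p D := by
      obtain ⟨k, hk⟩ := Transfer.exists_index_pResidual (G := D) (p := p)
      rw [(Subgroup.map_eq_bot_iff_of_injective _ D.subtype_injective).mp hRbot,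
        Subgroup.index_bot] at hk
      exact IsPGroup.of_card hk
    refine Cores.le_pCore inferInstance fun c => ?_
    -- the power of `c` lying in `K`
    obtain ⟨k, hk⟩ := (Transfer.isPGroup_quotient_pResidual (G := G ⧸ U) (p := p))
      (QuotientGroup.mk (π c))
    rw [← QuotientGroup.mk_pow, QuotientGroup.eq_one_iff, ← map_pow] at hk
    obtain ⟨l, hl⟩ := hDp ⟨(c : G) ^ p ^ k, Subgroup.mem_inf.mpr ⟨pow_mem c.2 _, hk⟩⟩
    exact ⟨k + l, Subtype.ext (by
      simpa [pow_add, pow_mul] using congrArg Subtype.val hl)⟩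
  -- `P` is a maximal subgroup
  have hmaxP : ∀ H : Subgroup G, (P : Subgroup G) ≤ H → H ≠ ⊤ → H ≤ P := by
    intro H hPH hH
    have hHn := hover H hH hPH
    have hR : Cfsg.pResidual p H = ⊥ := by
      rw [eq_bot_iff]
      intro x hx
      have hxo := Transfer.coprime_orderOf_of_mem
        (Transfer.hasNormalPComplement_iff_coprime.mp hHn) hx
      haveI : (U.subgroupOf H).Normal := inferInstance
      have hxC := Transfer.commute_of_hasNormalPComplement hHn
        (Q := U.subgroupOf H) (hUp.comap_of_injective _ H.subtype_injective) hxo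
      have hxU : (x : G) ∈ U := hCU (Subgroup.mem_centralizer_iff.mpr fun u hu =>
        congrArg Subtype.val (Subgroup.mem_centralizer_iff.mp hxC ⟨u, hPH (hUP hu)⟩
          (Subgroup.mem_subgroupOf.mpr hu)))
      exact Subgroup.mem_bot.mpr (Subtype.ext (Transfer.eq_one_of_isPGroup_of_coprime hUp hxU
        (by rwa [Subgroup.orderOf_coe])))
    have hHp : IsPGroup p H := by
      obtain ⟨k, hk⟩ := Transfer.exists_index_pResidual (G := H) (p := p)
      rw [hR, Subgroup.index_bot] at hk
      exact IsPGroup.of_card hk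
    exact (P.is_maximal' hHp hPH).le
  have hinv : ∀ L : Subgroup (G ⧸ U), L ≤ Kb → Pb ≤ Subgroup.normalizer (L : Set (G ⧸ U)) →
      L = ⊥ ∨ L = Kb := by
    intro L hLK hPL
    by_cases h : (Pb ⊔ L).comap π = ⊤
    · right
      refine le_antisymm hLK fun k hk => ?_
      have htop : Pb ⊔ L = ⊤ := by
        rw [← Subgroup.map_comap_eq_self_of_surjective hπ (Pb ⊔ L), h,
          Subgroup.map_top_of_surjective π hπ]
      obtain ⟨l, hl, y, hy, rfl⟩ := Coprime.exists_mul_of_mem_sup hPL
        (show k ∈ L ⊔ Pb by rw [sup_comm, htop]; exact Subgroup.mem_top k)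
      have hyK : y ∈ Pb ⊓ Kb := ⟨hy, by simpa using mul_mem (inv_mem (hLK hl)) hk⟩
      rw [hKbdisj, Subgroup.mem_bot] at hyK
      rwa [hyK, mul_one]
    · left
      have h1 := hmaxP _ ((Subgroup.le_comap_map π _).trans (Subgroup.comap_mono le_sup_left)) h
      have h2 : Pb ⊔ L ≤ Pb := by
        rw [← Subgroup.map_comap_eq_self_of_surjective hπ (Pb ⊔ L)]
        exact Subgroup.map_mono h1
      exact le_bot_iff.mp (hKbdisj ▸ le_inf (le_sup_right.trans h2) hLK)
  have hnormal : ∀ L : Subgroup (G ⧸ U), L.Normal → L ⊓ Kb = ⊥ ∨ L ⊓ Kb = Kb := fun L hL =>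
    hinv _ inf_le_right (by rw [Subgroup.normalizer_eq_top]; exact le_top)
  -- `Kb` is abelian
  have hKbn : Pb ≤ Subgroup.normalizer (Kb : Set (G ⧸ U)) := by
    rw [Subgroup.normalizer_eq_top]; exact le_top
  obtain ⟨kP, hkP⟩ := IsPGroup.iff_card.mp hPbp
  have hcopK : (Nat.card Pb).Coprime (Nat.card Kb) := hkP ▸ Nat.Coprime.pow_left _ hKbc.symm
  have hKbsolv : Group.IsSolvable Kb := by
    obtain ⟨r, hr, hrd⟩ := Nat.exists_prime_and_dvd (fun h => hKU (Subgroup.card_eq_one.mp h))
    haveI : Fact r.Prime := ⟨hr⟩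
    haveI := hPbp.isNilpotent
    obtain ⟨R, hR⟩ := Coprime.exists_invariant_sylow hKbn hcopK (Or.inl inferInstance) r
    rcases hinv _ (Subgroup.map_subtype_le _) hR with h | h
    · exfalso
      have h1 := R.dvd_card_of_dvd_card hrd
      rw [(Subgroup.map_eq_bot_iff_of_injective _ Kb.subtype_injective).mp h,
        Subgroup.card_bot] at h1
      exact hr.one_lt.ne' (Nat.dvd_one.mp h1)
    · have hKr : IsPGroup r Kb := h ▸ R.2.map Kb.subtype
      haveI := hKr.isNilpotent
      infer_instance
  have hKbab : IsMulCommutative Kb := by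
    haveI := hKbsolv
    rcases hnormal ⁅Kb, Kb⁆ inferInstance with h | h
    · rw [inf_eq_left.mpr (Subgroup.commutator_le_right Kb Kb)] at h
      exact ⟨⟨fun x y => Subtype.ext (Subgroup.mem_centralizer_iff.mp
        (Subgroup.commutator_eq_bot_iff_le_centralizer.mp h y.2) x x.2)⟩⟩
    · rw [inf_eq_left.mpr (Subgroup.commutator_le_right Kb Kb)] at h
      exfalso
      haveI : Nontrivial Kb := (Subgroup.nontrivial_iff_ne_bot Kb).mpr hKU
      refine (IsSolvable.commutator_lt_top_of_nontrivial Kb).ne ?_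
      refine Subgroup.map_injective Kb.subtype_injective ?_
      rw [← MonoidHom.range_eq_map, Subgroup.range_subtype, commutator_def,
        Subgroup.map_commutator, ← MonoidHom.range_eq_map, Subgroup.range_subtype, h]
  -- `Pb` acts faithfully on `Kb`
  have hnop : ∀ L : Subgroup (G ⧸ U), L.Normal → IsPGroup p L → L = ⊥ := fun L hL hLp => by
    have h1 := Cores.le_pCore hL hLp
    rw [Cores.pCore_quotient_pCore p G] at h1
    exact le_bot_iff.mp h1
  have hfaith : Subgroup.centralizer (Kb : Set (G ⧸ U)) ⊓ Pb = ⊥ := by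
    refine hnop _ ?_ (hPbp.to_le inf_le_right)
    rw [← Subgroup.normalizer_eq_top_iff, eq_top_iff, ← hKbsup]
    refine sup_le ?_ (fun k hk => ?_)
    · exact (le_inf ((Subgroup.normalizer_eq_top (H := Subgroup.centralizer
        (Kb : Set (G ⧸ U)))).symm ▸ le_top) Subgroup.le_normalizer).trans
        Subgroup.inf_normalizer_le_normalizer_inf
    · refine centralizer_le_normalizer' _ (Subgroup.mem_centralizer_iff.mpr fun x hx => ?_)
      exact (Subgroup.mem_centralizer_iff.mp (Subgroup.mem_inf.mp hx).1 k hk).symm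
  -- the module `V`
  set W := U ⊓ Subgroup.centralizer (U : Set G) with hW
  have hWn : W.Normal := inferInstance
  have hWc : ∀ x ∈ W, ∀ y ∈ W, x * y = y * x := fun x hx y hy =>
    Subgroup.mem_centralizer_iff.mp (Subgroup.mem_inf.mp hy).2 x (Subgroup.mem_inf.mp hx).1
  let V : Subgroup G :=
    { carrier := {x | x ∈ W ∧ x ^ p = 1}
      one_mem' := ⟨one_mem _, one_pow _⟩
      mul_mem' := fun {x y} hx hy => ⟨mul_mem hx.1 hy.1, by
        rw [(show Commute x y from hWc x hx.1 y hy.1).mul_pow, hx.2, hy.2, one_mul]⟩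
      inv_mem' := fun {x} hx => ⟨inv_mem hx.1, by rw [inv_pow, hx.2, inv_one]⟩ }
  haveI hVn : V.Normal :=
    ⟨fun x hx g => ⟨hWn.conj_mem x hx.1 g, by rw [conj_pow, hx.2, mul_one, mul_inv_cancel]⟩⟩
  have hVc : IsMulCommutative V :=
    ⟨⟨fun x y => Subtype.ext (hWc x x.2.1 y y.2.1)⟩⟩
  set C := Subgroup.centralizer (V : Set G) with hC
  have hUC : U ≤ C := fun u hu => Subgroup.mem_centralizer_iff.mpr fun v hv =>
    (Subgroup.mem_centralizer_iff.mp (Subgroup.mem_inf.mp hv.1).2 u hu).symm
  have hUleC : C = U := by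
    refine le_antisymm ?_ hUC
    rcases hnormal (C.map π) (Subgroup.Normal.map inferInstance π hπ) with h | h
    · -- `C` maps to a normal `p`-subgroup
      have hCp : IsPGroup p (C.map π) := fun x => by
        obtain ⟨k, hk⟩ := (Transfer.isPGroup_quotient_pResidual (G := G ⧸ U) (p := p))
          (QuotientGroup.mk (x : G ⧸ U))
        rw [← QuotientGroup.mk_pow, QuotientGroup.eq_one_iff] at hk
        refine ⟨k, Subtype.ext ?_⟩
        rw [SubmonoidClass.coe_pow, OneMemClass.coe_one, ← Subgroup.mem_bot, ← h]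
        exact ⟨pow_mem x.2 _, hk⟩
      have h1 := hnop _ (Subgroup.Normal.map inferInstance π hπ) hCp
      rwa [Subgroup.map_eq_bot_iff, QuotientGroup.ker_mk'] at h1
    · exfalso
      apply hG
      have hKC : K ≤ C := by
        intro g hg
        have : π g ∈ C.map π := (inf_eq_right.mp h) hg
        rw [← Subgroup.mem_comap, Subgroup.comap_map_eq, QuotientGroup.ker_mk',
          sup_eq_left.mpr hUC] at this
        exact this
      have hZC : Subgroup.centralizer ((Zc (P : Subgroup G) : Subgroup G) : Set G) = ⊤ := by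
        rw [eq_top_iff, ← Transfer.sylow_sup_pResidual P]
        refine sup_le (fun x hx => Subgroup.mem_centralizer_iff.mpr fun z hz =>
          (Subgroup.mem_centralizer_iff.mp (Subgroup.mem_inf.mp hz).2 x hx).symm) ?_
        rw [Cfsg.pResidual, Subgroup.closure_le]
        intro g hg
        haveI : IsMulCommutative W := ⟨⟨fun x y => Subtype.ext (hWc x x.2 y y.2)⟩⟩
        have hgW : Subgroup.zpowers g ≤ Subgroup.centralizer (W : Set G) := by
          refine Cfsg.Agent.S0056.result (Subgroup.zpowers g) W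
            (by rw [Subgroup.normalizer_eq_top]; exact le_top) ?_ ?_
          · obtain ⟨k, hk⟩ := IsPGroup.iff_card.mp (hUp.to_le (inf_le_left : W ≤ U))
            rw [Nat.card_zpowers, hk]
            exact Nat.Coprime.pow_right k hg
          · rintro v hv hvp _ ⟨i, rfl⟩
            obtain ⟨k, hk⟩ := IsPGroup.iff_orderOf.mp (hUp.to_le (inf_le_left : W ≤ U)) ⟨v, hv⟩
            rw [Subgroup.orderOf_mk] at hk
            have hvV : v ∈ V := ⟨hv, by
              rw [hk] at hvp
              obtain rfl : k = 1 := Nat.Prime.eq_one_of_pow hvp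
              rw [pow_one] at hk
              rw [← hk, pow_orderOf_eq_one]⟩
            exact (Subgroup.mem_centralizer_iff.mp (zpow_mem (hKC (hKpr g hg)) i) v hvV).symm
        refine fun x hx => ?_
        refine Subgroup.mem_centralizer_iff.mp (hgW (Subgroup.mem_zpowers g)) x ?_
        obtain ⟨hxP, hxC⟩ := Subgroup.mem_inf.mp hx
        have hxU : x ∈ Subgroup.centralizer (U : Set G) :=
          Subgroup.centralizer_le (show (U : Set G) ⊆ P from hUP) hxC
        exact Subgroup.mem_inf.mpr ⟨hCU hxU, hxU⟩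
      exact (Transfer.hasNormalPComplement_congr
        ((MulEquiv.subgroupCongr hZC).trans Subgroup.topEquiv)).mp hZ
  -- an offender
  obtain ⟨A, hA, hAU⟩ : ∃ A, LocalEven2.IsMaxEA p (P : Subgroup G) A ∧ ¬ A ≤ U := by
    by_contra h
    push Not at h
    refine hJ' (top_le_iff.mp ?_)
    rw [← LocalEven2.thompsonSubgroupOf_eq_of_between (LocalEven2.thompsonSubgroupOf_le_of h) hUP,
      ← Subgroup.normalizer_eq_top (H := U)]
    exact LocalEven2.normalizer_le_normalizer_thompson p U
  -- its size
  have hVP : V ≤ (P : Subgroup G) := fun x hx => hUP (Subgroup.mem_inf.mp hx.1).1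
  have hineq : Nat.card V * Nat.card (A ⊓ U : Subgroup G) ≤
      Nat.card A * Nat.card (V ⊓ Subgroup.centralizer (A : Set G) : Subgroup G) := by
    have hVe : Cfsg.IsElementaryAbelian p V := ⟨hVc, fun x hx => hx.2⟩
    have hAU' : A ⊓ U ≤ Subgroup.centralizer (V : Set G) := inf_le_right.trans hUC
    have hS := PLocal.elemAb_sup hVe (PLocal.elemAb_of_le hA.2.1 (inf_le_left : A ⊓ U ≤ A))
      (fun v hv b hb => Subgroup.mem_centralizer_iff.mp (hAU' hb) v hv)
    have h1 := hA.2.2 _ (sup_le hVP ((inf_le_left : A ⊓ U ≤ A).trans hA.1)) hS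
    have h2 := Coprime.card_sup_mul_card_inf (N := V) (H := A ⊓ U)
      (hAU'.trans (centralizer_le_normalizer' _))
    have h3 : Nat.card (V ⊓ (A ⊓ U) : Subgroup G) ≤
        Nat.card (V ⊓ Subgroup.centralizer (A : Set G) : Subgroup G) := by
      refine Subgroup.card_le_of_le (inf_le_inf_left _ (inf_le_left.trans fun a ha => ?_))
      exact Subgroup.mem_centralizer_iff.mpr fun b hb => PLocal.commute_of_elemAb hA.2.1 hb ha
    calc Nat.card V * Nat.card (A ⊓ U : Subgroup G)
        = Nat.card (V ⊔ (A ⊓ U) : Subgroup G) * Nat.card (V ⊓ (A ⊓ U) : Subgroup G) := h2.symm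
      _ ≤ _ := Nat.mul_le_mul h1 h3
  -- the semidirect product
  have hker : U ≤ (MulAut.conjNormal : G →* MulAut V).ker := by
    intro u hu
    refine MonoidHom.mem_ker.mpr (MulEquiv.ext fun v => Subtype.ext ?_)
    show (MulAut.conjNormal u v : G) = v
    rw [MulAut.conjNormal_apply]
    exact conj_eq_of_mem_centralizer (hUC hu) v.2
  let φ : G ⧸ U →* MulAut V := QuotientGroup.lift U MulAut.conjNormal hker
  have hφinj : ∀ x, φ x = 1 → x = 1 := by
    intro x hx
    induction x using QuotientGroup.induction_on with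
    | H g =>
      refine (QuotientGroup.eq_one_iff g).mpr (hUleC ▸ Subgroup.mem_centralizer_iff.mpr fun v hv => ?_)
      have h1 : (φ (g : G ⧸ U) ⟨v, hv⟩ : G) = v := by rw [hx]; rfl
      rw [show φ (g : G ⧸ U) = MulAut.conjNormal g from rfl, MulAut.conjNormal_apply,
        mul_inv_eq_iff_eq_mul] at h1
      exact h1.symm
  haveI : Finite (V ⋊[φ] (G ⧸ U)) := Finite.of_equiv _ SemidirectProduct.equivProd.symm
  let V' : Subgroup (V ⋊[φ] (G ⧸ U)) := (SemidirectProduct.inl : V →* _).range
  let A' : Subgroup (V ⋊[φ] (G ⧸ U)) := (A.map π).map SemidirectProduct.inr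
  let Q' : Subgroup (V ⋊[φ] (G ⧸ U)) := Kb.map SemidirectProduct.inr
  have hV'n : ∀ H : Subgroup (V ⋊[φ] (G ⧸ U)), H ≤ Subgroup.normalizer (V' : Set _) := fun H => by
    haveI : V'.Normal := by
      show (SemidirectProduct.inl : V →* V ⋊[φ] (G ⧸ U)).range.Normal
      rw [SemidirectProduct.range_inl_eq_ker_rightHom]
      infer_instance
    rw [Subgroup.normalizer_eq_top]; exact le_top
  have hinr : Function.Injective (SemidirectProduct.inr : G ⧸ U →* V ⋊[φ] (G ⧸ U)) :=
    SemidirectProduct.inr_injective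
  have hcomm : ∀ (v : V) (x : G ⧸ U), Commute (SemidirectProduct.inl v : V ⋊[φ] (G ⧸ U))
      (SemidirectProduct.inr x) ↔ φ x v = v := by
    intro v x
    rw [← (SemidirectProduct.inl_injective (φ := φ)).eq_iff, SemidirectProduct.inl_aut, map_inv,
      mul_inv_eq_iff_eq_mul]
    exact eq_comm
  have hoff := card_lt_relIndex_centralizer hp2 (V := V') (A := A') (Q := Q')
    ⟨⟨fun x y => ?_⟩⟩ ?_ (PLocal.elemAb_map (PLocal.elemAb_map hA.2.1 π) _).1
    (PLocal.elemAb_map (PLocal.elemAb_map hA.2.1 π) _).2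
    ⟨⟨fun x y => ?_⟩⟩ ?_ (hV'n _) (hV'n _) ?_ ?_ ?_ ?_
  rotate_left
  · obtain ⟨_, a, rfl⟩ := x
    obtain ⟨_, b, rfl⟩ := y
    apply Subtype.ext
    show SemidirectProduct.inl a * SemidirectProduct.inl b = SemidirectProduct.inl b * _
    rw [← map_mul, ← map_mul, hVc.is_comm.comm]
  · rintro _ ⟨v, rfl⟩
    rw [← map_pow, show v ^ p = 1 from Subtype.ext v.2.2, map_one]
  · obtain ⟨_, a, ha, rfl⟩ := x
    obtain ⟨_, b, hb, rfl⟩ := y
    apply Subtype.ext
    show SemidirectProduct.inr a * SemidirectProduct.inr b = SemidirectProduct.inr b * _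
    rw [← map_mul, ← map_mul]
    exact congrArg _ (congrArg Subtype.val (hKbab.is_comm.comm (⟨a, ha⟩ : Kb) ⟨b, hb⟩))
  · rw [Subgroup.card_map_of_injective hinr]; exact hKbc
  · exact (Subgroup.map_mono (le_top (a := A.map π))).trans
      ((Subgroup.normalizer_eq_top (H := Kb)).symm ▸ Subgroup.le_normalizer_map _)
  · rw [eq_bot_iff]
    rintro _ ⟨⟨k, hk, rfl⟩, hkC⟩
    rw [Subgroup.mem_bot, hφinj k ?_, map_one]
    exact MulEquiv.ext fun v => (hcomm v k).mp (Subgroup.mem_centralizer_iff.mp hkC _ ⟨v, rfl⟩)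
  · rw [eq_bot_iff]
    rintro _ ⟨⟨x, hx, rfl⟩, hxC⟩
    have : x ∈ Subgroup.centralizer (Kb : Set (G ⧸ U)) ⊓ Pb := by
      refine ⟨Subgroup.mem_centralizer_iff.mpr fun k hk => hinr ?_, Subgroup.map_mono hA.1 hx⟩
      rw [map_mul, map_mul]
      exact Subgroup.mem_centralizer_iff.mp hxC _ (Subgroup.mem_map_of_mem _ hk)
    rw [hfaith, Subgroup.mem_bot] at this
    rw [Subgroup.mem_bot, this, map_one]
  · intro h
    rw [Subgroup.map_eq_bot_iff_of_injective _ hinr, Subgroup.map_eq_bot_iff,
      QuotientGroup.ker_mk'] at h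
    exact hAU h
  -- compare
  have hA'c : Nat.card A' * Nat.card (A ⊓ U : Subgroup G) = Nat.card A := by
    rw [Subgroup.card_map_of_injective hinr]
    have := Cores.card_map_mul_card_inf_ker π A
    rwa [QuotientGroup.ker_mk'] at this
  have hV'c : Nat.card (V' ⊓ Subgroup.centralizer (A' : Set _) : Subgroup _) =
      Nat.card (V ⊓ Subgroup.centralizer (A : Set G) : Subgroup G) := by
    have heq : V' ⊓ Subgroup.centralizer (A' : Set _) =
        ((Subgroup.centralizer (A : Set G)).subgroupOf V).map SemidirectProduct.inl := by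
      ext x
      constructor
      · rintro ⟨⟨v, rfl⟩, hv⟩
        refine ⟨v, Subgroup.mem_subgroupOf.mpr (Subgroup.mem_centralizer_iff.mpr fun a ha => ?_),
          rfl⟩
        have h1 := (hcomm v (π a)).mp (Subgroup.mem_centralizer_iff.mp hv _
          (Subgroup.mem_map_of_mem _ (Subgroup.mem_map_of_mem _ ha))).symm
        exact mul_inv_eq_iff_eq_mul.mp ((MulAut.conjNormal_apply (H := V) a v).symm.trans
          (congrArg Subtype.val h1))
      · rintro ⟨v, hv, rfl⟩
        refine ⟨⟨v, rfl⟩, Subgroup.mem_centralizer_iff.mpr ?_⟩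
        rintro _ ⟨_, ⟨a, ha, rfl⟩, rfl⟩
        refine ((hcomm v (π a)).mpr (Subtype.ext ?_)).symm.eq
        show (MulAut.conjNormal a v : G) = v
        rw [MulAut.conjNormal_apply]
        exact mul_inv_eq_iff_eq_mul.mpr (Subgroup.mem_centralizer_iff.mp hv a ha)
    rw [heq, Subgroup.card_map_of_injective SemidirectProduct.inl_injective,
      ← Subgroup.card_map_of_injective V.subtype_injective, Subgroup.subgroupOf_map_subtype,
      inf_comm]
  have hrelc := Coprime.relIndex_mul_card (inf_le_left : V' ⊓ Subgroup.centralizer (A' : Set _) ≤ V')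
  rw [inf_comm, Subgroup.inf_relIndex_right, inf_comm, hV'c] at hrelc
  have hV'card : Nat.card V' = Nat.card V :=
    Nat.card_range_of_injective SemidirectProduct.inl_injective
  rw [hV'card] at hrelc
  rw [← hrelc, ← hA'c, mul_right_comm (Nat.card A'), mul_comm (Nat.card A') _] at hineq
  have h4 := Nat.le_of_mul_le_mul_right hineq Nat.card_pos
  exact (Nat.le_of_mul_le_mul_left h4 Nat.card_pos).not_gt hoff

/-- Thompson's normal `p`-complement theorem. -/
theorem hasNormalPComplement [Finite G] [Fact p.Prime] (hp2 : p ≠ 2) (P : Sylow p G)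
    (hJ : Cfsg.HasNormalPComplement p
      (Subgroup.normalizer (Cfsg.thompsonSubgroupOf p (P : Subgroup G) : Set G)))
    (hZ : Cfsg.HasNormalPComplement p
      (Subgroup.centralizer
        (((P : Subgroup G) ⊓ Subgroup.centralizer ((P : Subgroup G) : Set G) : Subgroup G) : Set G))) :
    Cfsg.HasNormalPComplement p G :=
  main_aux hp2 _ G rfl P hJ hZ

end Cfsg.Agent.Lib.Solvable.ThompsonComplement
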