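import Cfsg.Agent.Lib.Coprime.Basic

/-!
Gaschütz's theorem on complements of abelian normal subgroups.
-/

set_option autoImplicit false

open Pointwise
open scoped IsMulCommutative

namespace Cfsg.Agent.Lib.Solvable

variable {G : Type*} [Group G] [Finite G] {K U : Subgroup G} [hKn : K.Normal] [IsMulCommutative K]

omit [Finite G] in
theorem conj_eq_of_mem {k v : G} (hk : k ∈ K) (hv : v ∈ K) : k * v * k⁻¹ = v := by
  have h : k * v = v * k :=
    congrArg Subtype.val (IsMulCommutative.is_comm.comm (⟨k, hk⟩ : K) ⟨v, hv⟩)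
  rw [h, mul_inv_cancel_right]

/-- Existence of a complement. -/
theorem exists_complement_of_coprime_index (hKU : K ≤ U) (hcop : (Nat.card K).Coprime U.index)
    {A : Subgroup G} (hAU : A ≤ U) (hAK : A ⊓ K = ⊥) (hKA : K ⊔ A = U) :
    ∃ H : Subgroup G, Subgroup.IsComplement' K H := by
  classical
  have : Fintype (G ⧸ U) := Fintype.ofFinite _
  have hdec : ∀ (g : G) (q : G ⧸ U), ∃ k : K, ∃ a ∈ A, g * q.out = k * (g • q).out * a := by
    intro g q
    have hu : ((g • q).out)⁻¹ * (g * q.out) ∈ U := by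
      rw [← QuotientGroup.eq]
      show ((g • q).out : G ⧸ U) = g • (q.out : G ⧸ U)
      rw [QuotientGroup.out_eq', QuotientGroup.out_eq']
    obtain ⟨k, hk, a, ha, hka⟩ :=
      Coprime.exists_mul_of_mem_sup Subgroup.le_normalizer_of_normal (hKA.ge hu)
    refine ⟨⟨(g • q).out * k * ((g • q).out)⁻¹, hKn.conj_mem k hk _⟩, a, ha, ?_⟩
    rw [inv_mul_eq_iff_eq_mul] at hka
    rw [hka]
    group
  choose kf hkf using hdec
  -- uniqueness of the `K`-component
  have huniq : ∀ (g : G) (q : G ⧸ U) (k : K) (a : G), a ∈ A →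
      g * q.out = k * (g • q).out * a → kf g q = k := by
    intro g q k a ha h
    obtain ⟨a', ha', h'⟩ := hkf g q
    set t := (g • q).out
    have hK : t⁻¹ * ((k : G)⁻¹ * (kf g q : G)) * t ∈ K := by
      simpa using hKn.conj_mem _ (mul_mem (inv_mem k.2) (kf g q).2) t⁻¹
    have heq : t⁻¹ * ((k : G)⁻¹ * (kf g q : G)) * t = a * a'⁻¹ := by
      have h2 : (kf g q : G) * t * a' = k * t * a := h'.symm.trans h
      calc t⁻¹ * ((k : G)⁻¹ * (kf g q : G)) * t
          = t⁻¹ * (k : G)⁻¹ * ((kf g q : G) * t * a') * a'⁻¹ := by group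
        _ = a * a'⁻¹ := by rw [h2]; group
    have h1 : t⁻¹ * ((k : G)⁻¹ * (kf g q : G)) * t ∈ A ⊓ K :=
      Subgroup.mem_inf.mpr ⟨heq ▸ mul_mem ha (inv_mem ha'), hK⟩
    rw [hAK, Subgroup.mem_bot, mul_eq_one_iff_eq_inv, mul_eq_left, inv_mul_eq_one] at h1
    exact Subtype.ext h1.symm
  let cj : G → K →* K := fun g =>
    { toFun := fun k => ⟨g * k * g⁻¹, hKn.conj_mem k k.2 g⟩
      map_one' := Subtype.ext (by simp)
      map_mul' := fun x y => Subtype.ext (by simp [mul_assoc]) }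
  let f : G → K := fun g => ∏ q : G ⧸ U, kf g q
  have hf : ∀ g h, f (g * h) = cj g (f h) * f g := by
    intro g h
    simp only [f, map_prod]
    rw [← Fintype.prod_equiv (MulAction.toPerm h : Equiv.Perm (G ⧸ U)) (fun q => kf g (h • q))
      (fun q => kf g q) (fun q => rfl), ← Finset.prod_mul_distrib]
    refine Finset.prod_congr rfl fun q _ => ?_
    obtain ⟨a, ha, h1⟩ := hkf h q
    obtain ⟨b, hb, h2⟩ := hkf g (h • q)
    refine huniq (g * h) q _ (b * a) (mul_mem hb ha) ?_
    rw [mul_smul]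
    calc g * h * q.out = g * (kf h q : G) * g⁻¹ * (g * (h • q).out) * a := by
          rw [mul_assoc g h, h1]; group
      _ = _ := by
          rw [h2]
          simp only [cj, MonoidHom.coe_mk, OneHom.coe_mk, Subgroup.coe_mul]
          group
  have hfK : ∀ k : K, f k = k ^ U.index := by
    intro k
    have h1 : ∀ q : G ⧸ U, (k : G) • q = q := by
      intro q
      induction q using QuotientGroup.induction_on with
      | _ x =>
        show ((k : G) * x : G ⧸ U) = x
        rw [QuotientGroup.eq]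
        refine hKU ?_
        simpa [mul_assoc] using hKn.conj_mem _ (inv_mem k.2) x⁻¹
    have h2 : ∀ q : G ⧸ U, kf k q = k := fun q =>
      huniq k q k 1 (one_mem _) (by rw [h1, mul_one])
    show ∏ q : G ⧸ U, kf k q = _
    rw [Finset.prod_congr rfl (fun q _ => h2 q), Finset.prod_const, Finset.card_univ,
      U.index_eq_card, Nat.card_eq_fintype_card]
  let r : K ≃ K := powCoprime hcop
  let c : G → K := fun g => r.symm (f g)
  have hcmul : ∀ g h, c (g * h) = cj g (c h) * c g := by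
    intro g h
    apply r.injective
    simp only [r, c, powCoprime_apply, mul_pow, ← map_pow]
    simp only [← powCoprime_apply hcop, Equiv.apply_symm_apply, hf]
  have hcK : ∀ k : K, c k = k := by
    intro k
    apply r.injective
    show r (r.symm (f k)) = r k
    rw [Equiv.apply_symm_apply, hfK]
    rfl
  let ψ : G →* G :=
    MonoidHom.mk' (fun g => (c g : G)⁻¹ * g) (fun g h => by
      rw [hcmul]
      simp only [cj, MonoidHom.coe_mk, OneHom.coe_mk, Subgroup.coe_mul]
      group)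
  refine ⟨ψ.range, Subgroup.isComplement'_of_disjoint_and_mul_eq_univ ?_ ?_⟩
  · rw [disjoint_iff, eq_bot_iff]
    rintro _ ⟨hx, g, rfl⟩
    have hg : g ∈ K := by simpa [ψ] using mul_mem (c g).2 hx
    have : c g = ⟨g, hg⟩ := hcK ⟨g, hg⟩
    simp [ψ, this]
  · rw [Set.eq_univ_iff_forall]
    exact fun g => ⟨(c g : G), (c g).2, ψ g, ⟨g, rfl⟩, by simp [ψ]⟩

/-- Conjugacy of complements. -/
theorem exists_conj_eq_of_inf_eq (hKU : K ≤ U) (hcop : (Nat.card K).Coprime U.index)
    {H₀ H₁ : Subgroup G} (h₀ : Subgroup.IsComplement' K H₀) (h₁ : Subgroup.IsComplement' K H₁)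
    (hU : H₀ ⊓ U = H₁ ⊓ U) : ∃ g : G, MulAut.conj g • H₀ = H₁ := by
  classical
  have hdec : ∀ g : G, ∃ k : K, (k : G)⁻¹ * g ∈ H₁ := by
    intro g
    have hg : g ∈ K ⊔ H₁ := h₁.sup_eq_top ▸ Subgroup.mem_top g
    obtain ⟨k, hk, h, hh, rfl⟩ := Coprime.exists_mul_of_mem_sup Subgroup.le_normalizer_of_normal hg
    exact ⟨⟨k, hk⟩, by simpa using hh⟩
  choose d hd using hdec
  have huniq : ∀ (g : G) (k : K), (k : G)⁻¹ * g ∈ H₁ → d g = k := by
    intro g k hk
    have h1 : (d g : G)⁻¹ * k ∈ K ⊓ H₁ := by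
      refine Subgroup.mem_inf.mpr ⟨mul_mem (inv_mem (d g).2) k.2, ?_⟩
      have := mul_mem (hd g) (inv_mem hk)
      simpa [mul_assoc] using this
    rw [disjoint_iff.mp h₁.disjoint, Subgroup.mem_bot, inv_mul_eq_one] at h1
    exact Subtype.ext h1
  let cj : G → K →* K := fun g =>
    { toFun := fun k => ⟨g * k * g⁻¹, hKn.conj_mem k k.2 g⟩
      map_one' := Subtype.ext (by simp)
      map_mul' := fun x y => Subtype.ext (by simp [mul_assoc]) }
  have hdmul : ∀ g h, d (g * h) = d g * cj g (d h) := by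
    intro g h
    apply huniq
    have hh2 := hd h
    have hg2 := hd g
    set kg := (d g : G)
    set gh := kg⁻¹ * g
    -- `gh` acts on `K` as `g` does
    have hact : gh * (d h : G) * gh⁻¹ = g * (d h : G) * g⁻¹ := by
      calc gh * (d h : G) * gh⁻¹ = kg⁻¹ * (g * (d h : G) * g⁻¹) * (kg⁻¹)⁻¹ := by
            simp only [gh]; group
        _ = _ := conj_eq_of_mem (inv_mem (d g).2) (hKn.conj_mem _ (d h).2 g)
    have h3 := mul_mem hg2 hh2
    have h4 : ((d g * cj g (d h) : K) : G)⁻¹ * (g * h) = gh * ((d h : G)⁻¹ * h) := by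
      simp only [cj, MonoidHom.coe_mk, OneHom.coe_mk, Subgroup.coe_mul]
      rw [← hact]
      simp only [gh, kg]
      group
    rw [h4]
    exact h3
  set A := (H₀ ⊓ U).subgroupOf H₀ with hA
  have : Fintype (H₀ ⧸ A) := Fintype.ofFinite _
  have hd1 : ∀ a ∈ H₀ ⊓ U, d a = 1 := fun a ha =>
    huniq a 1 (by simpa using (hU ▸ ha : a ∈ H₁ ⊓ U).1)
  let v : K := ∏ q : H₀ ⧸ A, d (q.out : G)
  have hwd : ∀ (x : H₀), d ((x : H₀ ⧸ A).out : G) = d (x : G) := by
    intro x
    obtain ⟨a, ha⟩ := QuotientGroup.mk_out_eq_mul A x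
    have ha1 : d ((a : H₀) : G) = 1 := hd1 _ a.2
    rw [ha, Subgroup.coe_mul, hdmul, ha1, map_one, mul_one]
  have hindex : Fintype.card (H₀ ⧸ A) = U.index := by
    rw [← Nat.card_eq_fintype_card, ← Subgroup.index_eq_card]
    show (H₀ ⊓ U).relIndex H₀ = U.index
    rw [inf_comm, Subgroup.inf_relIndex_right]
    have hsup : H₀ ⊔ U = ⊤ := eq_top_iff.mpr (h₀.sup_eq_top ▸ sup_le (hKU.trans le_sup_right) le_sup_left)
    have e1 : (H₀ ⊓ U).index = H₀.index * U.index := by
      have hc : Nat.card H₀ * U.index = Nat.card G / Nat.card U * Nat.card H₀ := by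
        rw [← U.card_mul_index, Nat.mul_div_cancel_left _ Nat.card_pos, mul_comm]
      have hUd : U = K ⊔ (H₀ ⊓ U) := by
        refine le_antisymm (fun u hu => ?_) (sup_le hKU inf_le_right)
        obtain ⟨k, hk, h, hh, rfl⟩ := Coprime.exists_mul_of_mem_sup
          Subgroup.le_normalizer_of_normal (h₀.sup_eq_top ▸ Subgroup.mem_top u : u ∈ K ⊔ H₀)
        refine Subgroup.mul_mem_sup hk ⟨hh, ?_⟩
        simpa using mul_mem (inv_mem (hKU hk)) hu
      have hcard := Coprime.card_sup_mul_card_inf (N := K) (H := H₀ ⊓ U)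
        Subgroup.le_normalizer_of_normal
      have hbot : K ⊓ (H₀ ⊓ U) = ⊥ :=
        le_bot_iff.mp (le_trans (inf_le_inf_left K inf_le_left) (disjoint_iff.mp h₀.disjoint).le)
      rw [← hUd, hbot, Subgroup.card_bot, mul_one] at hcard
      have e2 := (H₀ ⊓ U).card_mul_index
      have e3 := U.card_mul_index
      have e4 := h₀.card_mul_card
      have e5 := H₀.card_mul_index
      have hi : H₀.index = Nat.card K := h₀.index_eq_card
      rw [hi]
      apply Nat.eq_of_mul_eq_mul_left (Nat.card_pos (α := (H₀ ⊓ U : Subgroup G)))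
      rw [e2, ← e3, hcard]; ring
    have e6 := Subgroup.relIndex_mul_index (inf_le_left : H₀ ⊓ U ≤ H₀)
    rw [e1, inf_comm, Subgroup.inf_relIndex_right, mul_comm H₀.index] at e6
    exact Nat.eq_of_mul_eq_mul_right (Nat.pos_of_ne_zero Subgroup.index_ne_zero_of_finite) e6
  have key : ∀ h : H₀, v = d h ^ U.index * cj h v := by
    intro h
    simp only [v, map_prod, ← hindex, ← Finset.card_univ, ← Finset.prod_const,
      ← Finset.prod_mul_distrib]
    refine (Fintype.prod_equiv (MulAction.toPerm h : Equiv.Perm (H₀ ⧸ A)) _ _ fun q => ?_).symm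
    induction q using QuotientGroup.induction_on with
    | _ x =>
      show d h * cj h (d ((x : H₀ ⧸ A).out : G)) = d (((h * x : H₀) : H₀ ⧸ A).out : G)
      rw [hwd, hwd, Subgroup.coe_mul, hdmul]
  let r : K ≃ K := powCoprime hcop
  set w : K := r.symm v with hw
  have hdw : ∀ h : H₀, (d h : G) = (w : G) * h * (w : G)⁻¹ * (h : G)⁻¹ := by
    intro h
    have h1 : d h = w * (cj h w)⁻¹ := by
      apply r.injective
      have h2 : w ^ U.index = v := by
        rw [hw]; exact r.apply_symm_apply v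
      simp only [r, powCoprime_apply, mul_pow, inv_pow, ← map_pow, h2]
      rw [eq_mul_inv_iff_mul_eq]
      exact (key h).symm
    rw [h1]
    simp only [cj, MonoidHom.coe_mk, OneHom.coe_mk, Subgroup.coe_mul, Subgroup.coe_inv]
    group
  refine ⟨(w : G)⁻¹, Coprime.eq_of_le_of_card_le ?_ ?_⟩
  · intro x hx
    rw [Coprime.mem_conj_smul, inv_inv] at hx
    have h1 := hd ((w : G) * x * (w : G)⁻¹)
    rw [hdw ⟨_, hx⟩] at h1
    -- `φ h = w⁻¹ * h * w`
    set h := (w : G) * x * (w : G)⁻¹ with hh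
    have h2 : ((w : G) * h * (w : G)⁻¹ * h⁻¹)⁻¹ = h * (w : G) * h⁻¹ * (w : G)⁻¹ := by group
    have h3 : h * (w : G) * h⁻¹ * (w : G)⁻¹ = (w : G)⁻¹ * (h * (w : G) * h⁻¹) := by
      calc h * (w : G) * h⁻¹ * (w : G)⁻¹
          = (w : G)⁻¹ * ((w : G) * (h * (w : G) * h⁻¹) * (w : G)⁻¹) := by group
        _ = _ := by rw [conj_eq_of_mem w.2 (hKn.conj_mem _ w.2 h)]
    rw [h2, h3] at h1
    have h4 : (w : G)⁻¹ * (h * (w : G) * h⁻¹) * h = x := by rw [hh]; group
    rwa [h4] at h1
  · rw [Coprime.card_conj_smul, ← h₀.symm.index_eq_card, h₁.symm.index_eq_card]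

end Cfsg.Agent.Lib.Solvable
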