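import Cfsg.Agent.Lib.Solvable.FixedPointFree
import Cfsg.Agent.Lib.Solvable.Nilpotent
import Cfsg.Agent.S0056

/-!
Schmidt's theorem on minimal non-nilpotent groups.
-/

set_option autoImplicit false

universe u

namespace Cfsg.Agent.Lib.Solvable.Schmidt

open Cfsg.Agent.Lib

variable {G : Type u} [Group G]

theorem nilpotent_of_proper [Finite G] (h : ∀ M : Subgroup G, IsCoatom M → Group.IsNilpotent M)
    {H : Subgroup G} (hH : H ≠ ⊤) : Group.IsNilpotent H := by
  obtain ⟨M, hM, hHM⟩ := (eq_top_or_exists_le_coatom H).resolve_left hH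
  haveI := h M hM
  exact Cores.isNilpotent_of_injective (Subgroup.inclusion hHM) (Subgroup.inclusion_injective _)

theorem isSolvable_aux : ∀ (n : ℕ) (G : Type u) [Group G] [Finite G], Nat.card G = n →
    (∀ H : Subgroup G, H ≠ ⊤ → Group.IsNilpotent H) → Group.IsSolvable G := by
  intro n
  induction n using Nat.strongRecOn with
  | ind n IH =>
  intro G _ _ hn h
  by_contra hns
  haveI : Nontrivial G := by
    by_contra hn'
    rw [not_nontrivial_iff_subsingleton] at hn'
    exact hns inferInstance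
  -- `G` is simple
  have hsimple : ∀ N : Subgroup G, N.Normal → N ≠ ⊥ → N = ⊤ := by
    intro N hN hN0
    by_contra hNtop
    haveI := hN
    haveI := h N hNtop
    haveI : Group.IsSolvable (G ⧸ N) := by
      refine IH _ (hn ▸ ThompsonComplement.card_quotient_lt hN0) (G ⧸ N) rfl fun H hH => ?_
      have hc : H.comap (QuotientGroup.mk' N) ≠ ⊤ := fun e => hH (by
        rw [← Subgroup.map_comap_eq_self_of_surjective (QuotientGroup.mk'_surjective N) H, e,
          Subgroup.map_top_of_surjective _ (QuotientGroup.mk'_surjective N)])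
      haveI := h _ hc
      rw [← Subgroup.map_comap_eq_self_of_surjective (QuotientGroup.mk'_surjective N) H]
      exact Cores.isNilpotent_map _ _
    exact hns (Group.isSolvable_of_ker_le_range N.subtype (QuotientGroup.mk' N)
      (by rw [QuotientGroup.ker_mk', Subgroup.range_subtype]))
  obtain ⟨p, hp, hpd⟩ := Nat.exists_prime_and_dvd (Finite.one_lt_card (α := G)).ne'
  haveI := Fact.mk hp
  have hnp : ¬ IsPGroup p G := fun hp' => hns (by haveI := hp'.isNilpotent; infer_instance)
  have hnpc : Cfsg.HasNormalPComplement p G := by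
    refine Transfer.hasNormalPComplement_of_local fun Q hQ hQ0 => ?_
    have htop : Subgroup.normalizer (Q : Set G) ≠ ⊤ := fun e => hnp (by
      rw [hsimple Q (Subgroup.normalizer_eq_top_iff.mp e) hQ0] at hQ
      exact hQ.of_equiv Subgroup.topEquiv)
    haveI := h _ htop
    exact FixedPointFree.hasNormalPComplement_of_isNilpotent p
  have hK := Transfer.hasNormalPComplement_iff_coprime.mp hnpc
  by_cases hK0 : Cfsg.pResidual p G = ⊥
  · obtain ⟨k, hk⟩ := Transfer.exists_index_pResidual (G := G) (p := p)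
    rw [hK0, Subgroup.index_bot] at hk
    exact hnp (IsPGroup.of_card hk)
  · rw [hsimple _ Transfer.pResidual_normal hK0, Subgroup.card_top,
      Transfer.coprime_iff_not_dvd] at hK
    exact hK hpd

theorem isSolvable [Finite G] (h : ∀ H : Subgroup G, H ≠ ⊤ → Group.IsNilpotent H) :
    Group.IsSolvable G :=
  isSolvable_aux _ G rfl h

theorem commute_of_coprime_orderOf [Finite G] [Group.IsNilpotent G] {p q : ℕ} [Fact p.Prime]
    [Fact q.Prime] (hpq : p ≠ q) {A B : Subgroup G} (hA : IsPGroup p A) (hB : IsPGroup q B) :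
    A ≤ Subgroup.centralizer (B : Set G) := by
  have key : ∀ (r : ℕ) [Fact r.Prime] (C : Subgroup G), IsPGroup r C → C ≤ Cfsg.pCore r G := by
    intro r _ C hC
    obtain ⟨P, hP⟩ := hC.exists_le_sylow
    exact hP.trans (Cores.le_pCore
      (Sylow.normal_of_normalizerCondition Group.normalizerCondition_of_isNilpotent P) P.2)
  intro a ha
  refine Subgroup.mem_centralizer_iff.mpr fun b hb => ?_
  exact (Subgroup.commute_of_normal_of_disjoint _ _ (Cfsg.pCore_normal p G) (Cfsg.pCore_normal q G)
    (IsPGroup.disjoint_of_ne p q hpq _ _ (Cores.pCore_isPGroup p G) (Cores.pCore_isPGroup q G))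
    a b (key p A hA ha) (key q B hB hb)).eq.symm

/-- The structure of a minimal non-nilpotent group. -/
theorem structure_of_minimal [Finite G] (hG : ¬ Group.IsNilpotent G)
    (h : ∀ H : Subgroup G, H ≠ ⊤ → Group.IsNilpotent H) :
    ∃ p q : ℕ, p.Prime ∧ q.Prime ∧ p ≠ q ∧ ∃ (P : Sylow p G) (Q : Sylow q G), IsCyclic P ∧
      (Q : Subgroup G).Normal ∧ (P : Subgroup G) ⊔ Q = ⊤ ∧ ¬ (P : Subgroup G).Normal ∧
      ∀ r : ℕ, r.Prime → r ∣ Nat.card G → r = p ∨ r = q := by
  haveI := isSolvable h
  haveI : Nontrivial G := by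
    by_contra hn'
    rw [not_nontrivial_iff_subsingleton] at hn'
    exact hG inferInstance
  obtain ⟨N, hN, hNi⟩ := Coprime.exists_normal_prime_index (H := G)
  haveI := hN
  set p := N.index with hp
  haveI := Fact.mk hNi
  have hNtop : N ≠ ⊤ := fun e => hNi.ne_one (by rw [hp, e, Subgroup.index_top])
  haveI := h N hNtop
  -- the Sylow subgroups for the other primes are normal
  have hnormal : ∀ (r : ℕ) [Fact r.Prime], r ≠ p → ∀ R : Sylow r G, (R : Subgroup G).Normal := by
    intro r _ hr R
    have hRN : (R : Subgroup G) ≤ N := by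
      intro x hx
      rw [← QuotientGroup.eq_one_iff]
      obtain ⟨k, hk⟩ := IsPGroup.iff_orderOf.mp R.2 ⟨x, hx⟩
      rw [Subgroup.orderOf_mk] at hk
      refine orderOf_eq_one_iff.mp (Nat.eq_one_of_dvd_coprimes
        (Nat.Coprime.pow_left k ((Nat.coprime_primes (Fact.out : r.Prime) hNi).mpr hr))
        (hk ▸ orderOf_map_dvd (QuotientGroup.mk' N) x) ?_)
      exact orderOf_dvd_natCard _
    haveI : ((R.subtype hRN : Sylow r N) : Subgroup N).Characteristic :=
      Sylow.characteristic_of_normal _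
        (Sylow.normal_of_normalizerCondition Group.normalizerCondition_of_isNilpotent _)
    have h4 := Cores.normal_map_subtype_of_char N ((R.subtype hRN : Sylow r N) : Subgroup N)
    rwa [Sylow.coe_subtype, Subgroup.map_subgroupOf_eq_of_le hRN] at h4
  obtain ⟨P⟩ : Nonempty (Sylow p G) := inferInstance
  have hPn : ¬ (P : Subgroup G).Normal := fun hn => hG (((Group.isNilpotent_of_finite_tfae (G := G)).out
    0 3 rfl rfl).mpr fun r hr R => by
      by_cases e : r = p
      · subst e
        have : Subsingleton (Sylow p G) := @Unique.instSubsingleton _ (_root_.Sylow.unique_of_normal P hn)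
        rwa [Subsingleton.elim R P]
      · exact hnormal r e R)
  -- a second prime
  obtain ⟨q, hq, hqp, hqd⟩ : ∃ q, q.Prime ∧ q ≠ p ∧ q ∣ Nat.card G := by
    by_contra hne
    push Not at hne
    refine hG (IsPGroup.isNilpotent (p := p) (IsPGroup.of_card (n := (Nat.card G).primeFactorsList.length) ?_))
    exact Nat.eq_prime_pow_of_unique_prime_dvd Nat.card_pos.ne' fun {d} hd hdd => by
      by_contra hd2
      exact hne d hd hd2 hdd
  haveI := Fact.mk hq
  -- `P` centralizes each Sylow `r`-subgroup `R` with `PR` proper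
  have hcen : ∀ (r : ℕ) [Fact r.Prime] (R : Subgroup G), IsPGroup r R → r ≠ p →
      ∀ A : Subgroup G, IsPGroup p A → A ⊔ R ≠ ⊤ → A ≤ Subgroup.centralizer (R : Set G) := by
    intro r _ R hR hr A hA htop
    haveI := h _ htop
    have h1 := commute_of_coprime_orderOf (G := ↥(A ⊔ R)) hr.symm
      (A := A.subgroupOf (A ⊔ R)) (B := R.subgroupOf (A ⊔ R))
      (hA.comap_of_injective _ (A ⊔ R).subtype_injective)
      (hR.comap_of_injective _ (A ⊔ R).subtype_injective)
    intro a ha
    refine Subgroup.mem_centralizer_iff.mpr fun b hb => ?_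
    exact congrArg Subtype.val (Subgroup.mem_centralizer_iff.mp
      (h1 (Subgroup.mem_subgroupOf.mpr ha) : (⟨a, Subgroup.mem_sup_left ha⟩ : ↥(A ⊔ R)) ∈ _)
      ⟨b, Subgroup.mem_sup_right hb⟩ (Subgroup.mem_subgroupOf.mpr hb))
  have hPself : ¬ ∀ (r : ℕ) [Fact r.Prime] (R : Sylow r G), r ≠ p →
      (P : Subgroup G) ≤ Subgroup.centralizer ((R : Subgroup G) : Set G) := by
    intro hall
    refine hPn (Subgroup.normalizer_eq_top_iff.mp (Subgroup.index_eq_one.mp ?_))
    by_contra hne
    obtain ⟨r, hr, hrd⟩ := Nat.exists_prime_and_dvd hne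
    haveI := Fact.mk hr
    have hrp : r ≠ p := fun e => P.not_dvd_index
      ((e ▸ hrd).trans (Subgroup.index_dvd_of_le Subgroup.le_normalizer))
    obtain ⟨R⟩ : Nonempty (Sylow r G) := inferInstance
    exact R.not_dvd_index (hrd.trans (Subgroup.index_dvd_of_le
      ((Subgroup.le_centralizer_iff.mp (hall r R hrp)).trans (Subgroup.centralizer_le_normalizer _))))
  push Not at hPself
  obtain ⟨r, hr, R, hrp, hPR⟩ := hPself
  haveI := hr
  have hPRtop : (P : Subgroup G) ⊔ R = ⊤ := by
    by_contra htop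
    exact hPR (hcen r R R.2 hrp P P.2 htop)
  -- the primes
  haveI := hnormal r hrp R
  have hcard : Nat.card G ∣ Nat.card (P : Subgroup G) * Nat.card (R : Subgroup G) := by
    have h1 := Cores.card_sup_dvd (P : Subgroup G) (R : Subgroup G)
    rwa [hPRtop, Subgroup.card_top] at h1
  have hprimes : ∀ s : ℕ, s.Prime → s ∣ Nat.card G → s = p ∨ s = r := by
    intro s hs hsd
    obtain ⟨i, hi⟩ := IsPGroup.iff_card.mp P.2
    obtain ⟨j, hj⟩ := IsPGroup.iff_card.mp R.2
    rcases hs.dvd_mul.mp (hsd.trans hcard) with h1 | h1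
    · exact Or.inl ((Nat.prime_dvd_prime_iff_eq hs hNi).mp (hs.dvd_of_dvd_pow (hi ▸ h1)))
    · exact Or.inr ((Nat.prime_dvd_prime_iff_eq hs hr.out).mp (hs.dvd_of_dvd_pow (hj ▸ h1)))
  -- `P` is cyclic
  have hNP : (P : Subgroup G) ⊓ N ≤ Subgroup.centralizer ((R : Subgroup G) : Set G) := by
    refine hcen r R R.2 hrp _ (P.2.to_le inf_le_left) fun e => hNtop (top_le_iff.mp (e ▸ sup_le inf_le_right ?_))
    intro x hx
    rw [← QuotientGroup.eq_one_iff]
    obtain ⟨k, hk⟩ := IsPGroup.iff_orderOf.mp R.2 ⟨x, hx⟩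
    rw [Subgroup.orderOf_mk] at hk
    refine orderOf_eq_one_iff.mp (Nat.eq_one_of_dvd_coprimes
      (Nat.Coprime.pow_left k ((Nat.coprime_primes hr.out hNi).mpr hrp))
      (hk ▸ orderOf_map_dvd (QuotientGroup.mk' N) x) ?_)
    exact orderOf_dvd_natCard _
  obtain ⟨x, hx, hxR⟩ : ∃ x ∈ (P : Subgroup G),
      x ∉ Subgroup.centralizer ((R : Subgroup G) : Set G) := Set.not_subset.mp hPR
  have hxp : IsPGroup p (Subgroup.zpowers x) := P.2.to_le (Subgroup.zpowers_le.mpr hx)
  have hxtop : Subgroup.zpowers x ⊔ (R : Subgroup G) = ⊤ := by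
    by_contra htop
    exact hxR (hcen r R R.2 hrp _ hxp htop (Subgroup.mem_zpowers x))
  have hPx : Subgroup.zpowers x = P := by
    refine le_antisymm (Subgroup.zpowers_le.mpr hx) fun y hy => ?_
    obtain ⟨b, hb, c, hc, rfl⟩ := Coprime.exists_mul_of_mem_sup
      (by rw [Subgroup.normalizer_eq_top]; exact le_top)
      (show y ∈ (R : Subgroup G) ⊔ Subgroup.zpowers x by rw [sup_comm, hxtop]; exact Subgroup.mem_top y)
    have hbP : b ∈ (P : Subgroup G) := by
      simpa using mul_mem hy (inv_mem (Subgroup.zpowers_le.mpr hx hc))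
    have hb1 : b = 1 := Subgroup.disjoint_def.mp
      (IsPGroup.disjoint_of_ne p r hrp.symm _ _ P.2 R.2) hbP hb
    rwa [hb1, one_mul]
  refine ⟨p, r, hNi, hr.out, hrp.symm, P, R, ?_, inferInstance, hPRtop, hPn, hprimes⟩
  have : IsCyclic ↥(Subgroup.zpowers x) := inferInstance
  exact hPx ▸ this

/-- A finite nilpotent group all of whose Sylow subgroups are abelian is abelian. -/
theorem isMulCommutative_of_sylow [Finite G] [Group.IsNilpotent G]
    (h : ∀ (p : ℕ) [Fact p.Prime] (P : Sylow p G), IsMulCommutative (P : Subgroup G)) :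
    IsMulCommutative G := by
  obtain ⟨e⟩ := ((Group.isNilpotent_of_finite_tfae (G := G)).out 0 4).mp ‹_›
  refine ⟨⟨fun a b => ?_⟩⟩
  apply e.symm.injective
  rw [map_mul, map_mul]
  funext p P
  haveI : Fact (p : ℕ).Prime := ⟨Nat.prime_of_mem_primeFactors p.2⟩
  exact (h p P).is_comm.comm _ _

theorem isPGroup_of_all_proper_abelian [Finite G] [Group.IsNilpotent G] (hna : ¬ IsMulCommutative G)
    (h : ∀ H : Subgroup G, H ≠ ⊤ → IsMulCommutative H) : ∃ p : ℕ, p.Prime ∧ IsPGroup p G := by
  by_contra hne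
  push Not at hne
  refine hna (isMulCommutative_of_sylow fun p hp P => h _ fun e => hne p hp.out ?_)
  have := P.2
  rw [e] at this
  exact this.of_equiv Subgroup.topEquiv

theorem structure_abelian [Finite G] (hna : ¬ IsMulCommutative G)
    (h : ∀ H : Subgroup G, H ≠ ⊤ → IsMulCommutative H) :
    (∃ p : ℕ, p.Prime ∧ IsPGroup p G) ∨ ∃ p q : ℕ, p.Prime ∧ q.Prime ∧ p ≠ q ∧
      ∃ (P : Sylow p G) (Q : Sylow q G), IsCyclic P ∧ (Q : Subgroup G).Normal ∧
        Cfsg.IsElementaryAbelian q (Q : Subgroup G) ∧ (P : Subgroup G) ⊔ Q = ⊤ := by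
  by_cases hn : Group.IsNilpotent G
  · exact Or.inl (isPGroup_of_all_proper_abelian hna h)
  obtain ⟨p, q, hp, hq, hpq, P, Q, hPc, hQn, htop, hPn, -⟩ := structure_of_minimal hn fun H hH => by
    haveI := h H hH
    exact Cores.isNilpotent_of_isMulCommutative H
  haveI := Fact.mk hp
  haveI := Fact.mk hq
  haveI := hQn
  refine Or.inr ⟨p, q, hp, hq, hpq, P, Q, hPc, hQn, ?_, htop⟩
  have hQtop : (Q : Subgroup G) ≠ ⊤ := fun e => hn (by
    have := Q.2; rw [e] at this; exact (this.of_equiv Subgroup.topEquiv).isNilpotent)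
  haveI hQc := h _ hQtop
  have hQcomm : ∀ a ∈ (Q : Subgroup G), ∀ b ∈ (Q : Subgroup G), a * b = b * a := fun a ha b hb =>
    congrArg Subtype.val (hQc.is_comm.comm (⟨a, ha⟩ : (Q : Subgroup G)) ⟨b, hb⟩)
  refine ⟨hQc, fun z hz => ?_⟩
  let E : Subgroup G :=
    { carrier := {x | x ∈ (Q : Subgroup G) ∧ x ^ q = 1}
      one_mem' := ⟨one_mem _, one_pow _⟩
      mul_mem' := fun {x y} hx hy => ⟨mul_mem hx.1 hy.1, by
        rw [(show Commute x y from hQcomm x hx.1 y hy.1).mul_pow, hx.2, hy.2, one_mul]⟩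
      inv_mem' := fun {x} hx => ⟨inv_mem hx.1, by rw [inv_pow, hx.2, inv_one]⟩ }
  haveI : E.Normal := ⟨fun x hx g => ⟨hQn.conj_mem x hx.1 g, by
    rw [conj_pow, hx.2, mul_one, mul_inv_cancel]⟩⟩
  by_cases hE : (P : Subgroup G) ⊔ E = ⊤
  · have hz' : z ∈ (P : Subgroup G) ⊔ E := hE ▸ Subgroup.mem_top z
    obtain ⟨e, he, y, hy, rfl⟩ := Coprime.exists_mul_of_mem_sup
      (by rw [Subgroup.normalizer_eq_top]; exact le_top) (sup_comm (P : Subgroup G) E ▸ hz')
    have hyQ : y ∈ (Q : Subgroup G) := by simpa using mul_mem (inv_mem he.1) hz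
    have hy1 : y = 1 :=
      Subgroup.disjoint_def.mp (IsPGroup.disjoint_of_ne p q hpq _ _ P.2 Q.2) hy hyQ
    rw [hy1, mul_one]
    exact he.2
  · exfalso
    haveI := h _ hE
    have hPC : (P : Subgroup G) ≤ Subgroup.centralizer ((Q : Subgroup G) : Set G) := by
      refine Cfsg.Agent.S0056.result _ _ (by rw [Subgroup.normalizer_eq_top]; exact le_top) ?_ ?_
      · obtain ⟨i, hi⟩ := IsPGroup.iff_card.mp P.2
        obtain ⟨j, hj⟩ := IsPGroup.iff_card.mp Q.2
        rw [hi, hj]
        exact Nat.Coprime.pow _ _ ((Nat.coprime_primes hp hq).mpr hpq)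
      · intro v hv hvp a ha
        have hvE : v ∈ E := ⟨hv, by
          obtain ⟨k, hk⟩ := IsPGroup.iff_orderOf.mp Q.2 ⟨v, hv⟩
          rw [Subgroup.orderOf_mk] at hk
          rw [hk] at hvp
          obtain rfl : k = 1 := Nat.Prime.eq_one_of_pow hvp
          rw [pow_one] at hk
          rw [← hk, pow_orderOf_eq_one]⟩
        exact congrArg Subtype.val ((h _ hE).is_comm.comm
          (⟨a, Subgroup.mem_sup_left ha⟩ : ↥((P : Subgroup G) ⊔ E)) ⟨v, Subgroup.mem_sup_right hvE⟩)
    refine hPn (Subgroup.normalizer_eq_top_iff.mp (top_le_iff.mp ?_))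
    rw [← htop]
    exact sup_le Subgroup.le_normalizer
      ((Subgroup.le_centralizer_iff.mp hPC).trans (Subgroup.centralizer_le_normalizer _))

/-- The quotient of a minimal non-nilpotent group by the derived subgroup of its normal Sylow
subgroup is minimal non-abelian. -/
theorem quotient_minimal_nonabelian [Finite G] (hG : ¬ Group.IsNilpotent G)
    (h : ∀ H : Subgroup G, H ≠ ⊤ → Group.IsNilpotent H) {q : ℕ} [Fact q.Prime]
    (hq : q ∣ Nat.card G) (Q : Sylow q G) (hQ : (Q : Subgroup G).Normal) (D : Subgroup G) [D.Normal]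
    (hD : D = (commutator ↥(Q : Subgroup G)).map (Q : Subgroup G).subtype) :
    ¬ IsMulCommutative (G ⧸ D) ∧ ∀ K : Subgroup (G ⧸ D), K ≠ ⊤ → IsMulCommutative K := by
  haveI := hQ
  haveI : Group.IsNilpotent (Q : Subgroup G) := Q.2.isNilpotent
  obtain ⟨p, r, hp, hr, hpr, P, R, hPc, hRn, htop, hPn, hprimes⟩ := structure_of_minimal hG h
  have hqr : q = r := by
    rcases hprimes q Fact.out hq with rfl | e
    · exfalso
      refine hPn ?_
      have : Subsingleton (Sylow q G) := @Unique.instSubsingleton _ (_root_.Sylow.unique_of_normal Q hQ)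
      rwa [Subsingleton.elim P Q]
    · exact e
  subst hqr
  haveI := Fact.mk hp
  have hDQ : D ≤ (Q : Subgroup G) := hD ▸ Subgroup.map_subtype_le _
  have hDfrat : D ≤ frattini G := hD ▸ (Subgroup.map_mono Cores.commutator_le_frattini).trans
    (Cores.map_subtype_frattini_le _)
  set π := QuotientGroup.mk' D with hπ
  have hπs : Function.Surjective π := QuotientGroup.mk'_surjective D
  constructor
  · intro hab
    haveI : Group.IsNilpotent (G ⧸ D) := by
      letI : CommGroup (G ⧸ D) :=
        { (inferInstance : Group (G ⧸ D)) with mul_comm := hab.is_comm.comm }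
      exact CommGroup.isNilpotent
    have hnil : Group.IsNilpotent (⊤ : Subgroup G) := by
      refine isNilpotent_of_quotient_le_frattini ⊤ D le_top hDfrat ?_
      exact Cores.isNilpotent_of_injective
        (QuotientGroup.map (D.subgroupOf ⊤) D (⊤ : Subgroup G).subtype (fun x hx => hx))
        (by
          rw [← MonoidHom.ker_eq_bot_iff, eq_bot_iff]
          intro x hx
          induction x using QuotientGroup.induction_on with
          | H x => exact Subgroup.mem_bot.mpr ((QuotientGroup.eq_one_iff x).mpr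
              ((QuotientGroup.eq_one_iff (x : G)).mp hx)))
    haveI := hnil
    exact hG (Cores.isNilpotent_of_injective (Subgroup.topEquiv (G := G)).symm.toMonoidHom
      (Subgroup.topEquiv (G := G)).symm.injective)
  · intro K hK
    have hc : K.comap π ≠ ⊤ := fun e => hK (by
      rw [← Subgroup.map_comap_eq_self_of_surjective hπs K, e,
        Subgroup.map_top_of_surjective _ hπs])
    haveI := h _ hc
    haveI : Group.IsNilpotent K := by
      rw [← Subgroup.map_comap_eq_self_of_surjective hπs K]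
      exact Cores.isNilpotent_map _ _
    refine isMulCommutative_of_sylow fun s hs S => ?_
    have hSp : IsPGroup s ((S : Subgroup K).map K.subtype) := S.2.map _
    suffices hab : IsMulCommutative ((S : Subgroup K).map K.subtype) from
      ⟨⟨fun a b => by
        have h2 := congrArg Subtype.val (hab.is_comm.comm
          (⟨((a : K) : G ⧸ D), ⟨a, a.2, rfl⟩⟩ : (S : Subgroup K).map K.subtype)
          ⟨((b : K) : G ⧸ D), ⟨b, b.2, rfl⟩⟩)
        exact Subtype.ext (Subtype.ext h2)⟩⟩
    obtain ⟨T, hT⟩ := hSp.exists_le_sylow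
    by_cases hsd : s ∣ Nat.card G
    · have hT' : IsMulCommutative (T : Subgroup (G ⧸ D)) := by
        rcases hprimes s hs.out hsd with rfl | rfl
        · obtain ⟨g, hg⟩ := MulAction.exists_smul_eq (G ⧸ D) (P.mapSurjective hπs) T
          haveI : IsCyclic ((P : Subgroup G).map π) :=
            isCyclic_of_surjective (π.subgroupMap _) (π.subgroupMap_surjective _)
          haveI : IsCyclic (T : Subgroup (G ⧸ D)) := by
            rw [← hg]
            exact (Subgroup.equivSMul (MulAut.conj g) ((P : Subgroup G).map π)).isCyclic.mp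
              inferInstance
          exact IsCyclic.isMulCommutative
        · obtain ⟨g, hg⟩ := MulAction.exists_smul_eq (G ⧸ D) (Q.mapSurjective hπs) T
          have hQab : ∀ a ∈ (Q : Subgroup G).map π, ∀ b ∈ (Q : Subgroup G).map π, a * b = b * a := by
            rintro _ ⟨a, ha, rfl⟩ _ ⟨b, hb, rfl⟩
            rw [← map_mul, ← map_mul]
            refine (QuotientGroup.eq.mpr ?_)
            rw [hD]
            refine ⟨⟨b, hb⟩⁻¹ * ⟨a, ha⟩⁻¹ * (⟨b, hb⟩ * ⟨a, ha⟩), ?_, by simp⟩
            have := Subgroup.commutator_mem_commutator (Subgroup.mem_top (⟨b, hb⟩⁻¹ : (Q : Subgroup G)))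
              (Subgroup.mem_top (⟨a, ha⟩⁻¹ : (Q : Subgroup G)))
            simpa [commutatorElement_def, commutator_def, mul_assoc] using this
          rw [← hg]
          refine ⟨⟨fun a b => Subtype.ext ?_⟩⟩
          obtain ⟨_, x, hx, rfl⟩ := a
          obtain ⟨_, y, hy, rfl⟩ := b
          show MulAut.conj g x * MulAut.conj g y = MulAut.conj g y * MulAut.conj g x
          rw [← map_mul, ← map_mul, hQab x hx y hy]
      exact ⟨⟨fun a b => Subtype.ext (congrArg Subtype.val
        (hT'.is_comm.comm ⟨(a : G ⧸ D), hT a.2⟩ ⟨(b : G ⧸ D), hT b.2⟩) :)⟩⟩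
    · obtain ⟨k, hk⟩ := IsPGroup.iff_card.mp hSp
      have h1 : Nat.card ((S : Subgroup K).map K.subtype) = 1 := by
        rcases Nat.eq_zero_or_pos k with e | e
        · rw [hk, e, pow_zero]
        · exact absurd ((dvd_pow_self s e.ne').trans ((hk ▸ Subgroup.card_subgroup_dvd_card
            ((S : Subgroup K).map K.subtype)).trans (Subgroup.card_quotient_dvd_card D))) hsd
      haveI := (Nat.card_eq_one_iff_unique.mp h1).1
      exact ⟨⟨fun a b => Subsingleton.elim _ _⟩⟩

end Cfsg.Agent.Lib.Solvable.Schmidt
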