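import Cfsg.Agent.Lib.Solvable.Supersolvable
import Cfsg.Agent.Lib.Solvable.Schmidt
import Mathlib.FieldTheory.Finite.Basic
import Mathlib.LinearAlgebra.Eigenspace.Basic
import Mathlib.GroupTheory.IndexNormal
import Mathlib.GroupTheory.SchurZassenhaus
import Cfsg.Agent.Lib.Solvable.Gaschuetz

/-!
Huppert's supersolvability criterion and the groups whose subgroups all satisfy the converse of
Lagrange's theorem.
-/

set_option autoImplicit false

open Pointwise
open Polynomial
open scoped commutatorElement

universe u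

namespace Cfsg.Agent.Lib.Solvable.Huppert

open Cfsg.Agent.Lib

theorem exists_eigenvector_module {V : Type*} [AddCommGroup V] [Nontrivial V] {p : ℕ} [Fact p.Prime]
    [Module (ZMod p) V] (f : Module.End (ZMod p) V) (hf : ∀ x, f^[p] x = f x) :
    ∃ (a : ZMod p) (x : V), x ≠ 0 ∧ f x = a • x := by
  classical
  have hfp : f ^ p = f := LinearMap.ext fun x => by rw [Module.End.coe_pow]; exact hf x
  have hpoly : ((X : (ZMod p)[X]) ^ p - X) =
      (Finset.univ.val.map fun a : ZMod p => X - C a).prod := by
    have hroots := FiniteField.roots_X_pow_card_sub_X (ZMod p)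
    rw [ZMod.card] at hroots
    have hp1 : 1 < p := (Fact.out : p.Prime).one_lt
    have hmonic : ((X : (ZMod p)[X]) ^ p - X).Monic :=
      monic_X_pow_sub (by rw [degree_X]; exact_mod_cast hp1)
    have h := prod_multiset_X_sub_C_of_monic_of_roots_card_eq hmonic (by
      rw [hroots, FiniteField.X_pow_card_sub_X_natDegree_eq (ZMod p) hp1]
      show Finset.univ.card = p
      rw [Finset.card_univ, ZMod.card])
    rw [hroots] at h
    exact h.symm
  by_contra hno
  push Not at hno
  have hinj : ∀ a : ZMod p, Function.Injective (aeval f (X - C a) : Module.End (ZMod p) V) := by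
    intro a
    rw [injective_iff_map_eq_zero]
    intro x hx
    rw [map_sub, aeval_X, aeval_C, LinearMap.sub_apply, Module.algebraMap_end_apply, sub_eq_zero]
      at hx
    by_contra hy
    exact hno a x hy hx
  have hprod : ∀ s : Multiset (ZMod p), Function.Injective
      (aeval f (s.map fun a => X - C a).prod : Module.End (ZMod p) V) := by
    intro s
    induction s using Multiset.induction with
    | empty => rw [Multiset.map_zero, Multiset.prod_zero, map_one]; exact Function.injective_id
    | cons a s ih =>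
      rw [Multiset.map_cons, Multiset.prod_cons, map_mul, Module.End.mul_eq_comp, LinearMap.coe_comp]
      exact (hinj a).comp ih
  obtain ⟨n, hn⟩ := exists_ne (0 : V)
  refine hn (hprod Finset.univ.val ?_)
  rw [← hpoly, map_sub, map_pow, aeval_X, hfp, sub_self]
  rfl

/-- An automorphism `σ` with `σ ^ (p - 1) = 1` of an elementary abelian `p`-group has an
eigenvector. -/
theorem exists_eigenvector {N : Type*} [Group N] [Nontrivial N] {p : ℕ} [Fact p.Prime]
    (hc : ∀ x y : N, x * y = y * x) (he : ∀ x : N, x ^ p = 1) (σ : MulAut N)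
    (hσ : σ ^ (p - 1) = 1) : ∃ (k : ℕ) (n : N), n ≠ 1 ∧ σ n = n ^ k := by
  letI : CommGroup N := { (inferInstance : Group N) with mul_comm := hc }
  letI : Module (ZMod p) (Additive N) := AddCommGroup.zmodModule fun x =>
    show Additive.ofMul ((Additive.toMul x) ^ p) = 0 by rw [he]; rfl
  let g : Additive N →+ Additive N :=
    { toFun := fun x => Additive.ofMul (σ (Additive.toMul x))
      map_zero' := congrArg Additive.ofMul (map_one σ)
      map_add' := fun x y => congrArg Additive.ofMul (map_mul σ _ _) }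
  have hit : ∀ (k : ℕ) (x : Additive N),
      (⇑g)^[k] x = Additive.ofMul ((σ ^ k) (Additive.toMul x)) := by
    intro k
    induction k with
    | zero => intro x; rfl
    | succ k ih =>
      intro x
      rw [Function.iterate_succ_apply, ih, pow_succ, MulAut.mul_apply]
      rfl
  obtain ⟨a, x, hx, hfx⟩ := exists_eigenvector_module (p := p) (AddMonoidHom.toZModLinearMap p g)
    fun x => by
      show (⇑g)^[p] x = _
      rw [hit, show σ ^ p = σ ^ (p - 1) * σ by
        rw [← pow_succ, Nat.sub_add_cancel (Fact.out : p.Prime).one_le], hσ, one_mul]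
      rfl
  refine ⟨a.val, Additive.toMul x, fun h => hx (Additive.toMul.injective h), ?_⟩
  have h2 : a • x = Additive.ofMul ((Additive.toMul x) ^ a.val) := by
    conv_lhs => rw [← ZMod.natCast_zmod_val a, Nat.cast_smul_eq_nsmul]
    rfl
  exact congrArg Additive.toMul (hfx.trans h2)

variable {G : Type u} [Group G]

theorem quotient_prime_index [Finite G] (N : Subgroup G) [N.Normal]
    (h : ∀ M : Subgroup G, IsCoatom M → M.index.Prime) :
    ∀ M : Subgroup (G ⧸ N), IsCoatom M → M.index.Prime := by
  intro M hM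
  have hπ := QuotientGroup.mk'_surjective N
  rw [← Subgroup.index_comap_of_surjective M hπ]
  refine h _ ⟨fun e => hM.1 (by
    rw [← Subgroup.map_comap_eq_self_of_surjective hπ M, e, Subgroup.map_top_of_surjective _ hπ]),
    fun K hK => ?_⟩
  have hker : N ≤ K := le_trans (fun x hx => by
    show QuotientGroup.mk' N x ∈ M
    rw [show QuotientGroup.mk' N x = 1 from (QuotientGroup.eq_one_iff x).mpr hx]
    exact one_mem M) hK.le
  have hlt : M < K.map (QuotientGroup.mk' N) := by
    rw [← Subgroup.map_comap_eq_self_of_surjective hπ M]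
    refine lt_of_le_of_ne (Subgroup.map_mono hK.le) fun e => hK.ne ?_
    have := congrArg (Subgroup.comap (QuotientGroup.mk' N)) e
    rwa [Subgroup.map_comap_eq_self_of_surjective hπ M, Subgroup.comap_map_eq,
      QuotientGroup.ker_mk', sup_eq_left.mpr hker] at this
  have := congrArg (Subgroup.comap (QuotientGroup.mk' N)) (hM.2 _ hlt)
  rwa [Subgroup.comap_map_eq, QuotientGroup.ker_mk', sup_eq_left.mpr hker, Subgroup.comap_top] at this

theorem sylow_normal [Finite G] {p : ℕ} [hp : Fact p.Prime]
    (hmax : ∀ q : ℕ, q.Prime → q ∣ Nat.card G → q ≤ p)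
    (h : ∀ M : Subgroup G, IsCoatom M → M.index.Prime) (P : Sylow p G) :
    (P : Subgroup G).Normal := by
  by_contra hn
  obtain ⟨M, hM, hPM⟩ := (eq_top_or_exists_le_coatom
    (Subgroup.normalizer ((P : Subgroup G) : Set G))).resolve_left
    fun e => hn (Subgroup.normalizer_eq_top_iff.mp e)
  have hP'M : (P : Subgroup G) ≤ M := Subgroup.le_normalizer.trans hPM
  have h1 : Nat.card (Sylow p G) ≡ 1 [MOD p] := card_sylow_modEq_one p G
  have h2 : Nat.card (Sylow p M) ≡ 1 [MOD p] := card_sylow_modEq_one p M
  rw [Sylow.card_eq_index_normalizer P] at h1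
  rw [Sylow.card_eq_index_normalizer (P.subtype hP'M)] at h2
  have hNN : Subgroup.normalizer (((P.subtype hP'M : Sylow p M) : Subgroup M) : Set M) =
      (Subgroup.normalizer ((P : Subgroup G) : Set G)).subgroupOf M := by
    rw [Sylow.coe_subtype]
    ext x
    simp only [Subgroup.mem_subgroupOf, Subgroup.mem_normalizer_iff]
    refine ⟨fun hx y => ⟨fun hy => ?_, fun hy => ?_⟩, fun hx y => ?_⟩
    · exact (hx ⟨y, hP'M hy⟩).mp hy
    · have hyM : y ∈ M := by
        have := mul_mem (mul_mem (inv_mem x.2) (hP'M hy)) x.2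
        simpa [mul_assoc] using this
      exact (hx ⟨y, hyM⟩).mpr hy
    · exact hx y
  replace h2 : ((Subgroup.normalizer ((P : Subgroup G) : Set G)).subgroupOf M).index ≡ 1 [MOD p] :=
    hNN ▸ h2
  rw [← Subgroup.relIndex] at h2
  replace h1 : (Subgroup.normalizer ((P : Subgroup G) : Set G)).index ≡ 1 [MOD p] := h1
  rw [← Subgroup.relIndex_mul_index hPM] at h1
  have h3 : M.index ≡ 1 [MOD p] := by
    have h4 := h2.mul_right M.index
    rw [one_mul] at h4
    exact h4.symm.trans h1
  have hq := h M hM
  have hle := hmax _ hq M.index_dvd_card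
  rcases hle.lt_or_eq with hlt | heq
  · rw [Nat.ModEq, Nat.mod_eq_of_lt hlt, Nat.mod_eq_of_lt hp.out.one_lt] at h3
    exact hq.ne_one h3
  · rw [heq, Nat.ModEq, Nat.mod_self, Nat.mod_eq_of_lt hp.out.one_lt] at h3
    exact Nat.zero_ne_one h3

theorem exists_max_prime [Finite G] [Nontrivial G] :
    ∃ p, p.Prime ∧ p ∣ Nat.card G ∧ ∀ q : ℕ, q.Prime → q ∣ Nat.card G → q ≤ p := by
  have hne : (Nat.card G).primeFactors.Nonempty :=
    Nat.nonempty_primeFactors.mpr Finite.one_lt_card
  obtain ⟨p, hp, hmax⟩ := Finset.exists_max_image _ id hne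
  exact ⟨p, Nat.prime_of_mem_primeFactors hp, Nat.dvd_of_mem_primeFactors hp,
    fun q hq hqd => hmax q (Nat.mem_primeFactors.mpr ⟨hq, hqd, Nat.card_pos.ne'⟩)⟩

theorem isSolvable_aux : ∀ (n : ℕ) (G : Type u) [Group G] [Finite G], Nat.card G = n →
    (∀ M : Subgroup G, IsCoatom M → M.index.Prime) → Group.IsSolvable G := by
  intro n
  induction n using Nat.strongRecOn with
  | ind n IH =>
  intro G _ _ hn h
  cases subsingleton_or_nontrivial G with
  | inl hs => infer_instance
  | inr hnt =>
    obtain ⟨p, hp, hpd, hmax⟩ := exists_max_prime (G := G)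
    haveI := Fact.mk hp
    obtain ⟨P⟩ : Nonempty (Sylow p G) := inferInstance
    haveI := sylow_normal hmax h P
    have hP0 : (P : Subgroup G) ≠ ⊥ := fun e => by
      have h1 := P.dvd_card_of_dvd_card hpd
      rw [e, Subgroup.card_bot] at h1
      exact hp.not_dvd_one h1
    haveI := IH _ (hn ▸ ThompsonComplement.card_quotient_lt hP0) (G ⧸ (P : Subgroup G)) rfl
      (quotient_prime_index _ h)
    haveI : Group.IsNilpotent (P : Subgroup G) := P.2.isNilpotent
    exact Group.isSolvable_of_ker_le_range (P : Subgroup G).subtype (QuotientGroup.mk' (P : Subgroup G))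
      (by rw [QuotientGroup.ker_mk', Subgroup.range_subtype])

theorem isSolvable [Finite G] (h : ∀ M : Subgroup G, IsCoatom M → M.index.Prime) :
    Group.IsSolvable G :=
  isSolvable_aux _ G rfl h

/-- Commutators and `(p-1)`-st powers of order prime to `p` centralize a normal `p`-subgroup of a
supersolvable group. -/
theorem centralize_aux {p : ℕ} [hp : Fact p.Prime] : ∀ (n : ℕ) (Q : Type u) [Group Q] [Finite Q],
    Nat.card Q = n → Cfsg.IsSupersolvable Q → ∀ (P : Subgroup Q) [P.Normal], IsPGroup p P →
    ∀ g : Q, (g ∈ commutator Q ∨ ∃ h, g = h ^ (p - 1)) → (orderOf g).Coprime p →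
    g ∈ Subgroup.centralizer (P : Set Q) := by
  intro n
  induction n using Nat.strongRecOn with
  | ind n IH =>
  intro Q _ _ hn hQ P hPn hPp g hg hgo
  by_cases hP : P = ⊥
  · refine Subgroup.mem_centralizer_iff.mpr fun x hx => ?_
    rw [hP, SetLike.mem_coe, Subgroup.mem_bot] at hx
    simp [hx]
  obtain ⟨L, hLn, hLp, hLP⟩ := exists_normal_card_prime_le hQ P hP
  haveI := hLn
  haveI := Fact.mk hLp
  have hLcard : Nat.card L = p := by
    obtain ⟨k, hk⟩ := IsPGroup.iff_card.mp (hPp.to_le hLP)
    rw [hk] at hLp ⊢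
    obtain rfl : k = 1 := Nat.Prime.eq_one_of_pow hLp
    exact pow_one p
  haveI : IsCyclic L := isCyclic_of_prime_card rfl
  have hgL : g ∈ Subgroup.centralizer (L : Set Q) := by
    rcases hg with hg | ⟨h, rfl⟩
    · exact commutator_le_centralizer_of_isCyclic L inferInstance hg
    · refine Subgroup.mem_centralizer_iff.mpr fun x hx => ?_
      have h1 : ((MulAut.conjNormal h : MulAut L) ^ (p - 1)) = 1 := by
        have h2 := pow_card_eq_one' (x := (MulAut.conjNormal h : MulAut L))
        rwa [IsCyclic.card_mulAut, hLcard, Nat.totient_prime hp.out] at h2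
      rw [← map_pow] at h1
      have h2 := congrArg Subtype.val (DFunLike.congr_fun h1 ⟨x, hx⟩)
      change h ^ (p - 1) * x * (h ^ (p - 1))⁻¹ = x at h2
      exact (mul_inv_eq_iff_eq_mul.mp h2).symm
  let π := QuotientGroup.mk' L
  have hπ : Function.Surjective π := QuotientGroup.mk'_surjective L
  have hL0 : L ≠ ⊥ := fun e => by
    rw [e, Subgroup.card_bot] at hLcard
    exact hp.out.one_lt.ne hLcard
  haveI : (P.map π).Normal := hPn.map π hπ
  have hq := IH _ (hn ▸ ThompsonComplement.card_quotient_lt hL0) (Q ⧸ L) rfl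
    (isSupersolvable_quotient hQ L) (P.map π) (hPp.map π) (π g)
    (hg.imp (fun h => by
      have h1 := Subgroup.mem_map_of_mem π h
      rw [commutator_def, Subgroup.map_commutator, Subgroup.map_top_of_surjective π hπ] at h1
      exact h1) fun ⟨h, hh⟩ => ⟨π h, by rw [hh, map_pow]⟩)
    (hgo.coprime_dvd_left (orderOf_map_dvd π g))
  refine Coprime.le_centralizer_of_stabilizes (A := Subgroup.zpowers g) (K := P) (N := L)
    (by rw [Subgroup.normalizer_eq_top]; exact le_top) (by rw [Subgroup.normalizer_eq_top]; exact le_top)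
    ?_ ?_ (Subgroup.zpowers_le.mpr hgL) (Subgroup.mem_zpowers g)
  · rw [Nat.card_zpowers, hLcard]; exact hgo
  · rintro _ ⟨i, rfl⟩ k hk
    rw [← QuotientGroup.eq_one_iff]
    have h1 := Subgroup.mem_centralizer_iff.mp (zpow_mem hq i) _ (Subgroup.mem_map_of_mem π hk)
    rw [← map_zpow] at h1
    simp only [π, QuotientGroup.mk'_apply] at h1
    simp only [QuotientGroup.mk_mul, QuotientGroup.mk_inv]
    rw [← h1, mul_inv_cancel_right, mul_inv_cancel]

theorem isSupersolvable_aux : ∀ (n : ℕ) (G : Type u) [Group G] [Finite G], Nat.card G = n →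
    (∀ M : Subgroup G, IsCoatom M → M.index.Prime) → Cfsg.IsSupersolvable G := by
  intro n
  induction n using Nat.strongRecOn with
  | ind n IH =>
  intro G _ _ hn h
  cases subsingleton_or_nontrivial G with
  | inl hs => exact isSupersolvable_of_subsingleton G
  | inr hnt =>
  by_contra hns
  haveI hsolv := isSolvable h
  have hquot : ∀ (N : Subgroup G) [N.Normal], N ≠ ⊥ → Cfsg.IsSupersolvable (G ⧸ N) := fun N _ hN =>
    IH _ (hn ▸ ThompsonComplement.card_quotient_lt hN) (G ⧸ N) rfl (quotient_prime_index N h)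
  obtain ⟨p, hp, hpd, hmax⟩ := exists_max_prime (G := G)
  haveI := Fact.mk hp
  obtain ⟨P⟩ : Nonempty (Sylow p G) := inferInstance
  haveI hPn := sylow_normal hmax h P
  have hP0 : (P : Subgroup G) ≠ ⊥ := fun e => by
    have h1 := P.dvd_card_of_dvd_card hpd
    rw [e, Subgroup.card_bot] at h1
    exact hp.not_dvd_one h1
  obtain ⟨N, ⟨hNn, hN0, hNP⟩, hmin⟩ := (Set.toFinite {N : Subgroup G |
    N.Normal ∧ N ≠ ⊥ ∧ N ≤ (P : Subgroup G)}).exists_minimal ⟨_, hPn, hP0, le_rfl⟩
  haveI := hNn
  have hminN : ∀ L : Subgroup G, L.Normal → L ≤ N → L = ⊥ ∨ L = N := by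
    intro L hL hLN
    by_cases h0 : L = ⊥
    · exact Or.inl h0
    · exact Or.inr (le_antisymm hLN (hmin ⟨hL, h0, hLN.trans hNP⟩ hLN))
  -- `N` is not cyclic
  have hNnc : ¬ IsCyclic N := fun hc => hns (isSupersolvable_of_cyclic_normal N hc (hquot N hN0))
  -- `N` is the only minimal normal subgroup
  have huniq : ∀ L : Subgroup G, L.Normal → L ≠ ⊥ → N ≤ L := by
    intro L hL hL0
    haveI := hL
    rcases hminN (L ⊓ N) inferInstance inf_le_right with e | e
    · exfalso
      refine hns (isSupersolvable_of_injective (isSupersolvable_prod (hquot L hL0) (hquot N hN0))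
        ((QuotientGroup.mk' L).prod (QuotientGroup.mk' N)) ?_)
      rw [← MonoidHom.ker_eq_bot_iff, MonoidHom.ker_prod, QuotientGroup.ker_mk',
        QuotientGroup.ker_mk']
      exact e
    · exact inf_eq_right.mp e
  -- `N` is elementary abelian
  haveI hPnil : Group.IsNilpotent (P : Subgroup G) := P.2.isNilpotent
  have hNZ : N ≤ (P : Subgroup G) ⊓ Subgroup.centralizer ((P : Subgroup G) : Set G) := by
    refine huniq _ inferInstance ?_
    exact ThompsonComplement.center_ne_bot P.2 hP0
  have hNcomm : ∀ x ∈ N, ∀ y ∈ N, x * y = y * x := fun x hx y hy =>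
    Subgroup.mem_centralizer_iff.mp (Subgroup.mem_inf.mp (hNZ hy)).2 x (hNP hx)
  have hNe : ∀ x ∈ N, x ^ p = 1 := by
    let E : Subgroup G :=
      { carrier := {x | x ∈ N ∧ x ^ p = 1}
        one_mem' := ⟨one_mem _, one_pow _⟩
        mul_mem' := fun {x y} hx hy => ⟨mul_mem hx.1 hy.1, by
          rw [(show Commute x y from hNcomm x hx.1 y hy.1).mul_pow, hx.2, hy.2, one_mul]⟩
        inv_mem' := fun {x} hx => ⟨inv_mem hx.1, by rw [inv_pow, hx.2, inv_one]⟩ }
    rcases hminN E ⟨fun x hx g => ⟨hNn.conj_mem x hx.1 g, by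
        rw [conj_pow, hx.2, mul_one, mul_inv_cancel]⟩⟩ (fun x hx => hx.1) with e | e
    · exfalso
      obtain ⟨k, hk, hkc⟩ := Coprime.exists_card_eq_prime_pow hp (P.2.to_le hNP) hN0
      obtain ⟨x, hx⟩ := exists_prime_orderOf_dvd_card' (G := N) p (hkc ▸ dvd_pow_self p (by omega))
      have hxE : (x : G) ∈ E := ⟨x.2, by rw [← hx, ← Subgroup.orderOf_coe, pow_orderOf_eq_one]⟩
      rw [e, Subgroup.mem_bot] at hxE
      rw [← Subgroup.orderOf_coe, hxE, orderOf_one] at hx
      exact hp.ne_one hx.symm
    · exact fun x hx => (e.ge hx).2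
  -- `N` lies in the Frattini subgroup
  have hNfrat : N ≤ frattini G := by
    simp only [frattini, Order.radical, le_iInf_iff]
    intro M hM
    by_contra hle
    have htop : N ⊔ M = ⊤ := hM.2 _ (lt_of_le_of_ne le_sup_right fun e => hle (le_sup_left.trans e.ge))
    have hinf : N ⊓ M = ⊥ := by
      refine (hminN _ ?_ inf_le_left).resolve_right fun e => hle (inf_eq_left.mp e)
      rw [← Subgroup.normalizer_eq_top_iff, eq_top_iff, ← htop]
      refine sup_le (fun x hx => ?_) (fun x hx => ?_)
      · refine Subgroup.centralizer_le_normalizer _ (Subgroup.mem_centralizer_iff.mpr fun y hy => ?_)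
        exact hNcomm y (Subgroup.mem_inf.mp hy).1 x hx
      · exact Subgroup.inf_normalizer_le_normalizer_inf
          (Subgroup.mem_inf.mpr ⟨(Subgroup.normalizer_eq_top (H := N)).symm ▸ Subgroup.mem_top x,
            Subgroup.le_normalizer hx⟩)
    have hcard : Nat.card N = M.index := by
      have h1 := Coprime.card_sup_mul_card_inf (N := N) (H := M)
        (by rw [Subgroup.normalizer_eq_top]; exact le_top)
      rw [htop, hinf, Subgroup.card_top, Subgroup.card_bot, mul_one, ← M.card_mul_index, mul_comm] at h1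
      exact (Nat.eq_of_mul_eq_mul_right Nat.card_pos h1).symm
    haveI := Fact.mk (h M hM)
    exact hNnc (isCyclic_of_prime_card hcard)
  -- a complement of `P`
  obtain ⟨H, hH⟩ := Subgroup.exists_right_complement'_of_coprime (N := (P : Subgroup G))
    P.card_coprime_index
  have hdisj : (P : Subgroup G) ⊓ H = ⊥ := disjoint_iff.mp hH.disjoint
  have hsup : (P : Subgroup G) ⊔ H = ⊤ := hH.sup_eq_top
  have hHcop : ∀ x ∈ H, (orderOf x).Coprime p := fun x hx => by
    refine (P.card_coprime_index.symm.coprime_dvd_left ?_).coprime_dvd_right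
      (P.dvd_card_of_dvd_card hpd)
    rw [hH.symm.index_eq_card]
    exact Subgroup.orderOf_dvd_natCard H hx
  have hF : Cfsg.fittingSubgroup G ≤ (P : Subgroup G) := by
    refine Cores.fittingSubgroup_le_of_pCore_le fun q hq => ?_
    haveI := Fact.mk hq
    by_cases hqp : q = p
    · subst hqp; exact Cores.pCore_le_sylow P
    · have : Cfsg.pCore q G = ⊥ := by
        by_contra h0
        have h1 : N ≤ Cfsg.pCore q G := huniq _ inferInstance h0
        exact hN0 (disjoint_self.mp (IsPGroup.disjoint_of_ne q p hqp _ _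
          ((Cores.pCore_isPGroup q G).to_le h1) (P.2.to_le hNP)))
      rw [this]; exact bot_le
  have hCP : Subgroup.centralizer ((P : Subgroup G) : Set G) ≤ (P : Subgroup G) := by
    refine le_trans ?_ ((Cores.centralizer_fittingSubgroup_le hsolv).trans hF)
    exact Subgroup.centralizer_le hF
  -- `H` is abelian of exponent dividing `p - 1`
  have hgood : ∀ g ∈ H, (g ∈ commutator G ∨ ∃ k, g = k ^ (p - 1)) → g = 1 := by
    intro g hgH hg
    refine Subgroup.mem_bot.mp (hdisj ▸ Subgroup.mem_inf.mpr ⟨hCP ?_, hgH⟩)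
    set F := (frattini (P : Subgroup G)).map (P : Subgroup G).subtype with hFd
    haveI : F.Normal := Cores.normal_map_subtype_of_char (P : Subgroup G) _
    have hFp : IsPGroup p F := P.2.to_le (Subgroup.map_subtype_le _)
    refine Coprime.le_centralizer_of_frattini (A := Subgroup.zpowers g) ?_ ?_ (Subgroup.mem_zpowers g)
    · obtain ⟨k, hk⟩ := IsPGroup.iff_card.mp (P.2.to_subgroup (frattini (P : Subgroup G)))
      rw [Nat.card_zpowers, hk]
      exact Nat.Coprime.pow_right k (hHcop g hgH)
    · rintro _ ⟨i, rfl⟩ k hk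
      have hF0 : F ≠ ⊥ := by
        intro e
        -- then `P` is elementary abelian
        have hPe : ∀ x ∈ (P : Subgroup G), x ^ p = 1 := fun x hx => by
          have h1 := Cores.pow_mem_frattini P.2 (⟨x, hx⟩ : (P : Subgroup G))
          have h2 : x ^ p ∈ F := ⟨_, h1, rfl⟩
          rwa [e, Subgroup.mem_bot] at h2
        have hPc : IsMulCommutative (P : Subgroup G) := by
          refine ⟨⟨fun a b => ?_⟩⟩
          have h1 : ⁅a, b⁆ ∈ frattini (P : Subgroup G) := Cores.commutator_le_frattini
            (Subgroup.commutator_mem_commutator (Subgroup.mem_top a) (Subgroup.mem_top b))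
          have h2 : ((⁅a, b⁆ : (P : Subgroup G)) : G) ∈ F := ⟨_, h1, rfl⟩
          rw [e, Subgroup.mem_bot, OneMemClass.coe_eq_one] at h2
          exact commutatorElement_eq_one_iff_mul_comm.mp h2
        haveI := hPc
        have hPcomm : ∀ x ∈ (P : Subgroup G), ∀ y ∈ (P : Subgroup G), x * y = y * x := fun x hx y hy =>
          congrArg Subtype.val (hPc.is_comm.comm (⟨x, hx⟩ : (P : Subgroup G)) ⟨y, hy⟩)
        haveI : IsMulCommutative N :=
          ⟨⟨fun a b => Subtype.ext (hNcomm a a.2 b b.2)⟩⟩
        obtain ⟨A, ⟨hAP, hAN⟩, hAmax⟩ := (Set.toFinite {A : Subgroup G |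
          A ≤ (P : Subgroup G) ∧ A ⊓ N = ⊥}).exists_maximal ⟨⊥, bot_le, bot_inf_eq _⟩
        have hnorm' : ∀ B C : Subgroup G, B ≤ (P : Subgroup G) → C ≤ (P : Subgroup G) →
            B ≤ Subgroup.normalizer (C : Set G) := fun B C hB hC =>
          le_trans (fun x hx => Subgroup.mem_centralizer_iff.mpr fun y hy =>
            hPcomm y (hC hy) x (hB hx)) (Subgroup.centralizer_le_normalizer _)
        have hNA : N ⊔ A = (P : Subgroup G) := by
          refine le_antisymm (sup_le hNP hAP) fun x hx => ?_
          by_contra hxn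
          have hle : A ⊔ Subgroup.zpowers x ≤ (P : Subgroup G) :=
            sup_le hAP (Subgroup.zpowers_le.mpr hx)
          refine hxn (Subgroup.mem_sup_right (hAmax (y := A ⊔ Subgroup.zpowers x) ⟨hle, ?_⟩ le_sup_left
            (Subgroup.mem_sup_right (Subgroup.mem_zpowers x))))
          rw [eq_bot_iff]
          intro y hy
          obtain ⟨hyA, hyN⟩ := Subgroup.mem_inf.mp hy
          obtain ⟨a, ha, _, ⟨i, rfl⟩, rfl⟩ := Coprime.exists_mul_of_mem_sup
            (hnorm' _ _ (Subgroup.zpowers_le.mpr hx) hAP) hyA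
          by_cases hi : (p : ℤ) ∣ i
          · obtain ⟨j, rfl⟩ := hi
            simp only [zpow_mul, zpow_natCast, hPe x hx, one_zpow, mul_one] at hyN ⊢
            rw [Subgroup.mem_bot]
            exact Subgroup.mem_bot.mp (hAN ▸ Subgroup.mem_inf.mpr ⟨ha, hyN⟩)
          · exfalso
            apply hxn
            have h1 : x ^ i ∈ N ⊔ A := by
              have h' : x ^ i = a⁻¹ * (a * x ^ i) := by group
              rw [h']
              exact mul_mem (inv_mem (Subgroup.mem_sup_right ha)) (Subgroup.mem_sup_left hyN)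
            obtain ⟨u, t, hut⟩ : ∃ u t : ℤ, u * i + t * p = 1 :=
              (((Nat.prime_iff_prime_int.mp hp).coprime_iff_not_dvd).mpr hi).symm
            have h2 : x = (x ^ i) ^ u * (x ^ (p : ℤ)) ^ t := by
              rw [← zpow_mul, ← zpow_mul, ← zpow_add, mul_comm i u, mul_comm (p : ℤ) t, hut, zpow_one]
            rw [h2, zpow_natCast, hPe x hx, one_zpow, mul_one]
            exact zpow_mem h1 u
        obtain ⟨C, hC⟩ := exists_complement_of_coprime_index (K := N) (U := (P : Subgroup G)) hNP
          (P.card_coprime_index.coprime_dvd_left (Subgroup.card_dvd_of_le hNP)) hAP hAN hNA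
        refine hN0 ?_
        by_cases hCtop : C = ⊤
        · have := disjoint_iff.mp hC.disjoint
          rwa [hCtop, inf_top_eq] at this
        · exfalso
          obtain ⟨M, hM, hCM⟩ := (eq_top_or_exists_le_coatom C).resolve_left hCtop
          exact hM.1 (top_le_iff.mp (hC.sup_eq_top ▸ sup_le (hNfrat.trans (frattini_le_coatom hM)) hCM))
      let π := QuotientGroup.mk' F
      have hπ : Function.Surjective π := QuotientGroup.mk'_surjective F
      haveI : ((P : Subgroup G).map π).Normal := hPn.map π hπ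
      have hc := centralize_aux _ (G ⧸ F) rfl (hquot F hF0) ((P : Subgroup G).map π) (P.2.map π) (π g)
        (hg.imp (fun h => by
          have h1 := Subgroup.mem_map_of_mem π h
          rw [commutator_def, Subgroup.map_commutator, Subgroup.map_top_of_surjective π hπ] at h1
          exact h1) fun ⟨k, hk⟩ => ⟨π k, by rw [hk, map_pow]⟩)
        ((hHcop g hgH).coprime_dvd_left (orderOf_map_dvd π g))
      rw [← QuotientGroup.eq_one_iff]
      have h1 := Subgroup.mem_centralizer_iff.mp (zpow_mem hc i) _ (Subgroup.mem_map_of_mem π hk)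
      rw [← map_zpow] at h1
      simp only [π, QuotientGroup.mk'_apply] at h1
      simp only [QuotientGroup.mk_mul, QuotientGroup.mk_inv]
      rw [← h1, mul_inv_cancel_right, mul_inv_cancel]
  -- every element of `H` acts on `N` as a scalar
  haveI : Nontrivial N := (Subgroup.nontrivial_iff_ne_bot N).mpr hN0
  have hscal : ∀ g ∈ H, ∃ k : ℕ, ∀ x ∈ N, g * x * g⁻¹ = x ^ k := by
    intro g hg
    obtain ⟨k, n₀, hn₀, hk⟩ := exists_eigenvector (p := p)
      (fun x y : N => Subtype.ext (hNcomm x x.2 y y.2)) (fun x => Subtype.ext (by simpa using hNe x x.2))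
      (MulAut.conjNormal g) (by
        rw [← map_pow, hgood (g ^ (p - 1)) (pow_mem hg _) (Or.inr ⟨g, rfl⟩), map_one])
    refine ⟨k, fun x hx => ?_⟩
    let E : Subgroup G :=
      { carrier := {x | x ∈ N ∧ g * x * g⁻¹ = x ^ k}
        one_mem' := ⟨one_mem _, by simp⟩
        mul_mem' := fun {x y} hx hy => ⟨mul_mem hx.1 hy.1, by
          rw [(show Commute x y from hNcomm x hx.1 y hy.1).mul_pow, ← hx.2, ← hy.2]; group⟩
        inv_mem' := fun {x} hx => ⟨inv_mem hx.1, by rw [inv_pow, ← hx.2]; group⟩ }
    have hEn : E.Normal := by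
      rw [← Subgroup.normalizer_eq_top_iff, eq_top_iff, ← hsup]
      refine sup_le (fun y hy => ?_) (fun y hy => ?_)
      · refine Subgroup.centralizer_le_normalizer _ (Subgroup.mem_centralizer_iff.mpr fun z hz => ?_)
        exact (Subgroup.mem_centralizer_iff.mp (Subgroup.mem_inf.mp (hNZ hz.1)).2 y hy).symm
      · refine Coprime.mem_normalizer_of_conj_smul_eq
          (Coprime.eq_of_le_of_card_le ?_ (Coprime.card_conj_smul y E).ge)
        intro z hz
        rw [Coprime.mem_conj_smul] at hz
        refine ⟨by simpa [mul_assoc] using hNn.conj_mem _ hz.1 y, ?_⟩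
        have hcomm : Commute g y := by
          have h1 := hgood ⁅g, y⁆
            (by rw [commutatorElement_def]; exact mul_mem (mul_mem (mul_mem hg hy) (inv_mem hg)) (inv_mem hy))
            (Or.inl (Subgroup.commutator_mem_commutator (Subgroup.mem_top g) (Subgroup.mem_top y)))
          exact commutatorElement_eq_one_iff_mul_comm.mp h1
        calc g * z * g⁻¹ = (g * y) * (y⁻¹ * z * y) * (g * y)⁻¹ := by group
          _ = (y * g) * (y⁻¹ * z * y) * (y * g)⁻¹ := by rw [hcomm.eq]
          _ = y * (g * (y⁻¹ * z * y) * g⁻¹) * y⁻¹ := by group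
          _ = y * (y⁻¹ * z * y) ^ k * y⁻¹ := by rw [hz.2]
          _ = z ^ k := by rw [← conj_pow]; congr 1; group
    rcases hminN E hEn (fun x hx => hx.1) with e | e
    · exfalso
      apply hn₀
      have : (n₀ : G) ∈ E := ⟨n₀.2, congrArg Subtype.val hk⟩
      rw [e, Subgroup.mem_bot] at this
      exact Subtype.ext this
    · exact (e.ge hx).2
  obtain ⟨n₁, hn₁N, hn₁⟩ := (Subgroup.bot_or_exists_ne_one N).resolve_left hN0
  rcases hminN (Subgroup.zpowers n₁) (by
      rw [← Subgroup.normalizer_eq_top_iff, eq_top_iff, ← hsup]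
      refine sup_le (fun y hy => ?_) (fun y hy => ?_)
      · refine Subgroup.centralizer_le_normalizer _ (Subgroup.mem_centralizer_iff.mpr fun z hz => ?_)
        exact (Subgroup.mem_centralizer_iff.mp
          (Subgroup.mem_inf.mp (hNZ (Subgroup.zpowers_le.mpr hn₁N hz))).2 y hy).symm
      · refine Coprime.mem_normalizer_of_conj_smul_eq
          (Coprime.eq_of_le_of_card_le ?_ (Coprime.card_conj_smul y _).ge)
        intro z hz
        rw [Coprime.mem_conj_smul] at hz
        obtain ⟨k, hk⟩ := hscal y hy
        rw [show z = (y⁻¹ * z * y) ^ k by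
          rw [← hk _ (Subgroup.zpowers_le.mpr hn₁N hz)]; group]
        exact pow_mem hz k) (Subgroup.zpowers_le.mpr hn₁N) with e | e
  · exact hn₁ (Subgroup.zpowers_eq_bot.mp e)
  · exact hNnc (e ▸ inferInstance)

theorem isSupersolvable [Finite G] (h : ∀ M : Subgroup G, IsCoatom M → M.index.Prime) :
    Cfsg.IsSupersolvable G :=
  isSupersolvable_aux _ G rfl h

/-- The Sylow subgroup for the largest prime, when all subgroups satisfy the converse of
Lagrange's theorem. -/
theorem clt_sylow_normal_aux : ∀ (n : ℕ) (G : Type u) [Group G] [Finite G], Nat.card G = n →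
    (∀ H : Subgroup G, Cfsg.HasSubgroupOfEveryOrder H) → ∀ (p : ℕ) [Fact p.Prime],
    (∀ q : ℕ, q.Prime → q ∣ Nat.card G → q ≤ p) → ∀ P : Sylow p G, (P : Subgroup G).Normal := by
  intro n
  induction n using Nat.strongRecOn with
  | ind n IH =>
  intro G _ _ hn h p hp hmax P
  cases subsingleton_or_nontrivial G with
  | inl hs =>
    rw [Subsingleton.elim (P : Subgroup G) ⊥]
    infer_instance
  | inr hnt =>
    set q := (Nat.card G).minFac with hq
    have hqp : q.Prime := Nat.minFac_prime Finite.one_lt_card.ne'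
    haveI := Fact.mk hqp
    by_cases hqe : q = p
    · have hG : IsPGroup p G := IsPGroup.of_card (n := (Nat.card G).primeFactorsList.length)
        (Nat.eq_prime_pow_of_unique_prime_dvd Nat.card_pos.ne' fun {d} hd hdd =>
          le_antisymm (hmax d hd hdd) (hqe ▸ Nat.minFac_le_of_dvd hd.two_le hdd))
      obtain ⟨k, hk⟩ := IsPGroup.iff_card.mp hG
      have : (P : Subgroup G) = ⊤ := Subgroup.eq_top_of_card_eq _ (by
        rw [P.card_eq_multiplicity, hk, Nat.Prime.factorization_pow hp.out, Finsupp.single_eq_same])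
      rw [this]
      infer_instance
    obtain ⟨M', hM'⟩ := h ⊤ (Nat.card G / q)
      (by rw [Subgroup.card_top]; exact Nat.div_dvd_of_dvd (Nat.minFac_dvd _))
    set M := M'.map (⊤ : Subgroup G).subtype with hMd
    have hMc : Nat.card M = Nat.card G / q := by
      rw [hMd, Subgroup.card_map_of_injective (⊤ : Subgroup G).subtype_injective, hM']
    have hMi : M.index = q := by
      have h1 := M.card_mul_index
      rw [hMc] at h1
      refine Nat.eq_of_mul_eq_mul_left (Nat.div_pos (Nat.le_of_dvd Nat.card_pos (Nat.minFac_dvd _))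
        hqp.pos) ?_
      rw [h1, Nat.div_mul_cancel (Nat.minFac_dvd _)]
    haveI hMn : M.Normal := Subgroup.normal_of_index_eq_minFac_card hMi
    have hPM : (P : Subgroup G) ≤ M := by
      intro x hx
      rw [← QuotientGroup.eq_one_iff]
      obtain ⟨k, hk⟩ := IsPGroup.iff_orderOf.mp P.2 ⟨x, hx⟩
      rw [Subgroup.orderOf_mk] at hk
      refine orderOf_eq_one_iff.mp (Nat.eq_one_of_dvd_coprimes
        (Nat.Coprime.pow_left k ((Nat.coprime_primes hp.out hqp).mpr (Ne.symm hqe)))
        (hk ▸ orderOf_map_dvd (QuotientGroup.mk' M) x) ?_)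
      rw [← hMi]
      exact orderOf_dvd_natCard _
    have hlt : Nat.card M < n := by
      rw [hMc, ← hn]
      exact Nat.div_lt_self Nat.card_pos hqp.one_lt
    have hMclt : ∀ H : Subgroup M, Cfsg.HasSubgroupOfEveryOrder H := by
      intro H d hd
      let e := H.equivMapOfInjective M.subtype M.subtype_injective
      obtain ⟨K, hK⟩ := h (H.map M.subtype) d (by rwa [← Nat.card_congr e.toEquiv])
      exact ⟨K.map e.symm.toMonoidHom, by
        rw [Subgroup.card_map_of_injective e.symm.injective, hK]⟩
    haveI := IH _ hlt M rfl hMclt p (fun r hr hrd => hmax r hr (hrd.trans M.card_subgroup_dvd_card))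
      (P.subtype hPM)
    haveI : ((P.subtype hPM : Sylow p M) : Subgroup M).Characteristic :=
      Sylow.characteristic_of_normal _ inferInstance
    have h4 := Cores.normal_map_subtype_of_char M ((P.subtype hPM : Sylow p M) : Subgroup M)
    rwa [Sylow.coe_subtype, Subgroup.map_subgroupOf_eq_of_le hPM] at h4

theorem clt_isSupersolvable_aux : ∀ (n : ℕ) (G : Type u) [Group G] [Finite G], Nat.card G = n →
    (∀ H : Subgroup G, Cfsg.HasSubgroupOfEveryOrder H) → Cfsg.IsSupersolvable G := by
  intro n
  induction n using Nat.strongRecOn with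
  | ind n IH =>
  intro G _ _ hn h
  cases subsingleton_or_nontrivial G with
  | inl hs => exact isSupersolvable_of_subsingleton G
  | inr hnt =>
  have hproper : ∀ X : Subgroup G, X ≠ ⊤ → Cfsg.IsSupersolvable X := by
    intro X hX
    refine IH _ (hn ▸ ThompsonComplement.card_lt_of_ne_top hX) X rfl fun H d hd => ?_
    let e := H.equivMapOfInjective X.subtype X.subtype_injective
    obtain ⟨K, hK⟩ := h (H.map X.subtype) d (by rwa [← Nat.card_congr e.toEquiv])
    exact ⟨K.map e.symm.toMonoidHom, by
      rw [Subgroup.card_map_of_injective e.symm.injective, hK]⟩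
  refine isSupersolvable fun M hM => ?_
  obtain ⟨p, hp, hpd, hmax⟩ := exists_max_prime (G := G)
  haveI := Fact.mk hp
  obtain ⟨P⟩ : Nonempty (Sylow p G) := inferInstance
  haveI hPn := clt_sylow_normal_aux _ G rfl h p hmax P
  haveI hPnil : Group.IsNilpotent (P : Subgroup G) := P.2.isNilpotent
  have hcop := P.card_coprime_index
  by_cases hPM : (P : Subgroup G) ≤ M
  · obtain ⟨R, hR⟩ := Subgroup.exists_right_complement'_of_coprime (N := (P : Subgroup G)) hcop
    have hRtop : R ≠ ⊤ := fun e => by
      have h1 := P.dvd_card_of_dvd_card hpd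
      have h2 : (P : Subgroup G) = ⊥ := by
        have := disjoint_iff.mp hR.disjoint
        rwa [e, inf_top_eq] at this
      rw [h2, Subgroup.card_bot] at h1
      exact hp.not_dvd_one h1
    let π := (QuotientGroup.mk' (P : Subgroup G)).comp R.subtype
    have hπ : Function.Surjective π := fun y => by
      obtain ⟨g, rfl⟩ := QuotientGroup.mk'_surjective (P : Subgroup G) y
      obtain ⟨a, ha, b, hb, rfl⟩ := Coprime.exists_mul_of_mem_sup
        (by rw [Subgroup.normalizer_eq_top]; exact le_top)
        (show g ∈ (P : Subgroup G) ⊔ R by rw [hR.sup_eq_top]; exact Subgroup.mem_top g)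
      exact ⟨⟨b, hb⟩, by simp [π, (QuotientGroup.eq_one_iff a).mpr ha]⟩
    have hss := isSupersolvable_map π hπ (hproper R hRtop)
    have hπ' := QuotientGroup.mk'_surjective (P : Subgroup G)
    have hker : (QuotientGroup.mk' (P : Subgroup G)).ker ≤ M := by rw [QuotientGroup.ker_mk']; exact hPM
    rw [← Subgroup.index_map_eq M hπ' hker]
    refine prime_index_of_isCoatom hss _ ⟨fun e => hM.1 ?_, fun K hK => ?_⟩
    · rw [← Subgroup.comap_map_eq_self hker, e, Subgroup.comap_top]
    · have hlt' : M < K.comap (QuotientGroup.mk' (P : Subgroup G)) := by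
        rw [← Subgroup.comap_map_eq_self hker]
        exact (Subgroup.comap_lt_comap_of_surjective hπ').mpr hK
      rw [← Subgroup.map_comap_eq_self_of_surjective hπ' K, hM.2 _ hlt',
        Subgroup.map_top_of_surjective _ hπ']
  · set D := (P : Subgroup G) ⊓ M with hDd
    have htop : (P : Subgroup G) ⊔ M = ⊤ :=
      hM.2 _ (lt_of_le_of_ne le_sup_right fun e => hPM (le_sup_left.trans e.ge))
    have hDlt : D < (P : Subgroup G) := lt_of_le_of_ne inf_le_left fun e => hPM (inf_eq_left.mp e)
    haveI hDn : D.Normal := by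
      have hMN : M ≤ Subgroup.normalizer (D : Set G) := fun x hx =>
        Subgroup.inf_normalizer_le_normalizer_inf (Subgroup.mem_inf.mpr
          ⟨(Subgroup.normalizer_eq_top (H := (P : Subgroup G))).symm ▸ Subgroup.mem_top x,
            Subgroup.le_normalizer hx⟩)
      refine Subgroup.normalizer_eq_top_iff.mp (hM.2 _ (lt_of_le_of_ne hMN fun e => ?_))
      have hnc := Group.normalizerCondition_of_isNilpotent (D.subgroupOf (P : Subgroup G))
        (lt_top_iff_ne_top.mpr fun e' => hDlt.not_ge (Subgroup.subgroupOf_eq_top.mp e'))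
      obtain ⟨x, hx, hxD⟩ := SetLike.exists_of_lt hnc
      refine hxD (Subgroup.mem_subgroupOf.mpr (Subgroup.mem_inf.mpr ⟨x.2, e.ge ?_⟩))
      refine Coprime.mem_normalizer_of_conj_smul_eq
        (Coprime.eq_of_le_of_card_le ?_ (Coprime.card_conj_smul (x : G) D).ge)
      intro z hz
      rw [Coprime.mem_conj_smul] at hz
      have hzP : z ∈ (P : Subgroup G) := by
        simpa [mul_assoc] using hPn.conj_mem _ (inf_le_left (b := M) hz) (x : G)
      have hz' : (⟨z, hzP⟩ : (P : Subgroup G)) ∈
          MulAut.conj x • D.subgroupOf (P : Subgroup G) := by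
        rw [Coprime.mem_conj_smul]
        exact Subgroup.mem_subgroupOf.mpr (by simpa using hz)
      rw [Coprime.conj_smul_eq_of_mem_normalizer hx] at hz'
      exact Subgroup.mem_subgroupOf.mp hz'
    -- a complement of `P` inside `M`
    haveI : (D.subgroupOf M).Normal := Subgroup.normal_subgroupOf
    obtain ⟨R', hR'⟩ := Subgroup.exists_right_complement'_of_coprime (N := D.subgroupOf M) (by
      have h1 : Nat.card (D.subgroupOf M) = Nat.card D :=
        Nat.card_congr (Subgroup.subgroupOfEquivOfLe inf_le_right).toEquiv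
      have h2 : (D.subgroupOf M).index = (P : Subgroup G).index := by
        rw [← Subgroup.relIndex, hDd, Subgroup.inf_relIndex_right, ← Subgroup.relIndex_top_right,
          ← htop, sup_comm]
        exact (Subgroup.relIndex_sup_right M (P : Subgroup G)).symm
      rw [h1, h2]
      exact hcop.coprime_dvd_left (Subgroup.card_dvd_of_le inf_le_left))
    set R := R'.map M.subtype with hRd
    have hRM : R ≤ M := Subgroup.map_subtype_le _
    have hMDR : M ≤ D ⊔ R := by
      intro x hx
      have h1 : (⟨x, hx⟩ : M) ∈ D.subgroupOf M ⊔ R' := hR'.sup_eq_top ▸ Subgroup.mem_top _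
      have h2 := Subgroup.mem_map_of_mem M.subtype h1
      rwa [Subgroup.map_sup, Subgroup.map_subgroupOf_eq_of_le inf_le_right] at h2
    have hPRtop : (P : Subgroup G) ⊔ R = ⊤ :=
      top_le_iff.mp (htop ▸ sup_le le_sup_left (hMDR.trans (sup_le (inf_le_left.trans le_sup_left) le_sup_right)))
    have hRc : Nat.card R = (P : Subgroup G).index := by
      rw [hRd, Subgroup.card_map_of_injective M.subtype_injective, ← hR'.symm.index_eq_card,
        ← Subgroup.relIndex, hDd, Subgroup.inf_relIndex_right, ← Subgroup.relIndex_top_right, ← htop,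
        sup_comm]
      exact (Subgroup.relIndex_sup_right M (P : Subgroup G)).symm
    obtain ⟨k, hk, hkc⟩ : ∃ k, 0 < k ∧ Nat.card (P : Subgroup G) = p ^ k :=
      Coprime.exists_card_eq_prime_pow hp P.2 fun e => hPM (by rw [e]; exact bot_le)
    -- a subgroup of index `p` containing `R`
    obtain ⟨L₀', hL₀'⟩ := h ⊤ (Nat.card G / p)
      (by rw [Subgroup.card_top]; exact Nat.div_dvd_of_dvd hpd)
    set L₀ := L₀'.map (⊤ : Subgroup G).subtype with hL₀d
    have hL₀c : Nat.card L₀ * p = Nat.card G := by
      rw [hL₀d, Subgroup.card_map_of_injective (⊤ : Subgroup G).subtype_injective, hL₀',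
        Nat.div_mul_cancel hpd]
    haveI : ((P : Subgroup G).subgroupOf L₀).Normal := Subgroup.normal_subgroupOf
    have hL₀P : (P : Subgroup G) ⊔ L₀ = ⊤ := by
      rw [← Subgroup.index_eq_one]
      refine Nat.eq_one_of_dvd_coprimes (k := ((P : Subgroup G) ⊔ L₀).index) ?_
        (Subgroup.index_dvd_of_le le_sup_left) (Subgroup.index_dvd_of_le le_sup_right)
      have h1 : L₀.index = p := by
        have := L₀.card_mul_index
        rw [← hL₀c] at this
        exact Nat.eq_of_mul_eq_mul_left Nat.card_pos this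
      rw [h1]
      exact hcop.symm.coprime_dvd_right (P.dvd_card_of_dvd_card hpd)
    obtain ⟨H', hH'⟩ := Subgroup.exists_right_complement'_of_coprime
      (N := (P : Subgroup G).subgroupOf L₀) (by
        have h1 : ((P : Subgroup G).subgroupOf L₀).index = (P : Subgroup G).index := by
          rw [← Subgroup.relIndex, ← Subgroup.relIndex_top_right (P : Subgroup G), ← hL₀P,
            sup_comm, Subgroup.relIndex_sup_right]
        rw [h1]
        refine hcop.coprime_dvd_left ?_
        rw [← Subgroup.card_map_of_injective L₀.subtype_injective, Subgroup.subgroupOf_map_subtype]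
        exact Subgroup.card_dvd_of_le inf_le_left)
    set H := H'.map L₀.subtype with hHd
    have hPH : (P : Subgroup G) ⊔ H = ⊤ := by
      refine top_le_iff.mp (hL₀P ▸ sup_le le_sup_left fun x hx => ?_)
      have h1 : (⟨x, hx⟩ : L₀) ∈ (P : Subgroup G).subgroupOf L₀ ⊔ H' :=
        hH'.sup_eq_top ▸ Subgroup.mem_top _
      have h2 := Subgroup.mem_map_of_mem L₀.subtype h1
      rw [Subgroup.map_sup, Subgroup.subgroupOf_map_subtype] at h2
      exact (sup_le_sup_right (inf_le_left : (P : Subgroup G) ⊓ L₀ ≤ P) _) h2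
    have hHc : Nat.card H = (P : Subgroup G).index := by
      rw [hHd, Subgroup.card_map_of_injective L₀.subtype_injective, ← hH'.symm.index_eq_card,
        ← Subgroup.relIndex, ← Subgroup.relIndex_top_right (P : Subgroup G), ← hL₀P, sup_comm,
        Subgroup.relIndex_sup_right]
    obtain ⟨n₀, -, hn₀⟩ := Coprime.exists_conj_eq_of_le_sup (H := H) (K := R)
      (by rw [Subgroup.normalizer_eq_top]; exact le_top) (hHc ▸ hcop)
      (Or.inl inferInstance) (hRc.trans hHc.symm) (by rw [hPH]; exact le_top)
    set L := MulAut.conj n₀ • L₀ with hLd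
    have hRL : R ≤ L := hn₀ ▸ Subgroup.pointwise_smul_le_pointwise_smul_iff.mpr (Subgroup.map_subtype_le _)
    have hLc : Nat.card L * p = Nat.card G := by rw [hLd, Coprime.card_conj_smul, hL₀c]
    have hLtop : L ≠ ⊤ := fun e => by
      rw [e, Subgroup.card_top] at hLc
      exact hp.one_lt.ne' (Nat.eq_of_mul_eq_mul_left Nat.card_pos (hLc.trans (mul_one _).symm))
    have hLi : L.index = p := by
      have := L.card_mul_index
      rw [← hLc] at this
      exact Nat.eq_of_mul_eq_mul_left Nat.card_pos this
    by_cases hLM : L ≤ M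
    · rcases (Nat.dvd_prime hp).mp (hLi ▸ Subgroup.index_dvd_of_le hLM) with h1 | h1
      · exact absurd (Subgroup.index_eq_one.mp h1) hM.1
      · rw [h1]; exact hp
    have hPL : ∀ x ∈ L, ∃ a ∈ (P : Subgroup G) ⊓ L, ∃ b ∈ R, x = a * b := by
      intro x hx
      obtain ⟨a, ha, b, hb, rfl⟩ := Coprime.exists_mul_of_mem_sup
        (by rw [Subgroup.normalizer_eq_top]; exact le_top)
        (show x ∈ (P : Subgroup G) ⊔ R by rw [hPRtop]; exact Subgroup.mem_top x)
      exact ⟨a, ⟨ha, by simpa using mul_mem hx (inv_mem (hRL hb))⟩, b, hb, rfl⟩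
    have hmax' : IsCoatom (M.subgroupOf L) := by
      refine ⟨fun e => hLM (Subgroup.subgroupOf_eq_top.mp e), fun T hT => ?_⟩
      set T₁ := T.map L.subtype with hT₁
      have hRT : R ≤ T₁ := fun x hx => ⟨⟨x, hRL hx⟩, hT.le (Subgroup.mem_subgroupOf.mpr (hRM hx)), rfl⟩
      by_cases hcase : M ⊔ ((P : Subgroup G) ⊓ T₁) = M
      · exfalso
        refine hT.not_ge fun x hx => Subgroup.mem_subgroupOf.mpr ?_
        obtain ⟨a, ⟨ha, haL⟩, b, hb, hab⟩ := hPL x x.2
        have hxT : (x : G) ∈ T₁ := ⟨x, hx, rfl⟩
        have haT : a ∈ T₁ := by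
          have h1 := mul_mem hxT (inv_mem (hRT hb))
          rwa [hab, mul_inv_cancel_right] at h1
        rw [hab]
        exact mul_mem (hcase ▸ Subgroup.mem_sup_right (Subgroup.mem_inf.mpr ⟨ha, haT⟩)) (hRM hb)
      · have htop' : M ⊔ ((P : Subgroup G) ⊓ T₁) = ⊤ :=
          hM.2 _ (lt_of_le_of_ne le_sup_left (Ne.symm hcase))
        rw [eq_top_iff]
        rintro x -
        obtain ⟨a, haPL, b, hb, hab⟩ := hPL x x.2
        obtain ⟨ha, haL⟩ := Subgroup.mem_inf.mp haPL
        suffices haT : a ∈ T₁ by
          obtain ⟨y, hy, hyx⟩ : (x : G) ∈ T₁ := hab ▸ mul_mem haT (hRT hb)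
          exact (Subtype.ext hyx : y = x) ▸ hy
        have hRnorm : R ≤ Subgroup.normalizer ((D ⊔ (P : Subgroup G) ⊓ T₁ : Subgroup G) : Set G) :=
          Coprime.le_normalizer_sup (by rw [Subgroup.normalizer_eq_top]; exact le_top)
            ((le_inf (by rw [Subgroup.normalizer_eq_top]; exact le_top)
              (hRT.trans Subgroup.le_normalizer)).trans Subgroup.inf_normalizer_le_normalizer_inf)
        obtain ⟨c, hc, d, hd, hcd⟩ := Coprime.exists_mul_of_mem_sup hRnorm
          (show a ∈ (D ⊔ (P : Subgroup G) ⊓ T₁) ⊔ R from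
            (htop' ▸ sup_le (hMDR.trans (sup_le (le_sup_left.trans le_sup_left) le_sup_right))
              (le_sup_right.trans le_sup_left)) (Subgroup.mem_top a))
        have hdP : d ∈ (P : Subgroup G) ⊓ R := Subgroup.mem_inf.mpr
          ⟨by
            have h1 := mul_mem (inv_mem ((sup_le (inf_le_left : D ≤ (P : Subgroup G)) (inf_le_left : (P : Subgroup G) ⊓ T₁ ≤ P)) hc : c ∈ (P : Subgroup G))) ha
            rwa [hcd, inv_mul_cancel_left] at h1, hd⟩
        rw [Coprime.inf_eq_bot_of_coprime_card (hRc ▸ hcop), Subgroup.mem_bot] at hdP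
        rw [hdP, mul_one] at hcd
        subst hcd
        obtain ⟨e₁, he₁, e₂, he₂, rfl⟩ := Coprime.exists_mul_of_mem_sup
          (by rw [Subgroup.normalizer_eq_top]; exact le_top) hc
        refine mul_mem ?_ (Subgroup.mem_inf.mp he₂).2
        have he₂L : e₂ ∈ L := Subgroup.map_subtype_le T (Subgroup.mem_inf.mp he₂).2
        have he₁L : e₁ ∈ L := by simpa using mul_mem haL (inv_mem he₂L)
        exact ⟨⟨e₁, he₁L⟩, hT.le (Subgroup.mem_subgroupOf.mpr (Subgroup.mem_inf.mp he₁).2), rfl⟩
    have hprime := prime_index_of_isCoatom (hproper L hLtop) _ hmax'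
    -- the index of `M` in `G`
    have hidx : M.relIndex L = M.index := by
      have hD' : (P : Subgroup G) ≤ D ⊔ ((P : Subgroup G) ⊓ L) := by
        intro x hx
        by_contra hxn
        have hRn : R ≤ Subgroup.normalizer ((D ⊔ (P : Subgroup G) ⊓ L : Subgroup G) : Set G) :=
          Coprime.le_normalizer_sup (by rw [Subgroup.normalizer_eq_top]; exact le_top)
            ((le_inf (by rw [Subgroup.normalizer_eq_top]; exact le_top)
              (hRL.trans Subgroup.le_normalizer)).trans Subgroup.inf_normalizer_le_normalizer_inf)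
        have hne : (D ⊔ (P : Subgroup G) ⊓ L) ⊔ R ≠ ⊤ := fun e => hxn (by
          obtain ⟨c, hc, d, hd, rfl⟩ := Coprime.exists_mul_of_mem_sup hRn
            (show x ∈ (D ⊔ (P : Subgroup G) ⊓ L) ⊔ R by rw [e]; exact Subgroup.mem_top x)
          have hdP : d ∈ (P : Subgroup G) ⊓ R :=
            Subgroup.mem_inf.mpr ⟨by simpa using mul_mem (inv_mem ((sup_le (inf_le_left : D ≤ (P : Subgroup G)) (inf_le_left : (P : Subgroup G) ⊓ L ≤ P)) hc : c ∈ (P : Subgroup G))) hx, hd⟩
          rw [Coprime.inf_eq_bot_of_coprime_card (hRc ▸ hcop), Subgroup.mem_bot] at hdP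
          rwa [hdP, mul_one])
        have hMle : M ≤ (D ⊔ (P : Subgroup G) ⊓ L) ⊔ R :=
          hMDR.trans (sup_le (le_sup_left.trans le_sup_left) le_sup_right)
        have heq := (hM.le_iff.mp hMle).resolve_left hne
        refine hLM fun y hy => ?_
        obtain ⟨a, ha, b, hb, rfl⟩ := hPL y hy
        rw [← heq]
        exact mul_mem (Subgroup.mem_sup_left (Subgroup.mem_sup_right ha)) (Subgroup.mem_sup_right hb)
      -- count
      have c1 := Coprime.card_sup_mul_card_inf (N := D) (H := (P : Subgroup G) ⊓ L)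
        (by rw [Subgroup.normalizer_eq_top]; exact le_top)
      rw [le_antisymm (sup_le inf_le_left inf_le_left) hD'] at c1
      have hinf : D ⊓ ((P : Subgroup G) ⊓ L) = (P : Subgroup G) ⊓ (M ⊓ L) := by
        rw [hDd]; exact le_antisymm
          (le_inf (inf_le_left.trans inf_le_left) (le_inf (inf_le_left.trans inf_le_right) (inf_le_right.trans inf_le_right)))
          (le_inf (le_inf inf_le_left (inf_le_right.trans inf_le_left)) (le_inf inf_le_left (inf_le_right.trans inf_le_right)))
      rw [hinf] at c1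
      have hcardR : ∀ X : Subgroup G, R ≤ X →
          Nat.card X = Nat.card ((P : Subgroup G) ⊓ X : Subgroup G) * Nat.card R := by
        intro X hX
        have hn' : R ≤ Subgroup.normalizer (((P : Subgroup G) ⊓ X : Subgroup G) : Set G) :=
          (le_inf (by rw [Subgroup.normalizer_eq_top]; exact le_top)
            (hX.trans Subgroup.le_normalizer)).trans Subgroup.inf_normalizer_le_normalizer_inf
        have hX' : ((P : Subgroup G) ⊓ X) ⊔ R = X := by
          refine le_antisymm (sup_le inf_le_right hX) fun y hy => ?_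
          obtain ⟨a, ha, b, hb, rfl⟩ := Coprime.exists_mul_of_mem_sup
            (by rw [Subgroup.normalizer_eq_top]; exact le_top)
            (show y ∈ (P : Subgroup G) ⊔ R by rw [hPRtop]; exact Subgroup.mem_top y)
          exact mul_mem (Subgroup.mem_sup_left ⟨ha, by simpa using mul_mem hy (inv_mem (hX hb))⟩)
            (Subgroup.mem_sup_right hb)
        have := Coprime.card_sup_mul_card_inf hn'
        rw [hX', eq_bot_iff.mpr ((inf_le_inf_right R inf_le_left).trans
          (Coprime.inf_eq_bot_of_coprime_card (hRc ▸ hcop)).le), Subgroup.card_bot, mul_one] at this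
        exact this
      have e1 := hcardR M hRM
      have e2 := hcardR L hRL
      have e3 := hcardR (M ⊓ L) (le_inf hRM hRL)
      have r1 := Coprime.relIndex_mul_card (inf_le_right : M ⊓ L ≤ L)
      rw [Subgroup.inf_relIndex_right] at r1
      have r2 := M.card_mul_index
      have r3 : Nat.card G = Nat.card (P : Subgroup G) * Nat.card R := by
        rw [hRc]; exact ((P : Subgroup G).card_mul_index).symm
      rw [← hDd] at e1
      have hRpos : 0 < Nat.card R := Nat.card_pos
      have hpos : 0 < Nat.card (M ⊓ L : Subgroup G) * Nat.card M := Nat.mul_pos Nat.card_pos Nat.card_pos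
      refine Nat.eq_of_mul_eq_mul_right hpos ?_
      calc M.relIndex L * (Nat.card (M ⊓ L : Subgroup G) * Nat.card M)
          = Nat.card L * Nat.card M := by rw [← r1]; ring
        _ = (Nat.card ((P : Subgroup G) ⊓ L : Subgroup G) * Nat.card R) * (Nat.card D * Nat.card R) := by
            rw [e1, e2]
        _ = (Nat.card D * Nat.card ((P : Subgroup G) ⊓ L : Subgroup G)) * (Nat.card R * Nat.card R) := by
            ring
        _ = (Nat.card (P : Subgroup G) * Nat.card ((P : Subgroup G) ⊓ (M ⊓ L) : Subgroup G)) *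
              (Nat.card R * Nat.card R) := by rw [c1]
        _ = Nat.card G * Nat.card (M ⊓ L : Subgroup G) := by rw [r3, e3]; ring
        _ = M.index * (Nat.card (M ⊓ L : Subgroup G) * Nat.card M) := by rw [← r2]; ring
    rwa [← hidx]

theorem clt_isSupersolvable [Finite G] (h : ∀ H : Subgroup G, Cfsg.HasSubgroupOfEveryOrder H) :
    Cfsg.IsSupersolvable G :=
  clt_isSupersolvable_aux _ G rfl h

end Cfsg.Agent.Lib.Solvable.Huppert
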