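import Cfsg.Prelude.Def_SolvableStructure
import Mathlib.GroupTheory.SpecificGroups.Cyclic
import Cfsg.Agent.Lib.Coprime.Hall

/-!
Finite supersolvable groups.

Main results:
* `isSupersolvable_of_cyclic_normal`, `isSupersolvable_map`, `isSupersolvable_quotient`,
  `isSupersolvable_subgroup`, `isSupersolvable_prod`.
* `exists_normal_card_prime` (induction principle), `exists_normal_card_prime_le`.
* `isNilpotent_commutator`, `prime_index_of_isCoatom`, `hasSubgroupOfEveryOrder`,
  `sylow_normal_of_max_prime`, `isSolvable_of_isSupersolvable`.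
-/

set_option autoImplicit false

open Pointwise
open scoped commutatorElement

namespace Cfsg.Agent.Lib.Solvable

universe u v

theorem isSupersolvable_of_subsingleton (G : Type*) [Group G] [Subsingleton G] :
    Cfsg.IsSupersolvable G :=
  ⟨0, fun _ => ⊥, rfl, Subsingleton.elim _ _, fun _ => inferInstance, fun i => i.elim0⟩

/-- Extension of a supersolvable group by a cyclic normal subgroup. -/
theorem isSupersolvable_of_cyclic_normal {G : Type*} [Group G] (N : Subgroup G) [N.Normal]
    (hN : IsCyclic N) (h : Cfsg.IsSupersolvable (G ⧸ N)) : Cfsg.IsSupersolvable G := by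
  obtain ⟨n, H, h0, hl, hn, hs⟩ := h
  let π : G →* G ⧸ N := QuotientGroup.mk' N
  have hπ : Function.Surjective π := QuotientGroup.mk'_surjective N
  refine ⟨n + 1, Fin.cons ⊥ fun i => (H i).comap π, by simp, ?_, ?_, ?_⟩
  · rw [← Fin.succ_last, Fin.cons_succ, hl, Subgroup.comap_top]
  · intro i
    refine Fin.cases ?_ (fun j => ?_) i
    · simpa using Subgroup.normal_bot
    · simpa using (hn j).comap π
  · intro i
    refine Fin.cases ?_ (fun j => ?_) i
    · obtain ⟨g, hg⟩ := hN.exists_generator
      refine ⟨(g : G), ?_⟩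
      simp only [Fin.castSucc_zero, Fin.cons_zero, Fin.cons_succ, bot_sup_eq]
      rw [h0]
      ext x
      rw [Subgroup.mem_comap, Subgroup.mem_bot]
      constructor
      · intro hx
        obtain ⟨k, hk⟩ := hg ⟨x, (QuotientGroup.eq_one_iff x).mp hx⟩
        exact ⟨k, by simpa using congrArg Subtype.val hk⟩
      · rintro ⟨k, rfl⟩
        exact (QuotientGroup.eq_one_iff _).mpr (zpow_mem g.2 k)
    · obtain ⟨q, hq⟩ := hs j
      obtain ⟨g, rfl⟩ := hπ q
      refine ⟨g, ?_⟩
      simp only [Fin.cons_succ, ← Fin.succ_castSucc, hq]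
      have hm : Subgroup.zpowers (π g) = (Subgroup.zpowers g).map π := (MonoidHom.map_zpowers π g).symm
      rw [hm]
      conv_lhs => rw [← Subgroup.map_comap_eq_self_of_surjective hπ (H j.castSucc)]
      rw [← Subgroup.map_sup, Subgroup.comap_map_eq, sup_eq_left]
      exact le_sup_of_le_left (Subgroup.comap_mono bot_le |>.trans' (le_of_eq (MonoidHom.comap_bot π).symm))

theorem isSupersolvable_map {G G' : Type*} [Group G] [Group G'] (f : G →* G')
    (hf : Function.Surjective f) (h : Cfsg.IsSupersolvable G) : Cfsg.IsSupersolvable G' := by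
  obtain ⟨n, H, h0, hl, hn, hs⟩ := h
  refine ⟨n, fun i => (H i).map f, by simp [h0], ?_, fun i => (hn i).map f hf, fun i => ?_⟩
  · show (H (Fin.last n)).map f = ⊤
    rw [hl, Subgroup.map_top_of_surjective f hf]
  · obtain ⟨g, hg⟩ := hs i
    refine ⟨f g, ?_⟩
    show (H i.succ).map f = _
    rw [hg, Subgroup.map_sup, MonoidHom.map_zpowers]

theorem isSupersolvable_quotient {G : Type*} [Group G] (h : Cfsg.IsSupersolvable G)
    (N : Subgroup G) [N.Normal] : Cfsg.IsSupersolvable (G ⧸ N) :=
  isSupersolvable_map _ (QuotientGroup.mk'_surjective N) h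

/-- A nontrivial finite supersolvable group has a normal subgroup of prime order. -/
theorem exists_normal_card_prime {G : Type*} [Group G] [Finite G] [Nontrivial G]
    (h : Cfsg.IsSupersolvable G) :
    ∃ N : Subgroup G, N.Normal ∧ (Nat.card N).Prime := by
  obtain ⟨n, H, h0, hl, hn, hs⟩ := h
  obtain ⟨i, hi0, hi⟩ : ∃ i : Fin n, H i.castSucc = ⊥ ∧ H i.succ ≠ ⊥ := by
    by_contra hne
    push Not at hne
    have : ∀ i : Fin (n + 1), H i = ⊥ := fun i => Fin.induction h0 hne i
    exact top_ne_bot (hl.symm.trans (this _))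
  obtain ⟨g, hg⟩ := hs i
  rw [hi0, bot_sup_eq] at hg
  set Z := H i.succ
  have hZn : Z.Normal := hn _
  have hZc : IsCyclic Z := hg ▸ Subgroup.isCyclic_zpowers g
  obtain ⟨q, hq, hqd⟩ := Nat.exists_prime_and_dvd (n := Nat.card Z)
    (fun h1 => hi (Subgroup.card_eq_one.mp h1))
  have := Fact.mk hq
  obtain ⟨z, hz⟩ := exists_prime_orderOf_dvd_card' (G := Z) q hqd
  have hcard : Nat.card ((Subgroup.zpowers z).map Z.subtype) = q := by
    rw [Nat.card_congr ((Subgroup.zpowers z).equivMapOfInjective Z.subtype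
      Z.subtype_injective).toEquiv.symm, Nat.card_zpowers, hz]
  refine ⟨(Subgroup.zpowers z).map Z.subtype, ⟨fun x hx a => ?_⟩, hcard.symm ▸ hq⟩
  obtain ⟨y, hy, rfl⟩ := hx
  let w : Z := ⟨a * y * a⁻¹, hZn.conj_mem _ y.2 a⟩
  refine ⟨w, ?_, rfl⟩
  have hw : w ^ q = 1 := by
    have hy' : y ^ q = 1 := by
      obtain ⟨k, rfl⟩ := hy
      show (z ^ k) ^ q = 1
      rw [← zpow_natCast, ← zpow_mul, mul_comm, zpow_mul, zpow_natCast, ← hz, pow_orderOf_eq_one,
        one_zpow]
    apply Subtype.ext
    show (a * (y : G) * a⁻¹) ^ q = 1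
    rw [← MulAut.conj_apply, ← map_pow, ← Subgroup.coe_pow, hy', Subgroup.coe_one, map_one]
  by_cases hw1 : w = 1
  · rw [hw1]; exact one_mem _
  have hwo := orderOf_eq_prime hw hw1
  have heq : Subgroup.zpowers w = Subgroup.zpowers z := by
    classical
    have : Fintype Z := Fintype.ofFinite Z
    have hsub : ∀ u : Z, orderOf u = q →
        ((Subgroup.zpowers u : Subgroup Z) : Set Z).toFinset ⊆
          ({v : Z | v ^ q = 1} : Finset Z) := by
      intro u hu v hv
      rw [Set.mem_toFinset] at hv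
      obtain ⟨k, rfl⟩ := hv
      simp only [Finset.mem_filter, Finset.mem_univ, true_and]
      rw [← zpow_natCast, ← zpow_mul, mul_comm, zpow_mul, zpow_natCast, ← hu, pow_orderOf_eq_one,
        one_zpow]
    have hle := IsCyclic.card_pow_eq_one_le (α := Z) hq.pos
    have hfull : ∀ u : Z, orderOf u = q →
        ((Subgroup.zpowers u : Subgroup Z) : Set Z).toFinset = ({v : Z | v ^ q = 1} : Finset Z) := by
      intro u hu
      refine Finset.eq_of_subset_of_card_le (hsub u hu) (hle.trans ?_)
      rw [Set.toFinset_card, ← Nat.card_eq_fintype_card]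
      exact le_of_eq ((Nat.card_zpowers u).trans hu).symm
    exact SetLike.coe_injective (Set.toFinset_inj.mp ((hfull w hwo).trans (hfull z hz).symm))
  show w ∈ Subgroup.zpowers z
  exact heq ▸ Subgroup.mem_zpowers w

theorem card_quotient_lt {G : Type*} [Group G] [Finite G] {N : Subgroup G}
    (hN : (Nat.card N).Prime) : Nat.card (G ⧸ N) < Nat.card G := by
  rw [← Coprime.card_quotient_mul_card N]
  exact lt_mul_of_one_lt_right Nat.card_pos hN.one_lt

theorem isSupersolvable_of_injective {G : Type u} [Group G] [Finite G]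
    (h : Cfsg.IsSupersolvable G) {X : Type v} [Group X] (f : X →* G) (hf : Function.Injective f) :
    Cfsg.IsSupersolvable X := by
  obtain ⟨c, hc⟩ : ∃ c, Nat.card G = c := ⟨_, rfl⟩
  induction c using Nat.strongRecOn generalizing G X with
  | ind c ih =>
  cases subsingleton_or_nontrivial G with
  | inl hs =>
    have : Subsingleton X := hf.subsingleton
    exact isSupersolvable_of_subsingleton X
  | inr hn =>
  obtain ⟨N, hNn, hNp⟩ := exists_normal_card_prime h
  let g : X →* G ⧸ N := (QuotientGroup.mk' N).comp f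
  have hker : IsCyclic g.ker := by
    have := Fact.mk hNp
    have hcyc : IsCyclic N := isCyclic_of_prime_card rfl
    exact isCyclic_of_injective ((f.comp g.ker.subtype).codRestrict N
      fun x => (QuotientGroup.eq_one_iff (f x)).mp x.2)
      fun a b hab => Subtype.ext (hf (congrArg Subtype.val hab :))
  exact isSupersolvable_of_cyclic_normal g.ker hker
    (ih _ (hc ▸ card_quotient_lt hNp) (isSupersolvable_quotient h N) (QuotientGroup.kerLift g)
      (QuotientGroup.kerLift_injective g) rfl)

theorem isSupersolvable_subgroup {G : Type*} [Group G] [Finite G] (h : Cfsg.IsSupersolvable G)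
    (X : Subgroup G) : Cfsg.IsSupersolvable X :=
  isSupersolvable_of_injective h X.subtype X.subtype_injective

theorem isSupersolvable_prod {G : Type u} {H : Type v} [Group G] [Group H] [Finite G]
    (hG : Cfsg.IsSupersolvable G) (hH : Cfsg.IsSupersolvable H) :
    Cfsg.IsSupersolvable (G × H) := by
  obtain ⟨c, hc⟩ : ∃ c, Nat.card G = c := ⟨_, rfl⟩
  induction c using Nat.strongRecOn generalizing G with
  | ind c ih =>
  cases subsingleton_or_nontrivial G with
  | inl hs =>
    refine isSupersolvable_map (MonoidHom.prod (1 : H →* G) (MonoidHom.id H)) ?_ hH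
    exact fun y => ⟨y.2, Prod.ext (Subsingleton.elim _ _) rfl⟩
  | inr hn =>
  obtain ⟨N, hNn, hNp⟩ := exists_normal_card_prime hG
  let f : G × H →* (G ⧸ N) × H := (QuotientGroup.mk' N).prodMap (MonoidHom.id H)
  have hf : Function.Surjective f := fun y => by
    obtain ⟨a, ha⟩ := QuotientGroup.mk'_surjective N y.1
    exact ⟨(a, y.2), Prod.ext ha rfl⟩
  have := Fact.mk hNp
  have hcyc : IsCyclic N := isCyclic_of_prime_card rfl
  have hker : IsCyclic f.ker := by
    refine isCyclic_of_injective (((MonoidHom.fst G H).comp f.ker.subtype).codRestrict N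
      fun x => (QuotientGroup.eq_one_iff _).mp (congrArg Prod.fst x.2)) fun a b hab => ?_
    refine Subtype.ext (Prod.ext (congrArg Subtype.val hab :) ?_)
    exact (congrArg Prod.snd a.2).trans (congrArg Prod.snd b.2).symm
  refine isSupersolvable_of_cyclic_normal f.ker hker ?_
  exact isSupersolvable_map (QuotientGroup.quotientKerEquivOfSurjective f hf).symm.toMonoidHom
    (MulEquiv.surjective _) (ih _ (hc ▸ card_quotient_lt hNp) (isSupersolvable_quotient hG N) rfl)

theorem isSolvable_of_isSupersolvable {G : Type u} [Group G] [Finite G]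
    (h : Cfsg.IsSupersolvable G) : Group.IsSolvable G := by
  obtain ⟨c, hc⟩ : ∃ c, Nat.card G = c := ⟨_, rfl⟩
  induction c using Nat.strongRecOn generalizing G with
  | ind c ih =>
  cases subsingleton_or_nontrivial G with
  | inl hs => infer_instance
  | inr hn =>
  obtain ⟨N, hNn, hNp⟩ := exists_normal_card_prime h
  have := Fact.mk hNp
  have hcyc : IsCyclic N := isCyclic_of_prime_card rfl
  exact (Group.isSolvable_iff_subgroup_quotient N).mpr
    ⟨Group.isSolvable_of_comm fun a b => hcyc.isMulCommutative.is_comm.comm a b,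
      ih _ (hc ▸ card_quotient_lt hNp) (isSupersolvable_quotient h N) rfl⟩

/-- Every nontrivial normal subgroup contains a normal subgroup of prime order. -/
theorem exists_normal_card_prime_le {G : Type u} [Group G] [Finite G]
    (h : Cfsg.IsSupersolvable G) (M : Subgroup G) [M.Normal] (hM : M ≠ ⊥) :
    ∃ L : Subgroup G, L.Normal ∧ (Nat.card L).Prime ∧ L ≤ M := by
  obtain ⟨c, hc⟩ : ∃ c, Nat.card G = c := ⟨_, rfl⟩
  induction c using Nat.strongRecOn generalizing G with
  | ind c ih =>
  have : Nontrivial G := by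
    obtain ⟨x, -, hx⟩ := M.bot_or_exists_ne_one.resolve_left hM
    exact ⟨⟨x, 1, hx⟩⟩
  obtain ⟨N, hNn, hNp⟩ := exists_normal_card_prime h
  by_cases hle : N ≤ M
  · exact ⟨N, hNn, hNp, hle⟩
  have hbot : N ⊓ M = ⊥ := by
    rcases (Nat.dvd_prime hNp).mp (Subgroup.card_dvd_of_le (inf_le_left : N ⊓ M ≤ N)) with h1 | h1
    · exact Subgroup.card_eq_one.mp h1
    · exact absurd (inf_eq_left.mp (Coprime.eq_of_le_of_card_le inf_le_left h1.ge)) hle
  let π : G →* G ⧸ N := QuotientGroup.mk' N
  have hπ : Function.Surjective π := QuotientGroup.mk'_surjective N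
  have hinj : ∀ {x : G}, x ∈ M → π x = 1 → x = 1 := fun {x} hx h1 => by
    have : x ∈ N ⊓ M := Subgroup.mem_inf.mpr ⟨(QuotientGroup.eq_one_iff x).mp h1, hx⟩
    rwa [hbot, Subgroup.mem_bot] at this
  have hM' : M.map π ≠ ⊥ := fun h1 => hM (by
    rw [eq_bot_iff]
    intro x hx
    have := Subgroup.mem_map_of_mem π hx
    rw [h1, Subgroup.mem_bot] at this
    exact Subgroup.mem_bot.mpr (hinj hx this))
  have : (M.map π).Normal := Subgroup.Normal.map inferInstance π hπ
  obtain ⟨L', hL'n, hL'p, hL'M⟩ := ih _ (hc ▸ card_quotient_lt hNp) (isSupersolvable_quotient h N)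
    (M.map π) hM' rfl
  refine ⟨L'.comap π ⊓ M, inferInstance, ?_, inf_le_right⟩
  have : Nat.card (L'.comap π ⊓ M : Subgroup G) = Nat.card L' := by
    refine Nat.card_eq_of_bijective (fun x => (⟨π x, (Subgroup.mem_inf.mp x.2).1⟩ : L')) ⟨?_, ?_⟩
    · intro a b hab
      have h1 : π ((a : G) * (b : G)⁻¹) = 1 := by
        rw [map_mul, map_inv, show π a = π b from congrArg Subtype.val hab, mul_inv_cancel]
      exact Subtype.ext (mul_inv_eq_one.mp
        (hinj (mul_mem (Subgroup.mem_inf.mp a.2).2 (inv_mem (Subgroup.mem_inf.mp b.2).2)) h1))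
    · intro y
      obtain ⟨x, hx, hxy⟩ := hL'M y.2
      exact ⟨⟨x, Subgroup.mem_inf.mpr ⟨show π x ∈ L' from hxy ▸ y.2, hx⟩⟩, Subtype.ext hxy⟩
  rw [this]
  exact hL'p

theorem commutator_le_centralizer_of_isCyclic {G : Type*} [Group G] (N : Subgroup G) [N.Normal]
    (hN : IsCyclic N) : commutator G ≤ Subgroup.centralizer (N : Set G) := by
  obtain ⟨g, hg⟩ := hN.exists_generator
  rw [commutator_def]
  refine Subgroup.commutator_le.mpr fun a _ b _ => Subgroup.mem_centralizer_iff.mpr fun n hn => ?_
  have hpow : ∀ x : G, ∃ k : ℤ, ∀ n ∈ N, x * n * x⁻¹ = n ^ k := by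
    intro x
    obtain ⟨k, hk⟩ := hg ⟨x * g * x⁻¹, Subgroup.Normal.conj_mem ‹N.Normal› _ g.2 x⟩
    refine ⟨k, fun n hn => ?_⟩
    obtain ⟨j, hj⟩ := hg ⟨n, hn⟩
    have hj' : (g : G) ^ j = n := congrArg Subtype.val hj
    have hk' : (g : G) ^ k = x * g * x⁻¹ := congrArg Subtype.val hk
    rw [← hj', ← MulAut.conj_apply, map_zpow, MulAut.conj_apply, ← hk', ← zpow_mul, ← zpow_mul,
      mul_comm]
  obtain ⟨i, hi⟩ := hpow a
  obtain ⟨j, hj⟩ := hpow b
  have hba : b⁻¹ * n * b ∈ N := by simpa using Subgroup.Normal.conj_mem ‹N.Normal› n hn b⁻¹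
  have hm : a⁻¹ * (b⁻¹ * n * b) * a ∈ N := by
    simpa using Subgroup.Normal.conj_mem ‹N.Normal› _ hba a⁻¹
  have e1 : a * (b * (a⁻¹ * (b⁻¹ * n * b) * a) * b⁻¹) * a⁻¹ =
      b * (a * (a⁻¹ * (b⁻¹ * n * b) * a) * a⁻¹) * b⁻¹ := by
    rw [hj _ hm, hi _ (zpow_mem hm j), hi _ hm, hj _ (zpow_mem hm i), ← zpow_mul, ← zpow_mul,
      mul_comm]
  have e2 : ⁅a, b⁆ * n * ⁅a, b⁆⁻¹ = n := by
    calc ⁅a, b⁆ * n * ⁅a, b⁆⁻¹
        = a * (b * (a⁻¹ * (b⁻¹ * n * b) * a) * b⁻¹) * a⁻¹ := by
          rw [commutatorElement_def]; group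
      _ = n := by rw [e1]; group
  calc n * ⁅a, b⁆ = (⁅a, b⁆ * n * ⁅a, b⁆⁻¹) * ⁅a, b⁆ := by rw [e2]
    _ = ⁅a, b⁆ * n := by group

theorem isNilpotent_commutator {G : Type u} [Group G] [Finite G] (h : Cfsg.IsSupersolvable G) :
    Group.IsNilpotent (commutator G) := by
  obtain ⟨c, hc⟩ : ∃ c, Nat.card G = c := ⟨_, rfl⟩
  induction c using Nat.strongRecOn generalizing G with
  | ind c ih =>
  cases subsingleton_or_nontrivial G with
  | inl hs => infer_instance
  | inr hn =>
  obtain ⟨N, hNn, hNp⟩ := exists_normal_card_prime h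
  have := Fact.mk hNp
  have hC := commutator_le_centralizer_of_isCyclic N (isCyclic_of_prime_card rfl)
  let π : G →* G ⧸ N := QuotientGroup.mk' N
  let f : commutator G →* commutator (G ⧸ N) :=
    (π.comp (commutator G).subtype).codRestrict _ fun x => by
      have h1 : π (x : G) ∈ Subgroup.map π ⁅(⊤ : Subgroup G), (⊤ : Subgroup G)⁆ := Subgroup.mem_map_of_mem π x.2
      rw [Subgroup.map_commutator, Subgroup.map_top_of_surjective π
        (QuotientGroup.mk'_surjective N)] at h1
      exact h1
  have := ih _ (hc ▸ card_quotient_lt hNp) (isSupersolvable_quotient h N) rfl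
  refine Subgroup.isNilpotent_of_ker_le_center f fun x hx => Subgroup.mem_center_iff.mpr fun y => ?_
  have hxN : (x : G) ∈ N := (QuotientGroup.eq_one_iff _).mp (congrArg Subtype.val hx :)
  exact Subtype.ext (Subgroup.mem_centralizer_iff.mp (hC y.2) x hxN).symm

theorem prime_index_of_isCoatom {G : Type u} [Group G] [Finite G]
    (h : Cfsg.IsSupersolvable G) (M : Subgroup G) (hM : IsCoatom M) : M.index.Prime := by
  obtain ⟨c, hc⟩ : ∃ c, Nat.card G = c := ⟨_, rfl⟩
  induction c using Nat.strongRecOn generalizing G with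
  | ind c ih =>
  cases subsingleton_or_nontrivial G with
  | inl hs => exact absurd (Subsingleton.elim _ _) hM.1
  | inr hn =>
  obtain ⟨N, hNn, hNp⟩ := exists_normal_card_prime h
  by_cases hle : N ≤ M
  · let π : G →* G ⧸ N := QuotientGroup.mk' N
    have hπ : Function.Surjective π := QuotientGroup.mk'_surjective N
    have hker : π.ker ≤ M := by rw [QuotientGroup.ker_mk']; exact hle
    have hM' : IsCoatom (M.map π) := by
      refine ⟨fun h1 => hM.1 ?_, fun K hK => ?_⟩
      · rw [← Subgroup.comap_map_eq_self hker, h1, Subgroup.comap_top]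
      · have hlt' : M < K.comap π := by
          rw [← Subgroup.comap_map_eq_self hker]
          exact (Subgroup.comap_lt_comap_of_surjective hπ).mpr hK
        rw [← Subgroup.map_comap_eq_self_of_surjective hπ K, hM.2 _ hlt',
          Subgroup.map_top_of_surjective _ hπ]
    rw [← Subgroup.index_map_eq M hπ hker]
    exact ih _ (hc ▸ card_quotient_lt hNp) (isSupersolvable_quotient h N) (M.map π) hM' rfl
  · have htop : N ⊔ M = ⊤ :=
      hM.2 _ (lt_of_le_of_ne le_sup_right fun h1 => hle (le_sup_left.trans h1.ge))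
    have h1 := Coprime.card_sup_mul_card_inf (N := N) (H := M) Subgroup.le_normalizer_of_normal
    rw [htop, Subgroup.card_top, ← M.card_mul_index] at h1
    have h2 : M.index * Nat.card (N ⊓ M : Subgroup G) = Nat.card N := by
      apply Nat.eq_of_mul_eq_mul_left (Nat.card_pos (α := M))
      rw [← mul_assoc, h1, mul_comm]
    rcases (Nat.dvd_prime hNp).mp (h2 ▸ dvd_mul_right M.index _) with h3 | h3
    · exact absurd (Subgroup.index_eq_one.mp h3) hM.1
    · exact h3.symm ▸ hNp

theorem hasSubgroupOfEveryOrder {G : Type u} [Group G] [Finite G]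
    (h : Cfsg.IsSupersolvable G) : Cfsg.HasSubgroupOfEveryOrder G := by
  obtain ⟨c, hc⟩ : ∃ c, Nat.card G = c := ⟨_, rfl⟩
  induction c using Nat.strongRecOn generalizing G with
  | ind c ih =>
  cases subsingleton_or_nontrivial G with
  | inl hs =>
    intro d hd
    rw [Nat.card_of_subsingleton (1 : G), Nat.dvd_one] at hd
    exact ⟨⊥, by rw [hd, Subgroup.card_bot]⟩
  | inr hn =>
  obtain ⟨N, hNn, hNp⟩ := exists_normal_card_prime h
  intro d hd
  rw [← Coprime.card_quotient_mul_card N] at hd
  have hIH := ih _ (hc ▸ card_quotient_lt hNp) (isSupersolvable_quotient h N) rfl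
  by_cases hq : Nat.card N ∣ d
  · obtain ⟨e, rfl⟩ := hq
    rw [mul_comm (Nat.card N)] at hd
    obtain ⟨X, hX⟩ := hIH e (Nat.dvd_of_mul_dvd_mul_right Nat.card_pos hd)
    exact ⟨X.comap (QuotientGroup.mk' N), by rw [Coprime.card_comap_mk', hX]⟩
  · have hcop : (Nat.card N).Coprime d := hNp.coprime_iff_not_dvd.mpr hq
    obtain ⟨X, hX⟩ := hIH d (hcop.symm.dvd_of_dvd_mul_right hd)
    set L := X.comap (QuotientGroup.mk' N)
    have hLc : Nat.card L = Nat.card N * d := by rw [Coprime.card_comap_mk', hX]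
    have hNL : N ≤ L := fun x hx => by
      show QuotientGroup.mk' N x ∈ X
      rw [show QuotientGroup.mk' N x = 1 from (QuotientGroup.eq_one_iff x).mpr hx]
      exact one_mem _
    have : (N.subgroupOf L).Normal := Subgroup.normal_subgroupOf
    have hcN : Nat.card (N.subgroupOf L) = Nat.card N :=
      Nat.card_congr (Subgroup.subgroupOfEquivOfLe hNL).toEquiv
    have hiN : (N.subgroupOf L).index = d := by
      have := (N.subgroupOf L).card_mul_index
      rw [hcN, hLc] at this
      exact Nat.eq_of_mul_eq_mul_left Nat.card_pos this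
    obtain ⟨Y, hY⟩ := Subgroup.exists_right_complement'_of_coprime (N := N.subgroupOf L)
      (by rw [hcN, hiN]; exact hcop)
    exact ⟨Y.map L.subtype, by
      rw [Nat.card_congr (Y.equivMapOfInjective L.subtype L.subtype_injective).toEquiv.symm,
        ← hY.symm.index_eq_card, hiN]⟩

/-- The Sylow subgroup for the largest prime is normal. -/
theorem sylow_normal_of_max_prime {G : Type u} [Group G] [Finite G]
    (h : Cfsg.IsSupersolvable G) {p : ℕ} [hp : Fact p.Prime]
    (hmax : ∀ q : ℕ, q.Prime → q ∣ Nat.card G → q ≤ p) (P : Sylow p G) :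
    (P : Subgroup G).Normal := by
  obtain ⟨c, hc⟩ : ∃ c, Nat.card G = c := ⟨_, rfl⟩
  induction c using Nat.strongRecOn generalizing G with
  | ind c ih =>
  cases subsingleton_or_nontrivial G with
  | inl hs =>
    rw [Subsingleton.elim (P : Subgroup G) ⊥]
    infer_instance
  | inr hn =>
  obtain ⟨N, hNn, hNp⟩ := exists_normal_card_prime h
  let π : G →* G ⧸ N := QuotientGroup.mk' N
  have hπ : Function.Surjective π := QuotientGroup.mk'_surjective N
  let P' : Sylow p (G ⧸ N) := P.mapSurjective hπ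
  have hP'n : (P' : Subgroup (G ⧸ N)).Normal :=
    ih _ (hc ▸ card_quotient_lt hNp) (isSupersolvable_quotient h N)
      (fun q hq hd => hmax q hq (hd.trans (Subgroup.card_quotient_dvd_card N))) P' rfl
  set L := (P' : Subgroup (G ⧸ N)).comap π
  have hLn : L.Normal := hP'n.comap π
  have hLeq : L = (P : Subgroup G) ⊔ N := by
    show ((P.mapSurjective hπ : Sylow p (G ⧸ N)) : Subgroup (G ⧸ N)).comap π = _
    rw [Sylow.coe_mapSurjective, Subgroup.comap_map_eq, QuotientGroup.ker_mk']
  have hPL : (P : Subgroup G) ≤ L := hLeq ▸ le_sup_left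
  by_cases hq : Nat.card N = p
  · have hNP : N ≤ P := by
      obtain ⟨Q, hQ⟩ := (IsPGroup.of_card (n := 1) (by rw [hq, pow_one]) : IsPGroup p N).exists_le_sylow
      obtain ⟨g, hg⟩ := MulAction.exists_smul_eq G Q P
      intro x hx
      show x ∈ (P : Subgroup G)
      rw [← hg, Sylow.coe_subgroup_smul, Coprime.mem_conj_smul]
      exact hQ (by simpa using hNn.conj_mem x hx g⁻¹)
    rw [sup_eq_left.mpr hNP] at hLeq
    exact hLeq ▸ hLn
  · -- the Sylow subgroup is unique in `L`
    let PL : Sylow p L := P.subtype hPL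
    have hqle : Nat.card N < p := lt_of_le_of_ne
      (hmax _ hNp (Subgroup.card_subgroup_dvd_card N)) hq
    have hidx : (PL : Subgroup L).index ∣ Nat.card N := by
      have h1 := (PL : Subgroup L).card_mul_index
      have h2 : Nat.card (PL : Subgroup L) = Nat.card P :=
        Nat.card_congr (Subgroup.subgroupOfEquivOfLe hPL).toEquiv
      have h3 := Coprime.card_sup_mul_card_inf (N := N) (H := (P : Subgroup G))
        Subgroup.le_normalizer_of_normal
      rw [sup_comm, ← hLeq] at h3
      rw [h2] at h1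
      refine ⟨Nat.card (N ⊓ (P : Subgroup G) : Subgroup G), ?_⟩
      apply Nat.eq_of_mul_eq_mul_left (Nat.card_pos (α := P))
      rw [← mul_assoc, h1, h3, mul_comm]
    have hone : Nat.card (Sylow p L) = 1 := by
      have hle := Nat.le_of_dvd Nat.card_pos ((PL.card_dvd_index).trans hidx)
      have hmod := card_sylow_modEq_one p L
      rw [Nat.ModEq, Nat.mod_eq_of_lt (hle.trans_lt hqle), Nat.mod_eq_of_lt hp.out.one_lt] at hmod
      exact hmod
    have : Subsingleton (Sylow p L) := (Nat.card_eq_one_iff_unique.mp hone).1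
    have hchar : (PL : Subgroup L).Characteristic := Sylow.characteristic_of_subsingleton PL
    have : ((PL : Subgroup L).map L.subtype).Normal := inferInstance
    have heq : (PL : Subgroup L).map L.subtype = P := Subgroup.map_subgroupOf_eq_of_le hPL
    exact heq ▸ this

end Cfsg.Agent.Lib.Solvable
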