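import Mathlib
import Cfsg.Agent.S0564
import Cfsg.Agent.S0572
import Cfsg.Agent.Lib.Solvable.Primitive
import Cfsg.Agent.Lib.Solvable.Carter
import Cfsg.Agent.Lib.Cores.Fitting

/-!
Products of an abelian subgroup and a subgroup of class at most two: a nontrivial element of the
derived subgroup of the second factor has a metabelian normal closure.
-/

set_option autoImplicit false
set_option maxHeartbeats 1000000

open scoped commutatorElement
open Pointwise

universe u

namespace Cfsg.Agent.Lib.Solvable.AbelianClassTwo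

open Cfsg.Agent.Lib

variable {G : Type u} [Group G]

/-- A product of an abelian subgroup and a subgroup of class two is solvable. -/
theorem isSolvable [Finite G] (A B : Subgroup G) [IsMulCommutative A] (hB : ⁅⁅B, B⁆, B⁆ = ⊥)
    (hAB : ∀ g : G, ∃ a ∈ A, ∃ b ∈ B, g = a * b) : Group.IsSolvable G := by
  refine Cfsg.Agent.S0564.result A B (Cores.isNilpotent_of_isMulCommutative A)
    (Subgroup.isNilpotent_of_lowerCentralSeries_eq_bot (S := B) (n := 2) ?_) hAB
  simpa only [Subgroup.lowerCentralSeries_succ, Subgroup.lowerCentralSeries_zero] using hB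

theorem _root_.Cfsg.Agent.Lib.Coprime.card_mul_relIndex' {H K : Subgroup G} (h : H ≤ K) :
    Nat.card H * H.relIndex K = Nat.card K := by
  rw [← Subgroup.relIndex_bot_left, ← Subgroup.relIndex_bot_left,
    Subgroup.relIndex_mul_relIndex _ _ _ bot_le h]

theorem comm_of (A : Subgroup G) [IsMulCommutative A] {x y : G} (hx : x ∈ A) (hy : y ∈ A) :
    x * y = y * x :=
  congrArg Subtype.val (IsMulCommutative.is_comm.comm (⟨x, hx⟩ : A) ⟨y, hy⟩)

theorem isMulCommutative_subgroupOf (A H : Subgroup G) [IsMulCommutative A] :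
    IsMulCommutative (A.subgroupOf H) := by
  refine ⟨⟨fun x y => ?_⟩⟩
  apply Subtype.ext
  apply Subtype.ext
  simp only [Subgroup.coe_mul]
  exact comm_of A x.2 y.2

theorem fac_symm {A B : Subgroup G} (hAB : ∀ g : G, ∃ a ∈ A, ∃ b ∈ B, g = a * b) :
    ∀ g : G, ∃ b ∈ B, ∃ a ∈ A, g = b * a := by
  intro g
  obtain ⟨a, ha, b, hb, h⟩ := hAB g⁻¹
  exact ⟨b⁻¹, inv_mem hb, a⁻¹, inv_mem ha, by rw [← mul_inv_rev, ← h, inv_inv]⟩

/-- The primitive configuration that cannot occur. -/
theorem primitive_false [Finite G] {A B U : Subgroup G} [IsMulCommutative A]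
    (hcl : ⁅⁅B, B⁆, B⁆ = ⊥) (hAB : ∀ g : G, ∃ a ∈ A, ∃ b ∈ B, g = a * b)
    (hU : IsCoatom U) (hcore : U.normalCore = ⊥) (hAU : A ≤ U) (hne : ⁅B, B⁆ ≠ ⊥)
    (hdis : U ⊓ ⁅B, B⁆ = ⊥)
    (hgen : ∀ c ∈ ⁅B, B⁆, c ≠ 1 → A ⊔ Subgroup.zpowers c = ⊤) : False := by
  classical
  haveI := isSolvable A B hcl hAB
  haveI hBnil : Group.IsNilpotent B :=
    Subgroup.isNilpotent_of_lowerCentralSeries_eq_bot (S := B) (n := 2)
      (by simpa only [Subgroup.lowerCentralSeries_succ, Subgroup.lowerCentralSeries_zero] using hcl)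
  haveI : Nontrivial G := by
    by_contra h
    rw [not_nontrivial_iff_subsingleton] at h
    exact hne (Subsingleton.elim _ _)
  obtain ⟨p, V, hp, hVn, hV0, hVc, hVp, -⟩ := Carter.exists_minimal_normal (G := G)
  haveI := hVn
  haveI := Fact.mk hp
  obtain ⟨hCV, hcompl⟩ :=
    Primitive.isComplement'_of_abelian hU hcore hV0 (Carter.centralizer_elements hVc)
  have hBA := fac_symm hAB
  -- cosets of `U` are represented in `B`
  have hBU : ∀ g : G, ∃ b ∈ B, ∃ u ∈ U, g = b * u := fun g => by
    obtain ⟨b, hb, a, ha, h⟩ := hBA g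
    exact ⟨b, hb, a, hAU ha, h⟩
  -- central elements of `B` avoid `U`
  have hcent : ∀ z ∈ B, z ∈ U → (∀ b ∈ B, b * z = z * b) → z = 1 := by
    intro z _ hzU hzc
    have hz : z ∈ U.normalCore := by
      intro g
      obtain ⟨b, hb, u, hu, hg⟩ := hBU g⁻¹
      have e : g = u⁻¹ * b⁻¹ := by rw [← mul_inv_rev, ← hg, inv_inv]
      have e2 : b⁻¹ * z * b = z := by rw [mul_assoc, ← hzc b hb, inv_mul_cancel_left]
      have e3 : g * z * g⁻¹ = u⁻¹ * (b⁻¹ * z * b) * u := by rw [e]; group
      rw [e3, e2]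
      exact mul_mem (mul_mem (inv_mem hu) hzU) hu
    rwa [hcore, Subgroup.mem_bot] at hz
  -- the index of `U` is a power of `p`
  obtain ⟨d, hd⟩ := IsPGroup.iff_card.mp hVp
  have hidx : U.index = p ^ d := by
    rw [hcompl.index_eq_card, hd]
  -- `B` is a `p`-group
  have hBp : IsPGroup p B := by
    refine IsPGroup.of_card (n := (Nat.card B).primeFactorsList.length)
      (Nat.eq_prime_pow_of_unique_prime_dvd Nat.card_pos.ne' fun {q} hq hqB => ?_)
    · by_contra hqp
      haveI := Fact.mk hq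
      obtain ⟨z, hzB, hzo, hzc⟩ := KegelWielandt.exists_central_of_dvd hBnil hqB
      have hzU : z ∈ U := by
        set K := U ⊓ B with hK
        have hrel : K.relIndex B ∣ p ^ d := by
          rw [← hidx]
          have h1 : K.relIndex B = U.index := by
            rw [hK, Subgroup.inf_relIndex_right]
            have e1 : Nat.card ↥((U : Set G) * (B : Set G)) = Nat.card G := by
              have : (U : Set G) * (B : Set G) = Set.univ := Set.eq_univ_of_forall fun g => by
                obtain ⟨a, ha, b, hb, h⟩ := hAB g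
                exact ⟨a, hAU ha, b, hb, h.symm⟩
              rw [this]
              exact Nat.card_congr (Equiv.Set.univ G)
            have e2 := Products.card_mul_set_mul_card_inf U B
            rw [e1, ← U.card_mul_index, mul_assoc] at e2
            have e3 := Nat.eq_of_mul_eq_mul_left Nat.card_pos e2
            have e4 : Nat.card ↥(U ⊓ B) * U.relIndex B = Nat.card B := by
              rw [← Subgroup.inf_relIndex_right]
              exact (Coprime.card_mul_relIndex' inf_le_right)
            rw [← e4, mul_comm U.index] at e3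
            exact (Nat.eq_of_mul_eq_mul_left Nat.card_pos e3).symm
          exact h1.dvd
        have hzn : K ≤ Subgroup.normalizer (Subgroup.zpowers z : Set G) := fun k hk => by
          refine Subgroup.mem_normalizer_iff_map_conj_eq.mpr ?_
          rw [MonoidHom.map_zpowers]
          congr 1
          show k * z * k⁻¹ = z
          rw [hzc k hk.2, mul_inv_cancel_right]
        have hle : K ⊔ Subgroup.zpowers z ≤ B := sup_le inf_le_right (by simpa using hzB)
        have h1 : K.relIndex (K ⊔ Subgroup.zpowers z) ∣ p ^ d :=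
          (Dvd.intro _ (Subgroup.relIndex_mul_relIndex K _ B le_sup_left hle)).trans hrel
        have h2 : K.relIndex (K ⊔ Subgroup.zpowers z) ∣ q := by
          have e1 := Coprime.card_sup_mul_card_inf (N := Subgroup.zpowers z) (H := K) hzn
          rw [Nat.card_zpowers, hzo, sup_comm,
            ← Coprime.card_mul_relIndex' (le_sup_left : K ≤ K ⊔ Subgroup.zpowers z),
            mul_assoc, mul_comm q] at e1
          exact Dvd.intro _ (Nat.eq_of_mul_eq_mul_left Nat.card_pos e1)
        have h3 : K.relIndex (K ⊔ Subgroup.zpowers z) = 1 :=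
          Nat.eq_one_of_dvd_coprimes
            (Nat.Coprime.pow_left d ((Nat.coprime_primes hp hq).mpr (Ne.symm hqp))) h1 h2
        exact ((Subgroup.relIndex_eq_one.mp h3) (Subgroup.mem_sup_right (Subgroup.mem_zpowers z))).1
      have := hcent z hzB hzU hzc
      rw [this, orderOf_one] at hzo
      exact hq.ne_one hzo.symm
  -- the Fitting subgroup of `U` lies in `A`
  have hVL : V ≤ Cfsg.pCore p G := Cores.le_pCore hVn hVp
  have hL : Cfsg.pCore p G ≠ ⊥ := fun e => hV0 (le_bot_iff.mp (e ▸ hVL))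
  obtain ⟨-, -, -, -, hkey⟩ := Primitive.pCore_structure p hL hU hcore
  have hcoreU : Cfsg.pCore p ↥U = ⊥ := by
    by_contra h
    exact (hkey p h).2 rfl
  haveI := Cores.fittingSubgroup_isNilpotent ↥U
  have hFp : ¬ p ∣ Nat.card (Cfsg.fittingSubgroup ↥U) := by
    intro hdvd
    set F := Cfsg.fittingSubgroup ↥U
    let S : Sylow p F := default
    have hS : (S : Subgroup F).Normal := inferInstance
    have h1 : (S : Subgroup F) ≤ Cfsg.pCore p F := Cores.le_pCore hS S.isPGroup'
    have h2 : Cfsg.pCore p F = ⊥ := by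
      have := Cores.pCore_fittingSubgroup (G := ↥U) p
      rwa [hcoreU, Subgroup.map_eq_bot_iff_of_injective _ (Subgroup.subtype_injective _)] at this
    exact Sylow.ne_bot_of_dvd_card S hdvd (le_bot_iff.mp (h2 ▸ h1))
  set A₀ := A.subgroupOf U with hA₀
  haveI hA₀c : IsMulCommutative A₀ := isMulCommutative_subgroupOf A U
  have hAidx : ∃ k, A.index ∣ p ^ k := by
    obtain ⟨k, hk⟩ := IsPGroup.iff_card.mp hBp
    refine ⟨k, ?_⟩
    have e1 : Nat.card ↥((A : Set G) * (B : Set G)) = Nat.card G := by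
      have : (A : Set G) * (B : Set G) = Set.univ := Set.eq_univ_of_forall fun g => by
        obtain ⟨a, ha, b, hb, h⟩ := hAB g
        exact ⟨a, ha, b, hb, h.symm⟩
      rw [this]
      exact Nat.card_congr (Equiv.Set.univ G)
    have e2 := Products.card_mul_set_mul_card_inf A B
    rw [e1, ← A.card_mul_index, mul_assoc] at e2
    rw [← hk, ← Nat.eq_of_mul_eq_mul_left Nat.card_pos e2]
    exact Dvd.intro _ rfl
  obtain ⟨k, hAidx⟩ := hAidx
  have hFA : Cfsg.fittingSubgroup ↥U ≤ A₀ := by
    set F := Cfsg.fittingSubgroup ↥U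
    have e1 := Coprime.card_sup_mul_card_inf (N := F) (H := A₀)
      (by rw [Subgroup.normalizer_eq_top]; exact le_top)
    rw [sup_comm, ← Coprime.card_mul_relIndex' (le_sup_left : A₀ ≤ A₀ ⊔ F), mul_assoc,
      mul_comm (Nat.card F)] at e1
    have h2 : A₀.relIndex (A₀ ⊔ F) ∣ Nat.card F :=
      Dvd.intro _ (Nat.eq_of_mul_eq_mul_left Nat.card_pos e1)
    have h1 : A₀.relIndex (A₀ ⊔ F) ∣ p ^ k := by
      refine (Subgroup.relIndex_dvd_index_of_le le_sup_left).trans ?_
      refine dvd_trans ?_ hAidx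
      show A.relIndex U ∣ A.index
      exact Subgroup.relIndex_dvd_index_of_le hAU
    have h3 : A₀.relIndex (A₀ ⊔ F) = 1 := Nat.eq_one_of_dvd_coprimes
      (Nat.Coprime.pow_left k (hp.coprime_iff_not_dvd.mpr hFp)) h1 h2
    exact le_sup_right.trans (Subgroup.relIndex_eq_one.mp h3)
  have hAF : A₀ = Cfsg.fittingSubgroup ↥U := by
    refine le_antisymm (le_trans ?_ (Cores.centralizer_fittingSubgroup_le inferInstance)) hFA
    intro x hx
    exact Subgroup.mem_centralizer_iff.mpr fun y hy =>
      congrArg Subtype.val (IsMulCommutative.is_comm.comm (⟨y, hFA hy⟩ : A₀) ⟨x, hx⟩)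
  have hUA : U ≤ Subgroup.normalizer (A : Set G) := by
    have h1 : A₀.Normal := hAF ▸ inferInstance
    exact (Subgroup.normal_subgroupOf_iff_le_normalizer hAU).mp h1
  -- the subgroup `V ⊔ A` is normal and contains all commutators
  set M := V ⊔ A with hM
  haveI hMn : M.Normal := by
    refine Primitive.normal_of_sup_eq_top (Primitive.sup_eq_top hU hcore hV0)
      ((le_sup_left : V ≤ M).trans Subgroup.le_normalizer) ?_
    exact Coprime.le_normalizer_sup (by rw [Subgroup.normalizer_eq_top]; exact le_top) hUA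
  have hMA : A ≤ M := le_sup_right
  have hMV : V ≤ M := le_sup_left
  have hcom : ⁅(⊤ : Subgroup G), ⊤⁆ ≤ M := by
    rw [← commutator_def, ← Subgroup.Normal.quotient_commutative_iff_commutator_le]
    let π : G →* G ⧸ M := QuotientGroup.mk' M
    have hk : ∀ g : G, ∃ u ∈ B ⊓ U, π g = π u := by
      intro g
      have hg : g ∈ V ⊔ U := by rw [Primitive.sup_eq_top hU hcore hV0]; trivial
      obtain ⟨v, hv, w, hw, rfl⟩ := Subgroup.mem_sup_of_normal_left.mp hg
      obtain ⟨a, ha, b, hb, hab⟩ := hAB w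
      have hbU : b ∈ U := by
        have := mul_mem (inv_mem (hAU ha)) hw
        rwa [hab, inv_mul_cancel_left] at this
      refine ⟨b, ⟨hb, hbU⟩, ?_⟩
      rw [map_mul, hab, map_mul, show π v = 1 from (QuotientGroup.eq_one_iff _).mpr (hMV hv),
        show π a = 1 from (QuotientGroup.eq_one_iff _).mpr (hMA ha), one_mul, one_mul]
    refine ⟨⟨fun x y => ?_⟩⟩
    obtain ⟨g, rfl⟩ := QuotientGroup.mk'_surjective M x
    obtain ⟨h, rfl⟩ := QuotientGroup.mk'_surjective M y
    obtain ⟨u, hu, eu⟩ := hk g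
    obtain ⟨w, hw, ew⟩ := hk h
    show π g * π h = π h * π g
    rw [eu, ew]
    have h1 : ⁅u, w⁆ ∈ U ⊓ ⁅B, B⁆ := by
      refine ⟨?_, Subgroup.commutator_mem_commutator hu.1 hw.1⟩
      exact Subgroup.mul_mem U (Subgroup.mul_mem U (Subgroup.mul_mem U hu.2 hw.2) (inv_mem hu.2))
        (inv_mem hw.2)
    rw [hdis, Subgroup.mem_bot, commutatorElement_eq_one_iff_commute] at h1
    exact (h1.map π).eq
  have hMtop : M = ⊤ := by
    obtain ⟨⟨c, hc⟩, hx⟩ := Subgroup.ne_bot_iff_exists_ne_one.mp hne
    have hc1 : c ≠ 1 := fun e => hx (Subtype.ext e)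
    refine top_le_iff.mp ((hgen c hc hc1).ge.trans (sup_le hMA ?_))
    rw [Subgroup.zpowers_le]
    exact hcom (Subgroup.commutator_mono le_top le_top hc)
  -- so `V` contains `B`
  have hBV : B ≤ V := by
    intro b hb
    obtain ⟨j, hj⟩ := hBp ⟨b, hb⟩
    have hj' : b ^ p ^ j = 1 := congrArg Subtype.val hj
    let π : G →* G ⧸ V := QuotientGroup.mk' V
    have hπ : π b ∈ A.map π := by
      have hb' : b ∈ V ⊔ A := by rw [← hM, hMtop]; trivial
      obtain ⟨v, hv, a, ha, rfl⟩ := Subgroup.mem_sup_of_normal_left.mp hb'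
      exact ⟨a, ha, by rw [map_mul, show π v = 1 from (QuotientGroup.eq_one_iff _).mpr hv, one_mul]⟩
    have h1 : orderOf (π b) ∣ p ^ j := orderOf_dvd_of_pow_eq_one (by rw [← map_pow, hj', map_one])
    have h2 : orderOf (π b) ∣ Nat.card A := (Subgroup.orderOf_dvd_natCard _ hπ).trans (A.card_map_dvd π)
    have hAp : ¬ p ∣ Nat.card A := by
      rw [← Nat.card_congr (Subgroup.subgroupOfEquivOfLe hAU).toEquiv, ← hA₀, hAF]
      exact hFp
    have h3 := Nat.eq_one_of_dvd_coprimes
      (Nat.Coprime.pow_left j (hp.coprime_iff_not_dvd.mpr hAp)) h1 h2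
    exact (QuotientGroup.eq_one_iff _).mp (orderOf_eq_one_iff.mp h3)
  exact hne (Subgroup.commutator_eq_bot_iff_le_centralizer.mpr
    (hBV.trans ((Carter.centralizer_elements hVc).trans (Subgroup.centralizer_le hBV))))

theorem exists_closure_aux : ∀ (n : ℕ) (G : Type u) [Group G] [Finite G], Nat.card G = n →
    ∀ (A B : Subgroup G) [IsMulCommutative A], ⁅⁅B, B⁆, B⁆ = ⊥ →
    (∀ g : G, ∃ a ∈ A, ∃ b ∈ B, g = a * b) → ⁅B, B⁆ ≠ ⊥ →
    ∃ c ∈ ⁅B, B⁆, c ≠ 1 ∧
      ⁅⁅Subgroup.normalClosure {c}, Subgroup.normalClosure {c}⁆,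
        ⁅Subgroup.normalClosure {c}, Subgroup.normalClosure {c}⁆⁆ = ⊥ := by
  intro n
  induction n using Nat.strong_induction_on with
  | _ n ih =>
  intro G _ _ hn A B _ hcl hAB hne
  classical
  by_cases hex : ∃ c ∈ ⁅B, B⁆, c ≠ 1 ∧ A ⊔ Subgroup.zpowers c ≠ ⊤
  · obtain ⟨c, hc, hc1, hH⟩ := hex
    set H := A ⊔ Subgroup.zpowers c with hHdef
    have hAH : A ≤ H := le_sup_left
    have hcH : c ∈ H := Subgroup.mem_sup_right (Subgroup.mem_zpowers c)
    have hcomm : ∀ x ∈ ⁅B, B⁆, ∀ b ∈ B, b * x = x * b := fun x hx b hb =>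
      Subgroup.mem_centralizer_iff.mp (Subgroup.commutator_eq_bot_iff_le_centralizer.mp hcl hx) b hb
    -- normal closures of elements of `⁅B, B⁆` only need conjugation by `A`
    have hclos : ∀ x ∈ ⁅B, B⁆, ∀ L : Subgroup G, (∀ a ∈ A, a * x * a⁻¹ ∈ L) →
        Subgroup.normalClosure {x} ≤ L := by
      intro x hx L hL
      refine (Subgroup.closure_le _).mpr fun y hy => ?_
      obtain ⟨x', hx', hxy⟩ := Group.mem_conjugatesOfSet_iff.mp hy
      obtain rfl : x' = x := hx'
      obtain ⟨g, rfl⟩ := isConj_iff.mp hxy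
      obtain ⟨a, ha, b, hb, rfl⟩ := hAB g
      have e : a * b * x' * (a * b)⁻¹ = a * (b * x' * b⁻¹) * a⁻¹ := by group
      rw [e, hcomm x' hx b hb, mul_inv_cancel_right]
      exact hL a ha
    have hfac : ∀ g : ↥H, ∃ a ∈ A.subgroupOf H, ∃ b ∈ B.subgroupOf H, g = a * b := by
      intro g
      obtain ⟨a, ha, b, hb, h⟩ := hAB g
      have hbH : b ∈ H := by
        have := mul_mem (inv_mem (hAH ha)) g.2
        rwa [h, inv_mul_cancel_left] at this
      exact ⟨⟨a, hAH ha⟩, ha, ⟨b, hbH⟩, hb, Subtype.ext h⟩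
    haveI := isMulCommutative_subgroupOf A H
    have hmapB : (B.subgroupOf H).map H.subtype ≤ B := by
      rintro _ ⟨x, hx, rfl⟩
      exact hx
    by_cases hBH : ⁅B.subgroupOf H, B.subgroupOf H⁆ = ⊥
    · haveI : IsMulCommutative (B.subgroupOf H) := Subgroup.le_centralizer_iff_isMulCommutative.mp
        (Subgroup.commutator_eq_bot_iff_le_centralizer.mp hBH)
      refine ⟨c, hc, hc1, le_bot_iff.mp ?_⟩
      have hle : Subgroup.normalClosure {c} ≤ H := hclos c hc H fun a ha =>
        mul_mem (mul_mem (hAH ha) hcH) (inv_mem (hAH ha))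
      refine (Subgroup.commutator_mono (Subgroup.commutator_mono hle hle)
        (Subgroup.commutator_mono hle hle)).trans ?_
      have h1 := congrArg (Subgroup.map H.subtype)
        (Cfsg.Agent.S0572.result (A.subgroupOf H) (B.subgroupOf H) hfac)
      simp only [derivedSeries_succ, derivedSeries_zero, Subgroup.map_commutator, ← MonoidHom.range_eq_map,
        Subgroup.range_subtype, Subgroup.map_bot] at h1
      exact h1.le
    · have hcl' : ⁅⁅B.subgroupOf H, B.subgroupOf H⁆, B.subgroupOf H⁆ = ⊥ := by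
        refine (Subgroup.map_eq_bot_iff_of_injective _ H.subtype_injective).mp (le_bot_iff.mp ?_)
        rw [Subgroup.map_commutator, Subgroup.map_commutator]
        exact (Subgroup.commutator_mono (Subgroup.commutator_mono hmapB hmapB) hmapB).trans hcl.le
      obtain ⟨c', hc', hc'1, hK⟩ :=
        ih _ (hn ▸ Carter.card_lt_of_ne_top hH) ↥H rfl (A.subgroupOf H) (B.subgroupOf H) hcl' hfac hBH
      have hc'B : (c' : G) ∈ ⁅B, B⁆ := by
        have h1 := Subgroup.mem_map_of_mem H.subtype hc'
        rw [Subgroup.map_commutator] at h1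
        exact Subgroup.commutator_mono hmapB hmapB h1
      refine ⟨(c' : G), hc'B, fun e => hc'1 (Subtype.ext e), le_bot_iff.mp ?_⟩
      have hle : Subgroup.normalClosure {(c' : G)} ≤ (Subgroup.normalClosure {c'}).map H.subtype :=
        hclos _ hc'B _ fun a ha => by
          refine Subgroup.mem_map.mpr ⟨(⟨a, hAH ha⟩ : ↥H) * c' * (⟨a, hAH ha⟩ : ↥H)⁻¹, ?_, ?_⟩
          · exact (Subgroup.normalClosure_normal (s := ({c'} : Set ↥H))).conj_mem _
              (Subgroup.subset_normalClosure (Set.mem_singleton c')) _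
          · simp
      refine (Subgroup.commutator_mono (Subgroup.commutator_mono hle hle)
        (Subgroup.commutator_mono hle hle)).trans ?_
      have h := congrArg (Subgroup.map H.subtype) hK
      simp only [Subgroup.map_commutator, Subgroup.map_bot] at h
      exact h.le
  · exfalso
    push Not at hex
    have hAtop : A ≠ ⊤ := fun e => hne (Subgroup.commutator_eq_bot_iff_le_centralizer.mpr
      ((le_top.trans e.ge).trans ((Carter.centralizer_elements ‹IsMulCommutative A›).trans
        (Subgroup.centralizer_le (le_top.trans e.ge)))))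
    obtain ⟨H, hH, hAH⟩ := (eq_top_or_exists_le_coatom A).resolve_left hAtop
    have hdis : ∀ c ∈ ⁅B, B⁆, c ∈ H → c = 1 := fun c hc hcH => by
      by_contra hc1
      exact hH.1 (top_le_iff.mp ((hex c hc hc1).ge.trans (sup_le hAH (by simpa using hcH))))
    set π := QuotientGroup.mk' H.normalCore with hπ
    have hsurj := QuotientGroup.mk'_surjective H.normalCore
    have hker : π.ker ≤ H := by
      rw [QuotientGroup.ker_mk']
      exact H.normalCore_le
    have hcomap : (H.map π).comap π = H := Subgroup.comap_map_eq_self hker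
    haveI : IsMulCommutative (A.map π) := by
      refine ⟨⟨?_⟩⟩
      rintro ⟨_, a, ha, rfl⟩ ⟨_, a', ha', rfl⟩
      exact Subtype.ext ((show Commute a a' from congrArg Subtype.val
        (IsMulCommutative.is_comm.comm (⟨a, ha⟩ : A) ⟨a', ha'⟩)).map π).eq
    refine primitive_false (A := A.map π) (B := B.map π) (U := H.map π) ?_ ?_ ?_ ?_
      (Subgroup.map_mono hAH) ?_ ?_ ?_
    · rw [← Subgroup.map_commutator, ← Subgroup.map_commutator, hcl, Subgroup.map_bot]
    · intro q
      obtain ⟨g, rfl⟩ := hsurj q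
      obtain ⟨a, ha, b, hb, rfl⟩ := hAB g
      exact ⟨π a, Subgroup.mem_map_of_mem π ha, π b, Subgroup.mem_map_of_mem π hb, map_mul π a b⟩
    · refine ⟨fun e => hH.1 (by rw [← hcomap, e, Subgroup.comap_top]), fun X hX => ?_⟩
      have h1 : H < X.comap π := by
        exact hcomap.ge.trans_lt ((Subgroup.comap_lt_comap_of_surjective hsurj).mpr hX)
      rw [← Subgroup.map_comap_eq_self_of_surjective hsurj X, hH.2 _ h1,
        Subgroup.map_top_of_surjective π hsurj]
    · have h1 : (H.map π).normalCore.comap π ≤ H.normalCore := by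
        refine Subgroup.normal_le_normalCore.mpr ?_
        exact (Subgroup.comap_mono (Subgroup.normalCore_le _)).trans hcomap.le
      refine le_bot_iff.mp fun x hx => ?_
      obtain ⟨g, rfl⟩ := hsurj x
      exact (QuotientGroup.eq_one_iff g).mpr (h1 hx)
    · rw [← Subgroup.map_commutator, Ne, Subgroup.map_eq_bot_iff]
      intro h
      exact hne ((Subgroup.eq_bot_iff_forall _).mpr fun c hc => hdis c hc (hker (h hc)))
    · rw [← Subgroup.map_commutator, Subgroup.eq_bot_iff_forall]
      rintro x ⟨hxH, c, hc, rfl⟩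
      have : c ∈ (H.map π).comap π := hxH
      rw [hcomap] at this
      rw [hdis c hc this, map_one]
    · intro x hx hx1
      rw [← Subgroup.map_commutator] at hx
      obtain ⟨c, hc, rfl⟩ := hx
      rw [← MonoidHom.map_zpowers, ← Subgroup.map_sup, hex c hc (fun e => hx1 (by rw [e, map_one])),
        Subgroup.map_top_of_surjective π hsurj]

theorem derived_length_aux : ∀ (n : ℕ) (G : Type u) [Group G] [Finite G], Nat.card G = n →
    ∀ (A B : Subgroup G) [IsMulCommutative A], ⁅⁅B, B⁆, B⁆ = ⊥ →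
    (∀ g : G, ∃ a ∈ A, ∃ b ∈ B, g = a * b) →
    derivedSeries G (2 * (1 + ArithmeticFunction.cardFactors (Nat.card ↥⁅B, B⁆))) = ⊥ := by
  intro n
  induction n using Nat.strong_induction_on with
  | _ n ih =>
  intro G _ _ hn A B _ hcl hAB
  classical
  by_cases hne : ⁅B, B⁆ = ⊥
  · haveI : IsMulCommutative B := Subgroup.le_centralizer_iff_isMulCommutative.mp
      (Subgroup.commutator_eq_bot_iff_le_centralizer.mp hne)
    exact le_bot_iff.mp ((derivedSeries_antitone G (show 2 ≤ _ by omega)).trans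
      (Cfsg.Agent.S0572.result A B hAB).le)
  obtain ⟨c, hc, hc1, hN⟩ := exists_closure_aux _ G rfl A B hcl hAB hne
  set N := Subgroup.normalClosure ({c} : Set G) with hNdef
  have hcN : c ∈ N := Subgroup.subset_normalClosure rfl
  have hN0 : N ≠ ⊥ := fun e => hc1 (by rwa [e, Subgroup.mem_bot] at hcN)
  set π := QuotientGroup.mk' N with hπ
  have hsurj := QuotientGroup.mk'_surjective N
  haveI : IsMulCommutative (A.map π) := by
    refine ⟨⟨?_⟩⟩
    rintro ⟨_, a, ha, rfl⟩ ⟨_, a', ha', rfl⟩
    exact Subtype.ext ((show Commute a a' from congrArg Subtype.val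
      (IsMulCommutative.is_comm.comm (⟨a, ha⟩ : A) ⟨a', ha'⟩)).map π).eq
  have h := ih _ (hn ▸ Carter.card_quotient_lt hN0) (G ⧸ N) rfl (A.map π) (B.map π)
    (by rw [← Subgroup.map_commutator, ← Subgroup.map_commutator, hcl, Subgroup.map_bot])
    (fun q => by
      obtain ⟨g, rfl⟩ := hsurj q
      obtain ⟨a, ha, b, hb, rfl⟩ := hAB g
      exact ⟨π a, Subgroup.mem_map_of_mem π ha, π b, Subgroup.mem_map_of_mem π hb, map_mul π a b⟩)
  have hlt : ArithmeticFunction.cardFactors (Nat.card ↥⁅B.map π, B.map π⁆) + 1 ≤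
      ArithmeticFunction.cardFactors (Nat.card ↥⁅B, B⁆) := by
    have h1 := Cores.card_map_mul_card_inf_ker π ⁅B, B⁆
    rw [Subgroup.map_commutator, QuotientGroup.ker_mk'] at h1
    rw [← h1, ArithmeticFunction.cardFactors_mul Nat.card_pos.ne' Nat.card_pos.ne']
    have h2 : 1 < Nat.card ↥(⁅B, B⁆ ⊓ N) := Subgroup.one_lt_card_iff_ne_bot _ |>.mpr fun e => hc1 (by
      have : c ∈ ⁅B, B⁆ ⊓ N := ⟨hc, hcN⟩
      rwa [e, Subgroup.mem_bot] at this)
    have h3 : 0 < ArithmeticFunction.cardFactors (Nat.card ↥(⁅B, B⁆ ⊓ N)) :=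
      ArithmeticFunction.cardFactors_pos_iff_one_lt.mpr h2
    omega
  set k := 2 * (1 + ArithmeticFunction.cardFactors (Nat.card ↥⁅B.map π, B.map π⁆))
  have hkN : derivedSeries G k ≤ N := by
    have h1 := map_derivedSeries_eq hsurj k
    rw [h, Subgroup.map_eq_bot_iff, QuotientGroup.ker_mk'] at h1
    exact h1
  have h2 : derivedSeries G (k + 2) = ⊥ := le_bot_iff.mp (by
    rw [derivedSeries_succ, derivedSeries_succ]
    exact (Subgroup.commutator_mono (Subgroup.commutator_mono hkN hkN)
      (Subgroup.commutator_mono hkN hkN)).trans hN.le)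
  exact le_bot_iff.mp ((derivedSeries_antitone G (by omega)).trans h2.le)

end Cfsg.Agent.Lib.Solvable.AbelianClassTwo
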