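import Cfsg.Agent.Lib.Frobenius.Zassenhaus.QuaternionAut
import Cfsg.Agent.S3742
import Mathlib.GroupTheory.SemidirectProduct
import Mathlib.LinearAlgebra.Matrix.GeneralLinearGroup.Card
import Mathlib.Algebra.Field.ZMod
import Mathlib.Data.Fintype.Perm
import Mathlib.Data.Fintype.Pi
import Mathlib.Tactic.Group

/-!
A group of order 48 with a self-centralizing normal quaternion group of order 8 and an involution
outside it is isomorphic to `GL(2, 3)`.
-/

set_option autoImplicit false

namespace Cfsg.Agent.Lib.Solvable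

open Cfsg.Agent.Lib.Frobenius.Zassenhaus (chi chi_injective)

abbrev Q8 := QuaternionGroup 2

theorem card_aut : Nat.card (MulAut Q8) = 24 := by
  obtain ⟨e⟩ := Cfsg.Agent.S3742.result
  rw [Nat.card_congr e.toEquiv, Nat.card_perm, Nat.card_fin]
  rfl

theorem chi_bijective : Function.Bijective chi :=
  (Nat.bijective_iff_injective_and_card chi).mpr
    ⟨chi_injective, by rw [card_aut, Nat.card_perm, Nat.card_fin]; rfl⟩

/-- the isomorphism `Aut Q₈ ≅ S₄` -/
noncomputable def chiE : MulAut Q8 ≃* Equiv.Perm (Fin 4) :=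
  MulEquiv.ofBijective chi chi_bijective

abbrev a0 : Equiv.Perm (Fin 4) := Equiv.swap 0 1 * Equiv.swap 1 2

abbrev b0 : Equiv.Perm (Fin 4) := Equiv.swap 0 1

set_option synthInstance.maxSize 2000 in
theorem std_conj : ∀ a b : Equiv.Perm (Fin 4), a * a * a = 1 → a ≠ 1 → b * b = 1 → b ≠ 1 →
    b * a * b = a * a → ∃ t, t * a * t⁻¹ = a0 ∧ t * b * t⁻¹ = b0 := by decide +kernel

set_option synthInstance.maxSize 2000 in
theorem invol_cases : ∀ v : Equiv.Perm (Fin 4), v * v = 1 → v ≠ 1 →
    (∀ t, t * v * t⁻¹ * v = v * (t * v * t⁻¹)) → ∀ b : Equiv.Perm (Fin 4), b * b = 1 → b ≠ 1 →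
      (∃ a, a * a * a = 1 ∧ a ≠ 1 ∧ b * a * b = a * a) ∨ ∃ t, b = t * v * t⁻¹ := by
  decide +kernel

theorem conj_conj_comm : ∀ p q x : Q8,
    p * (q * x * q⁻¹) * p⁻¹ = q * (p * x * p⁻¹) * q⁻¹ := by decide +kernel

theorem conj_comm (p q : Q8) :
    MulAut.conj p * MulAut.conj q = MulAut.conj q * MulAut.conj p :=
  MulEquiv.ext fun x => conj_conj_comm p q x

theorem conj_map (τ : MulAut Q8) (p : Q8) : τ * MulAut.conj p * τ⁻¹ = MulAut.conj (τ p) := by
  apply MulEquiv.ext
  intro x
  simp [MulAut.mul_apply, MulAut.conj_apply]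

/-- An involutory automorphism of `Q₈` is inner or inverts an automorphism of order 3. -/
theorem aut_invol_cases (σ : MulAut Q8) (hσ : σ * σ = 1) (hσ1 : σ ≠ 1) :
    (∃ π : MulAut Q8, π * π * π = 1 ∧ π ≠ 1 ∧ σ * π * σ = π * π) ∨ ∃ r, σ = MulAut.conj r := by
  set v := chiE (MulAut.conj (QuaternionGroup.a 1)) with hv
  have hv1 : v ≠ 1 := by
    rw [hv, ne_eq, MulEquiv.map_eq_one_iff]
    intro h
    have := DFunLike.congr_fun h (QuaternionGroup.xa 0)
    revert this
    decide +kernel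
  have hvv : v * v = 1 := by
    rw [hv, ← map_mul, ← map_mul, MulEquiv.map_eq_one_iff]
    apply MulEquiv.ext
    intro x
    have : ∀ x : Q8, (QuaternionGroup.a 1 * QuaternionGroup.a 1) * x *
        (QuaternionGroup.a 1 * QuaternionGroup.a 1)⁻¹ = x := by decide +kernel
    exact this x
  have hvc : ∀ t, t * v * t⁻¹ * v = v * (t * v * t⁻¹) := fun t => by
    obtain ⟨τ, rfl⟩ := chiE.surjective t
    rw [hv, ← map_inv, ← map_mul, ← map_mul, ← map_mul, ← map_mul, conj_map, conj_comm]
  rcases invol_cases v hvv hv1 hvc (chiE σ) (by rw [← map_mul, hσ, map_one])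
    (by rwa [ne_eq, MulEquiv.map_eq_one_iff]) with ⟨a, h1, h2, h3⟩ | ⟨t, ht⟩
  · obtain ⟨π, rfl⟩ := chiE.surjective a
    refine Or.inl ⟨π, chiE.injective ?_, fun h => h2 (by rw [h, map_one]), chiE.injective ?_⟩
    · rw [map_mul, map_mul, h1, map_one]
    · rw [map_mul, map_mul, map_mul, h3]
  · obtain ⟨τ, rfl⟩ := chiE.surjective t
    refine Or.inr ⟨τ (QuaternionGroup.a 1), chiE.injective ?_⟩
    rw [ht, hv, ← map_inv, ← map_mul, ← map_mul, conj_map]

/-- the subgroup of `Aut Q₈` generated by the standard pair -/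
noncomputable def K0 : Subgroup (MulAut Q8) :=
  Subgroup.closure {chiE.symm a0, chiE.symm b0}

/-- conjugation on a normal subgroup, read in `Q₈` -/
noncomputable def conjQ {Q : Type*} [Group Q] {R : Subgroup Q} [R.Normal] (e : R ≃* Q8) :
    Q →* MulAut Q8 :=
  (MulAut.congr e).toMonoidHom.comp MulAut.conjNormal

theorem conjQ_apply {Q : Type*} [Group Q] {R : Subgroup Q} [R.Normal] (e : R ≃* Q8) (g : Q)
    (x : Q8) : (e.symm (conjQ e g x) : Q) = g * (e.symm x : Q) * g⁻¹ := by
  simp [conjQ, MulAut.congr, MulAut.conjNormal_apply]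

theorem mem_ker_conjQ {Q : Type*} [Group Q] {R : Subgroup Q} [R.Normal] (e : R ≃* Q8) (g : Q) :
    g ∈ (conjQ e).ker ↔ g ∈ Subgroup.centralizer (R : Set Q) := by
  rw [MonoidHom.mem_ker, Subgroup.mem_centralizer_iff]
  constructor
  · intro h q hq
    have h1 := conjQ_apply e g (e ⟨q, hq⟩)
    rw [h, MulAut.one_apply, MulEquiv.symm_apply_apply] at h1
    exact eq_mul_inv_iff_mul_eq.mp h1
  · intro h
    apply MulEquiv.ext
    intro x
    apply e.symm.injective
    apply Subtype.ext
    rw [conjQ_apply, ← h _ (e.symm x).2, mul_inv_cancel_right]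
    rfl

/-- A group of order 48 with a self-centralizing normal `Q₈` and an involution outside it is the
semidirect product of `Q₈` by the standard subgroup `S₃` of its automorphism group. -/
theorem nonempty_equiv_model {Q : Type*} [Group Q] [Finite Q] {R : Subgroup Q} [R.Normal]
    (hcard : Nat.card Q = 48) (e₀ : R ≃* Q8)
    (hC : Subgroup.centralizer (R : Set Q) ≤ R) {u : Q} (hu2 : u * u = 1) (hu : u ∉ R) :
    Nonempty (Q8 ⋊[K0.subtype] K0 ≃* Q) := by
  classical
  set Ψ := conjQ e₀ with hΨ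
  have hker : ∀ g ∈ Ψ.ker, g ∈ R ∧ g * g = 1 := by
    intro g hg
    rw [hΨ, mem_ker_conjQ] at hg
    have hgR := hC hg
    refine ⟨hgR, ?_⟩
    have hz : ∀ q : Q8, (∀ x, x * q = q * x) → q * q = 1 := by decide +kernel
    have h := hz (e₀ ⟨g, hgR⟩) fun x => by
      obtain ⟨⟨r, hr⟩, rfl⟩ := e₀.surjective x
      rw [← map_mul, ← map_mul]
      exact congrArg e₀ (Subtype.ext (Subgroup.mem_centralizer_iff.mp hg r hr))
    rw [← map_mul, MulEquiv.map_eq_one_iff] at h
    exact congrArg Subtype.val h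
  have hsurj : Function.Surjective Ψ := by
    rw [← MonoidHom.range_eq_top]
    apply Subgroup.eq_top_of_card_eq
    have hk : Nat.card Ψ.ker ≤ 2 := by
      have hq : ∀ q : Q8, q * q = 1 → q = 1 ∨ q = .a 2 := by decide +kernel
      refine (Nat.card_le_card_of_injective (β := ({1, .a 2} : Finset Q8))
        (fun g : Ψ.ker => ⟨e₀ ⟨g, (hker g g.2).1⟩, ?_⟩) fun g h hgh => ?_).trans ?_
      · rcases hq (e₀ ⟨g, (hker g g.2).1⟩) (by
          rw [← map_mul, MulEquiv.map_eq_one_iff]
          exact Subtype.ext (hker g g.2).2) with h | h <;> simp [h]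
      · have h := congrArg Subtype.val (e₀.injective (congrArg Subtype.val hgh))
        exact Subtype.ext h
      · rw [Nat.card_eq_fintype_card, Fintype.card_coe]
        exact Finset.card_le_two
    have h := Ψ.ker.card_mul_index
    rw [Subgroup.index_ker, hcard] at h
    have hle := Subgroup.card_le_card_group Ψ.range
    rw [card_aut] at hle ⊢
    nlinarith
  have hσ1 : Ψ u ≠ 1 := fun h => hu (hker u h).1
  rcases aut_invol_cases (Ψ u) (by rw [← map_mul, hu2, map_one]) hσ1 with
    ⟨π, hπ3, hπ1, hπu⟩ | ⟨r, hr⟩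
  swap
  · exfalso
    apply hu
    have h : (e₀.symm r : Q)⁻¹ * u ∈ Ψ.ker := by
      rw [MonoidHom.mem_ker, map_mul, map_inv, hr]
      rw [show Ψ (e₀.symm r : Q) = MulAut.conj r from MulEquiv.ext fun x => e₀.symm.injective
        (Subtype.ext (by rw [hΨ, conjQ_apply]; simp [MulAut.conj_apply]))]
      exact inv_mul_cancel _
    have := R.mul_mem (e₀.symm r).2 (hker _ h).1
    rwa [mul_inv_cancel_left] at this
  -- normalise the pair
  obtain ⟨t, ht1, ht2⟩ := std_conj (chiE π) (chiE (Ψ u))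
    (by rw [← map_mul, ← map_mul, hπ3, map_one]) (by rwa [ne_eq, MulEquiv.map_eq_one_iff])
    (by rw [← map_mul, ← map_mul, hu2, map_one, map_one])
    (by rwa [ne_eq, MulEquiv.map_eq_one_iff])
    (by rw [← map_mul, ← map_mul, ← map_mul, hπu])
  obtain ⟨τ, rfl⟩ := chiE.surjective t
  set e : R ≃* Q8 := e₀.trans τ with he
  have hΦ : ∀ g, conjQ e g = τ * Ψ g * τ⁻¹ := fun g => MulEquiv.ext fun x => by
    simp [hΨ, conjQ, MulAut.congr, he, MulAut.mul_apply]
  set Φ := conjQ e with hΦdef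
  have hΦker : ∀ g, Φ g = 1 → g ∈ R ∧ g * g = 1 := fun g hg => by
    refine hker g ?_
    rw [hΦ] at hg
    exact MonoidHom.mem_ker.mpr (conj_eq_one_iff.mp hg)
  have hAu : Φ u = chiE.symm b0 := by
    rw [hΦ, MulEquiv.eq_symm_apply, map_mul, map_mul, map_inv, ht2]
  obtain ⟨g0, hg0⟩ := hsurj π
  have hΦg0 : Φ g0 = chiE.symm a0 := by
    rw [hΦ, hg0, MulEquiv.eq_symm_apply, map_mul, map_mul, map_inv, ht1]
  set A := chiE.symm a0 with hA
  set B := chiE.symm b0 with hB
  have hA3 : A ^ 3 = 1 := by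
    rw [hA, ← map_pow, MulEquiv.map_eq_one_iff]; decide +kernel
  -- an element of order three above `A`
  set c := g0 ^ 4 with hc
  have hc3 : c ^ 3 = 1 := by
    have h := (hΦker (g0 ^ 3) (by rw [map_pow, hΦg0, hA3])).2
    rw [← pow_add] at h
    rw [hc, ← pow_mul, show 4 * 3 = (3 + 3) * 2 from rfl, pow_mul, h, one_pow]
  have hΦc : Φ c = A := by rw [hc, map_pow, hΦg0, pow_succ, hA3, one_mul]
  have hinv : B * A * B = A * A := by
    rw [hA, hB, ← map_mul, ← map_mul, ← map_mul]
    exact congrArg chiE.symm (by decide +kernel)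
  have hucu : u * c * u = c * c := by
    have hk : Φ ((c * c)⁻¹ * (u * c * u)) = 1 := by
      rw [map_mul, map_inv, map_mul, map_mul, map_mul, hAu, hΦc, hinv, inv_mul_cancel]
    have hz2 := (hΦker _ hk).2
    have hzc : (c * c)⁻¹ * (u * c * u) ∈ Subgroup.centralizer (R : Set Q) :=
      (mem_ker_conjQ e _).mp hk
    set z := (c * c)⁻¹ * (u * c * u) with hz
    -- `z` is central
    have hzZ : ∀ g, g * z * g⁻¹ = z := by
      intro g
      have hq : ∀ q q' : Q8, q * q = 1 → q' * q' = 1 → (q = 1 ↔ q' = 1) → q = q' := by decide +kernel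
      have hgR : g * z * g⁻¹ ∈ R := (inferInstance : R.Normal).conj_mem z (hC hzc) g
      have := hq (e ⟨_, hgR⟩) (e ⟨z, hC hzc⟩)
        (by
          rw [← map_mul, MulEquiv.map_eq_one_iff]
          refine Subtype.ext ?_
          change g * z * g⁻¹ * (g * z * g⁻¹) = 1
          rw [show g * z * g⁻¹ * (g * z * g⁻¹) = g * (z * z) * g⁻¹ by group, hz2, mul_one,
            mul_inv_cancel])
        (by rw [← map_mul, MulEquiv.map_eq_one_iff]; exact Subtype.ext hz2)
        (by simp [Subtype.ext_iff])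
      exact congrArg Subtype.val (e.injective this)
    have hzc' : Commute (c * c) z := by
      have h := hzZ (c * c)
      exact mul_inv_eq_iff_eq_mul.mp h
    have h1 : u * c * u = c * c * z := by rw [hz, mul_inv_cancel_left]
    have huinv : u⁻¹ = u := inv_eq_of_mul_eq_one_right hu2
    have h2 : (u * c * u) ^ 3 = 1 := by
      conv_lhs => rw [show u * c * u = u * c * u⁻¹ by rw [huinv]]
      rw [conj_pow, hc3, mul_one, mul_inv_cancel]
    rw [h1, hzc'.mul_pow, ← pow_two c, ← pow_mul, mul_comm 2 3, pow_mul, hc3, one_pow, one_mul,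
      pow_succ, pow_two, hz2, one_mul] at h2
    rw [h1, h2, mul_one]
  set K : Subgroup Q := Subgroup.closure {c, u} with hK
  have huc : ∀ i : ℕ, u * c ^ i = c ^ (2 * i) * u := fun i => by
    have huinv : u⁻¹ = u := inv_eq_of_mul_eq_one_right hu2
    have h : u * c ^ i * u = c ^ (2 * i) := by
      conv_lhs => rw [show u * c ^ i * u = u * c ^ i * u⁻¹ by rw [huinv]]
      rw [← conj_pow, huinv, hucu, ← pow_two, ← pow_mul]
    rw [← h, mul_assoc, hu2, mul_one]
  have hKform : ∀ x ∈ K, ∃ i : ℕ, x = c ^ i ∨ x = c ^ i * u := by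
    intro x hx
    induction hx using Subgroup.closure_induction with
    | mem x hx =>
      rcases hx with rfl | rfl
      · exact ⟨1, Or.inl (pow_one _).symm⟩
      · exact ⟨0, Or.inr (by rw [pow_zero, one_mul])⟩
    | one => exact ⟨0, Or.inl (pow_zero _).symm⟩
    | mul x y _ _ hx hy =>
      obtain ⟨i, rfl | rfl⟩ := hx <;> obtain ⟨j, rfl | rfl⟩ := hy
      · exact ⟨i + j, Or.inl (pow_add _ _ _).symm⟩
      · exact ⟨i + j, Or.inr (by rw [← mul_assoc, pow_add])⟩
      · exact ⟨i + 2 * j, Or.inr (by rw [mul_assoc, huc, ← mul_assoc, pow_add])⟩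
      · refine ⟨i + 2 * j, Or.inl ?_⟩
        rw [mul_assoc, ← mul_assoc u, huc, mul_assoc (c ^ (2 * j)), hu2, mul_one, pow_add]
    | inv x _ hx =>
      obtain ⟨i, rfl | rfl⟩ := hx
      · refine ⟨2 * i, Or.inl (inv_eq_of_mul_eq_one_right ?_)⟩
        rw [← pow_add, show i + 2 * i = 3 * i by ring, pow_mul, hc3, one_pow]
      · refine ⟨i, Or.inr (inv_eq_of_mul_eq_one_right ?_)⟩
        rw [mul_assoc, ← mul_assoc u, huc, mul_assoc (c ^ (2 * i)), hu2, mul_one, ← pow_add,
          show i + 2 * i = 3 * i by ring, pow_mul, hc3, one_pow]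
  have hKR : ∀ x ∈ K, x ∈ R → x = 1 := by
    intro x hx hxR
    obtain ⟨i, rfl | rfl⟩ := hKform x hx
    · rw [← orderOf_eq_one_iff]
      refine Nat.eq_one_of_dvd_coprimes (a := 3) (b := 8) (by norm_num) ?_ ?_
      · exact orderOf_dvd_of_pow_eq_one (by rw [← pow_mul, mul_comm, pow_mul, hc3, one_pow])
      · have h := R.orderOf_dvd_natCard hxR
        rwa [Nat.card_congr e.toEquiv, Nat.card_eq_fintype_card, QuaternionGroup.card] at h
    · exfalso
      apply hu
      have huinv : u⁻¹ = u := inv_eq_of_mul_eq_one_right hu2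
      have h := (inferInstance : R.Normal).conj_mem _ hxR (c ^ i)
      have h3 : (c ^ i)⁻¹ = c ^ (2 * i) := inv_eq_of_mul_eq_one_right (by
        rw [← pow_add, show i + 2 * i = 3 * i by ring, pow_mul, hc3, one_pow])
      have h4 : c ^ (4 * i) = c ^ i := by
        rw [show 4 * i = 3 * i + i by ring, pow_add, pow_mul, hc3, one_pow, one_mul]
      have e1 : u * (c ^ i)⁻¹ = c ^ i * u := by
        rw [h3, huc, ← mul_assoc 2 2 i, show 2 * 2 * i = 4 * i by ring, h4]
      rw [mul_assoc, mul_assoc, e1, ← mul_assoc, ← mul_assoc, ← pow_add, ← pow_add,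
        show i + i + i = 3 * i by ring, pow_mul, hc3, one_pow, one_mul] at h
      exact h
  have hmap : K.map Φ = K0 := by
    rw [hK, MonoidHom.map_closure, Set.image_pair, hΦc, hAu]
    rfl
  let fK : K →* K0 := ((Φ.comp K.subtype).codRestrict K0 fun x => hmap ▸ ⟨x, x.2, rfl⟩)
  have hfK : Function.Bijective fK := by
    constructor
    · rw [injective_iff_map_eq_one]
      intro x hx
      exact Subtype.ext (hKR x x.2 (hΦker x (congrArg Subtype.val hx)).1)
    · rintro ⟨y, hy⟩
      rw [← hmap] at hy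
      obtain ⟨x, hx, rfl⟩ := hy
      exact ⟨⟨x, hx⟩, rfl⟩
  let eK : K0 ≃* K := (MulEquiv.ofBijective fK hfK).symm
  have heK : ∀ g, Φ (eK g : Q) = g := fun g =>
    congrArg Subtype.val ((MulEquiv.ofBijective fK hfK).apply_symm_apply g)
  let L : Q8 ⋊[K0.subtype] K0 →* Q :=
    SemidirectProduct.lift (R.subtype.comp e.symm.toMonoidHom) (K.subtype.comp eK.toMonoidHom)
      fun g => MonoidHom.ext fun x => by
        change (e.symm ((g : MulAut Q8) x) : Q) = (eK g : Q) * (e.symm x : Q) * (eK g : Q)⁻¹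
        rw [← heK g, hΦdef, conjQ_apply]
  have hLinj : Function.Injective L := by
    rw [injective_iff_map_eq_one]
    rintro ⟨x, g⟩ h
    change (e.symm x : Q) * (eK g : Q) = 1 at h
    have hg : (eK g : Q) = 1 := hKR _ (eK g).2 (by
      rw [eq_inv_of_mul_eq_one_right h]; exact R.inv_mem (e.symm x).2)
    have hx : (e.symm x : Q) = 1 := by rwa [hg, mul_one] at h
    refine SemidirectProduct.ext ?_ ?_
    · exact e.symm.map_eq_one_iff.mp (Subtype.ext hx)
    · exact eK.map_eq_one_iff.mp (Subtype.ext hg)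
  have hK6 : 6 ≤ Nat.card K0 := by
    have h2 : orderOf B = 2 := orderOf_eq_prime (by rw [pow_two, hB, ← map_mul, MulEquiv.map_eq_one_iff]; decide +kernel)
      (by rw [hB, ne_eq, MulEquiv.map_eq_one_iff]; decide +kernel)
    have h3 : orderOf A = 3 := orderOf_eq_prime hA3
      (by rw [hA, ne_eq, MulEquiv.map_eq_one_iff]; decide +kernel)
    have d2 := K0.orderOf_dvd_natCard (x := B) (Subgroup.subset_closure (Or.inr rfl))
    have d3 := K0.orderOf_dvd_natCard (x := A) (Subgroup.subset_closure (Or.inl rfl))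
    rw [h2] at d2
    rw [h3] at d3
    exact Nat.le_of_dvd Nat.card_pos (Nat.Coprime.mul_dvd_of_dvd_of_dvd (by norm_num : Nat.Coprime 2 3) d2 d3)
  haveI : Finite (Q8 ⋊[K0.subtype] K0) := Finite.of_injective _ hLinj
  refine ⟨MulEquiv.ofBijective L ((Nat.bijective_iff_injective_and_card L).mpr ⟨hLinj, ?_⟩)⟩
  refine le_antisymm (Nat.card_le_card_of_injective _ hLinj) ?_
  rw [Nat.card_congr SemidirectProduct.equivProd, Nat.card_prod, hcard, Nat.card_eq_fintype_card,
    QuaternionGroup.card]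
  omega

end Cfsg.Agent.Lib.Solvable
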