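import Cfsg.Agent.Lib.Solvable.GLTwoThree

/-!
`GL(2, 3)` is the semidirect product of `Q₈` by `S₃`.
-/

set_option autoImplicit false

namespace Cfsg.Agent.Lib.Solvable

open scoped Matrix

abbrev GL23 := GL (Fin 2) (ZMod 3)

def mI : Matrix (Fin 2) (Fin 2) (ZMod 3) := !![0, 2; 1, 0]

def mJ : Matrix (Fin 2) (Fin 2) (ZMod 3) := !![1, 1; 1, 2]

/-- the matrices of the normal quaternion subgroup -/
def qMat : Q8 → Matrix (Fin 2) (Fin 2) (ZMod 3)
  | .a i => mI ^ i.val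
  | .xa i => mJ * mI ^ i.val

theorem qMat_mul : ∀ x y : Q8, qMat (x * y) = qMat x * qMat y := by decide +kernel

theorem qMat_one : qMat 1 = 1 := by decide +kernel

theorem qMat_inj : ∀ x y : Q8, qMat x = qMat y → x = y := by decide +kernel

theorem qMat_props : ∀ a b c d : ZMod 3, a * d - b * c ≠ 0 →
    (∀ x : Q8, ∃ y, !![a, b; c, d] * qMat x = qMat y * !![a, b; c, d]) ∧
    ((∀ x : Q8, !![a, b; c, d] * qMat x = qMat x * !![a, b; c, d]) →
      ∃ y, !![a, b; c, d] = qMat y) := by decide +kernel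

/-- the quaternion group as units -/
def qHom : Q8 →* GL23 :=
  MonoidHom.mk' (fun x => ⟨qMat x, qMat x⁻¹, by rw [← qMat_mul, mul_inv_cancel, qMat_one],
    by rw [← qMat_mul, inv_mul_cancel, qMat_one]⟩) fun x y => Units.ext (qMat_mul x y)

theorem qHom_inj : Function.Injective qHom := fun x y h =>
  qMat_inj x y (congrArg Units.val h)

theorem gl23_props (g : GL23) :
    (∀ x : Q8, ∃ y, g * qHom x = qHom y * g) ∧
      ((∀ x : Q8, g * qHom x = qHom x * g) → ∃ y, g = qHom y) := by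
  haveI : Fact (Nat.Prime 3) := ⟨Nat.prime_three⟩
  have hd : (g : Matrix (Fin 2) (Fin 2) (ZMod 3)).det ≠ 0 := ((Matrix.isUnit_iff_isUnit_det _).mp g.isUnit).ne_zero
  rw [Matrix.det_fin_two] at hd
  obtain ⟨h1, h2⟩ := qMat_props _ _ _ _ hd
  have e : (g : Matrix (Fin 2) (Fin 2) (ZMod 3)) = !![g.1 0 0, g.1 0 1; g.1 1 0, g.1 1 1] :=
    Matrix.eta_fin_two _
  rw [← e] at h1 h2
  refine ⟨fun x => ?_, fun h => ?_⟩
  · obtain ⟨y, hy⟩ := h1 x
    exact ⟨y, Units.ext hy⟩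
  · obtain ⟨y, hy⟩ := h2 fun x => congrArg Units.val (h x)
    exact ⟨y, Units.ext hy⟩

instance qRange_normal : qHom.range.Normal := ⟨by
  rintro _ ⟨x, rfl⟩ g
  obtain ⟨y, hy⟩ := (gl23_props g).1 x
  exact ⟨y, by rw [hy, mul_inv_cancel_right]⟩⟩

theorem card_gl23 : Nat.card GL23 = 48 := by
  haveI : Fact (Nat.Prime 3) := ⟨Nat.prime_three⟩
  rw [Matrix.card_GL_field, Fin.prod_univ_two, ZMod.card]
  rfl

theorem uMat_sq : (!![1, 0; 0, 2] : Matrix (Fin 2) (Fin 2) (ZMod 3)) * !![1, 0; 0, 2] = 1 := by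
  decide +kernel

theorem uMat_ne : ∀ x : Q8, qMat x ≠ !![1, 0; 0, 2] := by decide +kernel

theorem nonempty_equiv_gl23 : Nonempty (Q8 ⋊[K0.subtype] K0 ≃* GL23) := by
  haveI : Fact (Nat.Prime 3) := ⟨Nat.prime_three⟩
  refine nonempty_equiv_model card_gl23 (MonoidHom.ofInjective qHom_inj).symm ?_
    (u := ⟨!![1, 0; 0, 2], !![1, 0; 0, 2], uMat_sq, uMat_sq⟩) ?_ ?_
  · intro g hg
    rw [Subgroup.mem_centralizer_iff] at hg
    obtain ⟨y, hy⟩ := (gl23_props g).2 fun x => (hg _ ⟨x, rfl⟩).symm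
    exact ⟨y, hy.symm⟩
  · exact Units.ext uMat_sq
  · rintro ⟨x, hx⟩
    exact uMat_ne x (congrArg Units.val hx)

end Cfsg.Agent.Lib.Solvable
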