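import Cfsg.Agent.Lib.PGroups.RestrictedOdd
import Mathlib

/-!
Solvable groups all of whose non-abelian subgroups are self-normalizing.
-/

set_option autoImplicit false

namespace Cfsg.Agent.Lib.Solvable.NonAbSelfNorm

open Pointwise

variable {G : Type*} [Group G] [Finite G]

theorem not_comm {H : Subgroup G} {a b : G} (ha : a ∈ H) (hb : b ∈ H) (h : a * b ≠ b * a) :
    ¬ IsMulCommutative H := fun hc =>
  h (congrArg Subtype.val (hc.is_comm.comm (⟨a, ha⟩ : H) ⟨b, hb⟩))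

theorem forward [Group.IsSolvable G] (hnn : ¬ Group.IsNilpotent G)
    (h : ∀ H : Subgroup G, ¬ IsMulCommutative H → Subgroup.normalizer (H : Set G) = H) :
    ∃ (x : G) (A : Subgroup G) (p : ℕ), p.Prime ∧ A.Normal ∧ IsMulCommutative A ∧
      (∃ k : ℕ, orderOf x = p ^ k) ∧ ¬ p ∣ Nat.card A ∧ (Subgroup.zpowers x).IsComplement' A ∧
      x ^ p ∈ Subgroup.center G ∧ ∀ a : G, a ∈ A → a ≠ 1 → x * a * x⁻¹ ≠ a := by
  classical
  haveI hnt : Nontrivial G := by
    by_contra hc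
    haveI := not_nontrivial_iff_subsingleton.mp hc
    exact hnn inferInstance
  obtain ⟨M, hMc, hM⟩ : ∃ M : Subgroup G, IsCoatom M ∧ commutator G ≤ M :=
    (eq_top_or_exists_le_coatom (commutator G)).resolve_left
      (Group.IsSolvable.commutator_lt_top_of_nontrivial (G := G)).ne
  haveI hMn : M.Normal := Subgroup.Normal.of_commutator_le (h := hM)
  -- the index is a prime
  obtain ⟨p, hp, hpi⟩ : ∃ p : ℕ, p.Prime ∧ M.index = p := by
    haveI hcq : IsMulCommutative (G ⧸ M) := hMn.quotient_commutative_iff_commutator_le.mpr hM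
    letI : CommGroup (G ⧸ M) := { (inferInstance : Group (G ⧸ M)) with mul_comm := hcq.is_comm.comm }
    haveI : Nontrivial (G ⧸ M) := by
      rw [← Finite.one_lt_card_iff_nontrivial, ← Subgroup.index_eq_card]
      exact Nat.lt_of_le_of_ne (Nat.one_le_iff_ne_zero.mpr Subgroup.index_ne_zero_of_finite)
        (fun e => hMc.1 (Subgroup.index_eq_one.mp e.symm))
    haveI : IsSimpleGroup (G ⧸ M) := ⟨fun N _ => by
      rcases hMc.le_iff.mp (show M ≤ N.comap (QuotientGroup.mk' M) from fun m hm => by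
        rw [Subgroup.mem_comap]
        rw [show QuotientGroup.mk' M m = 1 from (QuotientGroup.eq_one_iff m).mpr hm]
        exact one_mem N) with e | e
      · right
        rw [← Subgroup.map_comap_eq_self_of_surjective (QuotientGroup.mk'_surjective M) N, e,
          Subgroup.map_top_of_surjective _ (QuotientGroup.mk'_surjective M)]
      · left
        rw [← Subgroup.map_comap_eq_self_of_surjective (QuotientGroup.mk'_surjective M) N, e,
          QuotientGroup.map_mk'_self]⟩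
    exact ⟨Nat.card (G ⧸ M), IsSimpleGroup.prime_card, Subgroup.index_eq_card M⟩
  haveI : Fact p.Prime := ⟨hp⟩
  have hMab : ∀ a ∈ M, ∀ b ∈ M, a * b = b * a := by
    intro a ha b hb
    by_contra hne
    have e := h M (not_comm ha hb hne)
    rw [Subgroup.normalizer_eq_top_iff.mpr hMn] at e
    exact hMc.1 e.symm
  obtain ⟨y, hy⟩ : ∃ y, y ∉ M := by
    by_contra hall
    push Not at hall
    exact hMc.1 ((Subgroup.eq_top_iff' _).mpr hall)
  obtain ⟨x, s, -, ⟨k, hk⟩, hs, rfl, -, -⟩ := PGroups.RestrictedOdd.split_pPart (p := p) y ⊤ (Subgroup.mem_top y)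
  have hquot : ∀ g : G, g ^ p ∈ M := fun g => by
    have := M.pow_index_mem g
    rwa [hpi] at this
  have hs' : ∀ g : G, ¬ p ∣ orderOf g → g ∈ M := fun g hg => by
    obtain ⟨j, hj⟩ := exists_pow_eq_self_of_coprime (x := g) (n := p) (hp.coprime_iff_not_dvd.mpr hg)
    rw [← hj]
    exact pow_mem (hquot g) j
  have hxM : x ∉ M := fun hx => hy (mul_mem hx (hs' s hs))
  have hgenM : ∀ g : G, ∃ m ∈ M, ∃ i : ℤ, g = m * x ^ i := by
    intro g
    haveI : Fact (Nat.Prime (Nat.card (G ⧸ M))) := ⟨by rw [← Subgroup.index_eq_card, hpi]; exact hp⟩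
    obtain ⟨i, hi⟩ := Subgroup.mem_zpowers_iff.mp (mem_zpowers_of_prime_card (g := (x : G ⧸ M)) rfl
      (fun e => hxM ((QuotientGroup.eq_one_iff x).mp e)) (g' := (g : G ⧸ M)))
    refine ⟨g * (x ^ i)⁻¹, ?_, i, by group⟩
    rw [← QuotientGroup.eq_one_iff, QuotientGroup.mk_mul, QuotientGroup.mk_inv, QuotientGroup.mk_zpow, hi,
      mul_inv_cancel]
  -- the p'-part of `M`
  let A : Subgroup G :=
    { carrier := {a | a ∈ M ∧ ¬ p ∣ orderOf a}
      one_mem' := ⟨one_mem M, by rw [orderOf_one]; exact hp.not_dvd_one⟩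
      mul_mem' := fun {a b} ha hb => ⟨mul_mem ha.1 hb.1, fun hd => by
        have := hd.trans (show Commute a b from hMab a ha.1 b hb.1).orderOf_mul_dvd_lcm
        rcases hp.dvd_mul.mp (this.trans (Nat.lcm_dvd_mul _ _)) with h | h
        exacts [ha.2 h, hb.2 h]⟩
      inv_mem' := fun {a} ha => ⟨inv_mem ha.1, by rw [orderOf_inv]; exact ha.2⟩ }
  have hAmem : ∀ a, a ∈ A ↔ a ∈ M ∧ ¬ p ∣ orderOf a := fun a => Iff.rfl
  haveI hAn : A.Normal := ⟨fun a ha g => ⟨hMn.conj_mem a ha.1 g, by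
    rw [show g * a * g⁻¹ = MulAut.conj g a from rfl, MulEquiv.orderOf_eq]; exact ha.2⟩⟩
  have hAc : IsMulCommutative A := ⟨⟨fun a b => Subtype.ext (hMab a a.2.1 b b.2.1)⟩⟩
  have hAp : ¬ p ∣ Nat.card A := fun hd => by
    obtain ⟨a, ha⟩ := exists_prime_orderOf_dvd_card' p hd
    exact a.2.2 (by rw [Subgroup.orderOf_coe, ha])
  have hAM : A ≤ M := fun a ha => ha.1
  have hxc : x ^ p ∈ Subgroup.center G := Subgroup.mem_center_iff.mpr fun g => by
    obtain ⟨m, hm, i, rfl⟩ := hgenM g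
    have h1 : Commute m (x ^ p) := hMab m hm _ (hquot x)
    exact (h1.mul_left (((Commute.refl x).pow_right p).zpow_left i)).eq
  -- the quotient by `A` is a p-group
  have hGA : IsPGroup p (G ⧸ A) := by
    rw [IsPGroup]
    intro q
    obtain ⟨g, rfl⟩ := QuotientGroup.mk_surjective q
    obtain ⟨u, t, hut, ⟨j, hj⟩, ht, rfl, -, -⟩ := PGroups.RestrictedOdd.split_pPart (p := p) g ⊤ (Subgroup.mem_top _)
    refine ⟨j, ?_⟩
    rw [← QuotientGroup.mk_pow, QuotientGroup.eq_one_iff, (show Commute u t from hut).mul_pow, ← hj,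
      pow_orderOf_eq_one, one_mul]
    exact pow_mem (show t ∈ A from ⟨hs' t ht, ht⟩) _
  haveI : Group.IsNilpotent (G ⧸ A) := hGA.isNilpotent
  obtain ⟨a₀, ha₀, hne₀⟩ : ∃ a ∈ A, x * a ≠ a * x := by
    by_contra hall
    push Not at hall
    refine hnn (Subgroup.isNilpotent_of_ker_le_center (QuotientGroup.mk' A) ?_)
    rw [QuotientGroup.ker_mk']
    intro a ha
    refine Subgroup.mem_center_iff.mpr fun g => ?_
    obtain ⟨m, hm, i, rfl⟩ := hgenM g
    exact ((show Commute m a from hMab m hm a (hAM ha)).mul_left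
      ((show Commute x a from hall a ha).zpow_left i)).eq
  -- `G = A ⟨x⟩`
  have htop : Subgroup.zpowers x ⊔ A = ⊤ := by
    set H := Subgroup.zpowers x ⊔ A with hH
    by_contra hne
    have hAH : A ≤ H := le_sup_right
    have e := h H (not_comm (Subgroup.mem_sup_left (Subgroup.mem_zpowers x)) (hAH ha₀) hne₀)
    have hcm : (H.map (QuotientGroup.mk' A)).comap (QuotientGroup.mk' A) = H := by
      rw [Subgroup.comap_map_eq, QuotientGroup.ker_mk', sup_eq_left.mpr hAH]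
    have hlt : H.map (QuotientGroup.mk' A) < ⊤ := lt_top_iff_ne_top.mpr fun ht => hne (by
      rw [← hcm, ht, Subgroup.comap_top])
    have h2 := normalizerCondition_of_isNilpotent _ hlt
    have h3 : (Subgroup.normalizer (H.map (QuotientGroup.mk' A) : Set (G ⧸ A))).comap (QuotientGroup.mk' A) ≤
        Subgroup.normalizer (H : Set G) := by
      intro g hg
      refine Subgroup.mem_normalizer_iff.mpr fun z => ?_
      rw [← hcm, Subgroup.mem_comap, Subgroup.mem_comap, map_mul, map_mul, map_inv]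
      exact Subgroup.mem_normalizer_iff.mp (Subgroup.mem_comap.mp hg) _
    rw [e] at h3
    have h4 := Subgroup.map_mono (f := QuotientGroup.mk' A) h3
    rw [Subgroup.map_comap_eq_self_of_surjective (QuotientGroup.mk'_surjective A)] at h4
    exact not_le_of_gt h2 h4
  have hdisj : Disjoint (Subgroup.zpowers x) A := disjoint_iff.mpr (Subgroup.inf_eq_bot_of_coprime (by
    rw [Nat.card_zpowers, hk]
    exact Nat.Coprime.pow_left _ (hp.coprime_iff_not_dvd.mpr hAp)))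
  refine ⟨x, A, p, hp, hAn, hAc, ⟨k, hk⟩, hAp,
    Subgroup.isComplement'_of_disjoint_and_mul_eq_univ hdisj (by
      rw [← Subgroup.mul_normal, htop, Subgroup.coe_top]), hxc, fun a ha ha1 hfix => ha1 ?_⟩
  -- fixed-point-freeness
  let f : A →* G := MonoidHom.mk' (fun b => (b : G) * (x * (b : G)⁻¹ * x⁻¹)) (fun b c => by
    have hcx : x * (c : G)⁻¹ * x⁻¹ ∈ M := hMn.conj_mem _ (inv_mem c.2.1) x
    have hbx : x * (b : G)⁻¹ * x⁻¹ ∈ M := hMn.conj_mem _ (inv_mem b.2.1) x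
    calc ((b * c : A) : G) * (x * ((b * c : A) : G)⁻¹ * x⁻¹)
        = (b : G) * ((c : G) * (x * (c : G)⁻¹ * x⁻¹)) * (x * (b : G)⁻¹ * x⁻¹) := by
          rw [Subgroup.coe_mul, mul_inv_rev]; group
      _ = _ := by rw [mul_assoc, hMab _ (mul_mem c.2.1 hcx) _ hbx, ← mul_assoc])
  have hfA : f.range ≤ A := by
    rintro _ ⟨b, rfl⟩
    exact mul_mem b.2 (hAn.conj_mem _ (inv_mem b.2) x)
  have hcenD : ∀ d ∈ f.range, x * d = d * x → d = 1 := by
    rintro _ ⟨b, rfl⟩ hd
    have hxd : x * (b : G) * x⁻¹ = (f b)⁻¹ * (b : G) := by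
      show _ = ((b : G) * (x * (b : G)⁻¹ * x⁻¹))⁻¹ * (b : G)
      group
    have hit : ∀ i : ℕ, x ^ i * (b : G) * (x ^ i)⁻¹ = (f b ^ i)⁻¹ * (b : G) := by
      intro i
      induction i with
      | zero => simp
      | succ i ih =>
        calc x ^ (i + 1) * (b : G) * (x ^ (i + 1))⁻¹ = x * (x ^ i * (b : G) * (x ^ i)⁻¹) * x⁻¹ := by rw [pow_succ']; group
          _ = x * ((f b ^ i)⁻¹ * (b : G)) * x⁻¹ := by rw [ih]
          _ = (f b ^ i)⁻¹ * (x * (b : G) * x⁻¹) := by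
            rw [← mul_assoc x, (((show Commute x (f b) from hd).pow_right i).inv_right).eq]; group
          _ = _ := by rw [hxd, ← mul_assoc, ← mul_inv_rev, ← pow_succ']
    have h1 := hit (p ^ k)
    rw [← hk, pow_orderOf_eq_one, inv_one, one_mul, mul_one, right_eq_mul, inv_eq_one, hk] at h1
    obtain ⟨j, hj⟩ := exists_pow_eq_self_of_coprime (x := f b) (n := p ^ k)
      (Nat.Coprime.pow_left k (hp.coprime_iff_not_dvd.mpr (hfA ⟨b, rfl⟩).2))
    rw [← hj, h1, one_pow]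
  have hDx : ∀ d ∈ f.range, x * d * x⁻¹ ∈ f.range := by
    rintro _ ⟨b, rfl⟩
    refine ⟨⟨x * b * x⁻¹, hAn.conj_mem _ b.2 x⟩, ?_⟩
    show (x * (b : G) * x⁻¹) * (x * (x * (b : G) * x⁻¹)⁻¹ * x⁻¹) = x * ((b : G) * (x * (b : G)⁻¹ * x⁻¹)) * x⁻¹
    group
  have hxN : Subgroup.zpowers x ≤ Subgroup.normalizer (f.range : Set G) :=
    Subgroup.zpowers_le.mpr (Subgroup.mem_normalizer_fintype hDx)
  set H' := f.range ⊔ Subgroup.zpowers x with hH'
  have hD0 : f ⟨a₀, ha₀⟩ ≠ 1 := fun e => hne₀ (by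
    have e' : a₀ * (x * a₀⁻¹ * x⁻¹) = 1 := e
    have := congrArg (fun t => t * (x * a₀)) e'
    simp only [one_mul] at this
    rw [← this]; group)
  have e := h H' (not_comm (Subgroup.mem_sup_right (Subgroup.mem_zpowers x))
    (Subgroup.mem_sup_left (⟨⟨a₀, ha₀⟩, rfl⟩ : f ⟨a₀, ha₀⟩ ∈ f.range)) fun hc => hD0 (hcenD _ ⟨_, rfl⟩ hc))
  have haN : a ∈ Subgroup.normalizer (H' : Set G) := by
    refine Subgroup.centralizer_le_normalizer _ (Subgroup.mem_centralizer_iff.mpr fun z hz => ?_)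
    have hle : H' ≤ Subgroup.centralizer ({a} : Set G) := sup_le
      (fun d hd => Subgroup.mem_centralizer_iff.mpr fun w hw => by
        rw [Set.mem_singleton_iff.mp hw]; exact hMab a (hAM ha) d (hAM (hfA hd)))
      (Subgroup.zpowers_le.mpr (Subgroup.mem_centralizer_iff.mpr fun w hw => by
        rw [Set.mem_singleton_iff.mp hw]; exact (mul_inv_eq_iff_eq_mul.mp hfix).symm))
    exact (Subgroup.mem_centralizer_iff.mp (hle hz) a rfl).symm
  rw [e] at haN
  rw [← SetLike.mem_coe, hH', Subgroup.coe_mul_of_right_le_normalizer_left _ _ hxN] at haN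
  obtain ⟨d, hd, w, hw, hdw⟩ := haN
  have hw1 : w = 1 := by
    have : w ∈ Subgroup.zpowers x ⊓ A := ⟨hw, by
      have := mul_mem (inv_mem (hfA hd)) ha
      rwa [← show d * w = a from hdw, inv_mul_cancel_left] at this⟩
    rwa [hdisj.eq_bot] at this
  rw [← show d * w = a from hdw, hw1, mul_one]
  refine hcenD d hd ?_
  have hd' : d = a := by rw [← show d * w = a from hdw, hw1, mul_one]
  rw [hd']
  exact mul_inv_eq_iff_eq_mul.mp hfix

theorem backward (x : G) (A : Subgroup G) (p : ℕ) (hp : p.Prime) (hk : ∃ k : ℕ, orderOf x = p ^ k) (hAn : A.Normal) (hAc : IsMulCommutative A)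
    (hc : (Subgroup.zpowers x).IsComplement' A) (hxc : x ^ p ∈ Subgroup.center G)
    (hfpf : ∀ a : G, a ∈ A → a ≠ 1 → x * a * x⁻¹ ≠ a) (H : Subgroup G) (hH : ¬ IsMulCommutative H) :
    Subgroup.normalizer (H : Set G) = H := by
  have hAm : ∀ a ∈ A, ∀ b ∈ A, a * b = b * a := fun a ha b hb =>
    congrArg Subtype.val (hAc.is_comm.comm (⟨a, ha⟩ : A) ⟨b, hb⟩)
  have hdec : ∀ g : G, ∃ a ∈ A, ∃ i : ℤ, g = a * x ^ i := by
    intro g
    have hg : g ∈ ((Subgroup.zpowers x : Set G) * (A : Set G)) := by rw [hc.mul_eq]; trivial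
    obtain ⟨w, hw, b, hb, rfl⟩ := hg
    obtain ⟨i, rfl⟩ := Subgroup.mem_zpowers_iff.mp hw
    exact ⟨x ^ i * b * (x ^ i)⁻¹, hAn.conj_mem b hb _, i, by group⟩
  have hcentral : ∀ j : ℤ, (p : ℤ) ∣ j → x ^ j ∈ Subgroup.center G := by
    rintro j ⟨t, rfl⟩
    rw [zpow_mul, zpow_natCast]
    exact Subgroup.zpow_mem _ hxc t
  -- an element of `H` outside `A ⟨x ^ p⟩`
  obtain ⟨a, ha, i, hy, hi⟩ : ∃ a ∈ A, ∃ i : ℤ, a * x ^ i ∈ H ∧ ¬ (p : ℤ) ∣ i := by
    by_contra hall
    push Not at hall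
    refine hH ⟨⟨fun u v => Subtype.ext ?_⟩⟩
    obtain ⟨a, ha, i, hu⟩ := hdec u
    obtain ⟨b, hb, j, hv⟩ := hdec v
    have hi := hall a ha i (hu ▸ u.2)
    have hj := hall b hb j (hv ▸ v.2)
    show (u : G) * v = v * u
    rw [hu, hv]
    have c1 : ∀ g, Commute (x ^ i) g := fun g => (Subgroup.mem_center_iff.mp (hcentral i hi) g).symm
    have c2 : ∀ g, Commute (x ^ j) g := fun g => (Subgroup.mem_center_iff.mp (hcentral j hj) g).symm
    exact (((show Commute a b from hAm a ha b hb).mul_right (c2 a).symm).mul_left (c1 _)).eq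
  -- a conjugate of `H` contains `x`
  let f : A →* A := MonoidHom.mk' (fun b => ⟨(b : G) * (x ^ i * (b : G)⁻¹ * (x ^ i)⁻¹),
      mul_mem b.2 (hAn.conj_mem _ (inv_mem b.2) _)⟩) (fun b c => Subtype.ext (by
    have hcx : x ^ i * (c : G)⁻¹ * (x ^ i)⁻¹ ∈ A := hAn.conj_mem _ (inv_mem c.2) _
    have hbx : x ^ i * (b : G)⁻¹ * (x ^ i)⁻¹ ∈ A := hAn.conj_mem _ (inv_mem b.2) _
    calc ((b * c : A) : G) * (x ^ i * ((b * c : A) : G)⁻¹ * (x ^ i)⁻¹)
        = (b : G) * ((c : G) * (x ^ i * (c : G)⁻¹ * (x ^ i)⁻¹)) * (x ^ i * (b : G)⁻¹ * (x ^ i)⁻¹) := by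
          rw [Subgroup.coe_mul, mul_inv_rev]; group
      _ = _ := by rw [mul_assoc, hAm _ (mul_mem c.2 hcx) _ hbx, ← mul_assoc]; rfl))
  obtain ⟨k, hk⟩ := hk
  have hbez : ∃ s : ℤ, x = (x ^ i) ^ s := by
    have hcop : Int.gcd i ((p ^ k : ℕ) : ℤ) = 1 := by
      rw [Int.gcd_eq_natAbs, Int.natAbs_natCast, Nat.gcd_comm]
      exact Nat.Coprime.pow_left k (hp.coprime_iff_not_dvd.mpr fun hd => hi (Int.ofNat_dvd_left.mpr hd))
    have hb := Int.gcd_eq_gcd_ab i ((p ^ k : ℕ) : ℤ)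
    rw [hcop, Nat.cast_one] at hb
    refine ⟨Int.gcdA i (p ^ k : ℕ), ?_⟩
    conv_lhs => rw [← zpow_one x, hb, zpow_add, zpow_mul, zpow_mul _ ((p ^ k : ℕ) : ℤ), zpow_natCast _ (p ^ k),
      ← hk, pow_orderOf_eq_one, one_zpow, mul_one]
    rw [hk]
  have hfinj : Function.Injective f := (injective_iff_map_eq_one f).mpr fun b hb => by
    have e : (b : G) * (x ^ i * (b : G)⁻¹ * (x ^ i)⁻¹) = 1 := congrArg Subtype.val hb
    have hcm : Commute (x ^ i) (b : G) := by
      have := congrArg (fun t => t * (x ^ i * (b : G))) e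
      simp only [one_mul] at this
      show x ^ i * (b : G) = (b : G) * x ^ i
      rw [← this]; group
    by_contra hne
    refine hfpf b b.2 (fun h => hne (Subtype.ext h)) ?_
    obtain ⟨s, hxz⟩ := hbez
    have h2 : Commute x (b : G) := by
      rw [hxz]
      exact hcm.zpow_left s
    exact mul_inv_eq_iff_eq_mul.mpr h2
  obtain ⟨⟨c, hcA⟩, hfc⟩ := (Finite.injective_iff_surjective.mp hfinj) ⟨a, ha⟩
  have hac : c * (x ^ i * c⁻¹ * (x ^ i)⁻¹) = a := congrArg Subtype.val hfc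
  have hyc : c⁻¹ * (a * x ^ i) * c = x ^ i := by rw [← hac]; group
  set K := H.map (MulAut.conj c⁻¹).toMonoidHom with hK
  have hxiK : x ^ i ∈ K := ⟨a * x ^ i, hy, by
    show c⁻¹ * (a * x ^ i) * (c⁻¹)⁻¹ = x ^ i
    rw [inv_inv, hyc]⟩
  suffices hKN : Subgroup.normalizer (K : Set G) ≤ K by
    refine le_antisymm (fun g hg => ?_) Subgroup.le_normalizer
    obtain ⟨t, ht, hte⟩ := hKN (Subgroup.le_normalizer_map _ (Subgroup.mem_map_of_mem (MulAut.conj c⁻¹).toMonoidHom hg))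
    rwa [← (MulAut.conj c⁻¹).injective hte]
  -- normalizing elements inside `A` lie in `K`
  intro g hg
  obtain ⟨b, hb, j, rfl⟩ := hdec g
  let f' : A →* A := f
  have hpres : ∀ d : A, (d : G) ∈ Subgroup.normalizer (K : Set G) → ((f' d : A) : G) ∈ K := fun d hd => by
    show (d : G) * (x ^ i * (d : G)⁻¹ * (x ^ i)⁻¹) ∈ K
    rw [← mul_assoc, ← mul_assoc]
    exact mul_mem ((Subgroup.mem_normalizer_iff.mp hd (x ^ i)).mp hxiK) (inv_mem hxiK)
  have hAK : ∀ d : A, (d : G) ∈ Subgroup.normalizer (K : Set G) → (d : G) ∈ K := by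
    intro d hd
    let r : {e : A // (e : G) ∈ K} → {e : A // (e : G) ∈ K} := fun e =>
      ⟨f' e.1, hpres e.1 (Subgroup.le_normalizer e.2)⟩
    have hr : Function.Injective r := fun e e' hee => Subtype.ext (hfinj (congrArg Subtype.val hee))
    obtain ⟨e, he⟩ := (Finite.injective_iff_surjective.mp hr) ⟨f' d, hpres d hd⟩
    rw [← hfinj (congrArg Subtype.val he)]
    exact e.2
  -- split off the power of `x`
  obtain ⟨s, hxz⟩ := hbez
  have hxK : x ∈ K := hxz ▸ Subgroup.zpow_mem _ hxiK s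
  have hbN : b ∈ Subgroup.normalizer (K : Set G) := by
    have := mul_mem hg (inv_mem (Subgroup.zpow_mem _ (Subgroup.le_normalizer hxK) j))
    rwa [mul_inv_cancel_right] at this
  exact mul_mem (hAK ⟨b, hb⟩ hbN) (Subgroup.zpow_mem _ hxK j)

end Cfsg.Agent.Lib.Solvable.NonAbSelfNorm
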