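import Cfsg.Agent.Lib.Coprime.PxQ
import Cfsg.Agent.Lib.Coprime.Generation
import Cfsg.Agent.Lib.Coprime.Hall
import Cfsg.Agent.S0055

/-!
No elementary abelian `p`-group (`p` odd) normalizing an abelian `p'`-group, faithfully represented
with it on an elementary abelian `p`-group, is an offender there.
-/

set_option autoImplicit false

open Pointwise
open scoped commutatorElement

namespace Cfsg.Agent.Lib.Solvable

variable {X : Type*} [Group X] [Finite X]

omit [Finite X] in
/-- Conjugation by `g`, restricted to a subgroup normalized by `g`. -/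
theorem conj_mem_of_mem_normalizer {H : Subgroup X} {g x : X}
    (hg : g ∈ Subgroup.normalizer (H : Set X)) (hx : x ∈ H) : g * x * g⁻¹ ∈ H :=
  (Subgroup.mem_normalizer_iff.mp hg x).mp hx

omit [Finite X] in
theorem conj_eq_of_mem_centralizer {H : Subgroup X} {g x : X}
    (hg : g ∈ Subgroup.centralizer (H : Set X)) (hx : x ∈ H) : g * x * g⁻¹ = x := by
  rw [← Subgroup.mem_centralizer_iff.mp hg x hx, mul_inv_cancel_right]

/-- A `p`-group centralizes a group of order `p` that it normalizes. -/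
theorem le_centralizer_of_card_prime {p : ℕ} [Fact p.Prime] {A L : Subgroup X}
    (hA : IsPGroup p A) (hAL : A ≤ Subgroup.normalizer (L : Set X)) (hL : Nat.card L = p) :
    L ≤ Subgroup.centralizer (A : Set X) := by
  have hp : p.Prime := Fact.out
  have hL0 : L ≠ ⊥ := fun h => by
    rw [h, Subgroup.card_bot] at hL
    exact hp.one_lt.ne hL
  have hlt := Coprime.commutator_lt_of_isPGroup (IsPGroup.of_card (n := 1) (hL.trans (pow_one p).symm))
    hA hAL hL0
  rcases (Nat.dvd_prime hp).mp (hL ▸ Subgroup.card_dvd_of_le hlt.le) with h | h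
  · exact Subgroup.commutator_eq_bot_iff_le_centralizer.mp (Subgroup.card_eq_one.mp h)
  · exact absurd (Coprime.eq_of_le_of_card_le hlt.le (hL.trans h.symm).le) hlt.ne

/-- The case of a group of order `p`: it is not generated by a transvection. -/
theorem lt_relIndex_of_card_prime {p : ℕ} [Fact p.Prime] (hp2 : p ≠ 2) {V A Q : Subgroup X}
    (hVc : IsMulCommutative V) (hVe : ∀ v ∈ V, v ^ p = 1) (hAc : Nat.card A = p)
    (hQc : IsMulCommutative Q) (hQcop : (Nat.card Q).Coprime p)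
    (hAV : A ≤ Subgroup.normalizer (V : Set X)) (hQV : Q ≤ Subgroup.normalizer (V : Set X))
    (hAQ : A ≤ Subgroup.normalizer (Q : Set X))
    (hQf : Q ⊓ Subgroup.centralizer (V : Set X) = ⊥)
    (hAQf : A ⊓ Subgroup.centralizer (Q : Set X) = ⊥) :
    p < (Subgroup.centralizer (A : Set X)).relIndex V := by
  have hp : p.Prime := Fact.out
  by_contra hle
  rw [not_lt] at hle
  obtain ⟨a, ha, ha1⟩ := (Subgroup.bot_or_exists_ne_one A).resolve_left fun h => by
    rw [h, Subgroup.card_bot] at hAc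
    exact hp.one_lt.ne hAc
  have hgen : Subgroup.zpowers a = A := by
    refine Coprime.eq_of_le_of_card_le (Subgroup.zpowers_le.mpr ha) ?_
    rcases (Nat.dvd_prime hp).mp (hAc ▸ A.orderOf_dvd_natCard ha) with h | h
    · exact absurd (orderOf_eq_one_iff.mp h) ha1
    · rw [Nat.card_zpowers, h, hAc]
  have hVp : IsPGroup p V := fun v => ⟨1, Subtype.ext (by simpa using hVe v v.2)⟩
  obtain ⟨n, hn⟩ := IsPGroup.iff_card.mp hVp
  obtain ⟨r₀, hr₀, hr₀a⟩ : ∃ r ∈ Q, r * a ≠ a * r := by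
    by_contra h
    push Not at h
    refine ha1 (Subgroup.mem_bot.mp (hAQf ▸ Subgroup.mem_inf.mpr ⟨ha, ?_⟩))
    exact Subgroup.mem_centralizer_iff.mpr h
  set C₁ := V ⊓ Subgroup.centralizer (A : Set X) with hC₁
  set C₂ := MulAut.conj r₀ • C₁ with hC₂
  have hC₂V : C₂ ≤ V := fun x hx => by
    rw [hC₂, Coprime.mem_conj_smul] at hx
    exact (Subgroup.mem_normalizer_iff''.mp (hQV hr₀) x).mpr (Subgroup.mem_inf.mp hx).1
  set C₀ := C₁ ⊓ C₂ with hC₀
  have hC₁i : C₁.relIndex V ≤ p := by rwa [hC₁, inf_comm, Subgroup.inf_relIndex_right]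
  have hC₂i : C₂.relIndex V = C₁.relIndex V := by
    have e1 := Coprime.relIndex_mul_card (inf_le_left : C₁ ≤ V)
    have e2 := Coprime.relIndex_mul_card hC₂V
    rw [hC₂, Coprime.card_conj_smul, ← hC₂] at e2
    exact Nat.eq_of_mul_eq_mul_left Nat.card_pos (e2.trans e1.symm)
  have hC₀i : C₀.relIndex V ≤ p * p :=
    Subgroup.relIndex_inf_le.trans (Nat.mul_le_mul hC₁i (hC₂i.le.trans hC₁i))
  set b := r₀ * a * r₀⁻¹ with hb
  have haC : a ∈ Subgroup.centralizer (C₀ : Set X) := by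
    refine Subgroup.mem_centralizer_iff.mpr fun x hx => ?_
    exact (Subgroup.mem_centralizer_iff.mp (Subgroup.mem_inf.mp (Subgroup.mem_inf.mp hx).1).2 a ha).symm
  have hbC : b ∈ Subgroup.centralizer (C₀ : Set X) := by
    refine Subgroup.mem_centralizer_iff.mpr fun x hx => ?_
    have h1 := (Subgroup.mem_inf.mp hx).2
    rw [hC₂, Coprime.mem_conj_smul] at h1
    have h2 := Subgroup.mem_centralizer_iff.mp (Subgroup.mem_inf.mp h1).2 a ha
    calc x * b = r₀ * ((r₀⁻¹ * x * r₀) * a) * r₀⁻¹ := by rw [hb]; group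
      _ = b * x := by rw [← h2, hb]; group
  set R := Q ⊓ Subgroup.centralizer (C₀ : Set X) with hR
  have hRQ : R ≤ Q := inf_le_left
  set c := a * r₀ * a⁻¹ * r₀⁻¹ with hc
  have hcR : c ∈ R := by
    refine Subgroup.mem_inf.mpr ⟨mul_mem (conj_mem_of_mem_normalizer (hAQ ha) hr₀) (inv_mem hr₀), ?_⟩
    have : c = a * b⁻¹ := by rw [hc, hb]; group
    rw [this]
    exact mul_mem haC (inv_mem hbC)
  have haR : a ∈ Subgroup.normalizer (R : Set X) :=
    Subgroup.inf_normalizer_le_normalizer_inf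
      (Subgroup.mem_inf.mpr ⟨hAQ ha, Subgroup.le_normalizer haC⟩)
  have hcop : (Nat.card A).Coprime (Nat.card Q) := hAc ▸ hQcop.symm
  have hca : a * c * a⁻¹ ≠ c := by
    intro h
    have h1 : c ∈ ⁅Q, A⁆ := by
      rw [Subgroup.commutator_comm, hc, ← commutatorElement_def]
      exact Subgroup.commutator_mem_commutator ha hr₀
    have h2 : c ∈ Subgroup.centralizer (A : Set X) := by
      rw [← hgen, Subgroup.mem_centralizer_iff]
      rintro _ ⟨i, rfl⟩
      exact (((show Commute a c from mul_inv_eq_iff_eq_mul.mp h)).zpow_left i).eq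
    have h3 : c ∈ (Q ⊓ Subgroup.centralizer (A : Set X)) ⊓ ⁅Q, A⁆ :=
      Subgroup.mem_inf.mpr ⟨Subgroup.mem_inf.mpr ⟨(Subgroup.mem_inf.mp hcR).1, h2⟩, h1⟩
    rw [(Cfsg.Agent.S0055.result A Q hAQ hcop).1, Subgroup.mem_bot, hc, mul_inv_eq_one,
      mul_inv_eq_iff_eq_mul] at h3
    exact hr₀a h3.symm
  -- the part of `V` moved by `R`
  have hRV : R ≤ Subgroup.normalizer (V : Set X) := hRQ.trans hQV
  have hRcop : (Nat.card R).Coprime (Nat.card V) :=
    hn ▸ Nat.Coprime.pow_right n (hQcop.coprime_dvd_left (Subgroup.card_dvd_of_le hRQ))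
  obtain ⟨hWbot, hWsup⟩ := Cfsg.Agent.S0055.result R V hRV hRcop
  set W := ⁅V, R⁆ with hW
  have hWV : W ≤ V := Coprime.commutator_le_of_le_normalizer hRV
  have hRW : R ≤ Subgroup.normalizer (W : Set X) := Subgroup.normalizer_commutator_ge_right V R
  have hAW : A ≤ Subgroup.normalizer (W : Set X) := by
    rw [← hgen, Subgroup.zpowers_le]
    refine Coprime.mem_normalizer_of_conj_smul_eq ?_
    rw [hW, Coprime.conj_smul_commutator, Coprime.conj_smul_eq_of_mem_normalizer (hAV ha),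
      Coprime.conj_smul_eq_of_mem_normalizer haR]
  have hfaith : ∀ r ∈ R, (∀ w ∈ W, r * w * r⁻¹ = w) → r = 1 := by
    intro r hr h
    refine Subgroup.mem_bot.mp (hQf ▸ Subgroup.mem_inf.mpr ⟨hRQ hr, ?_⟩)
    have hsub : V ≤ Subgroup.centralizer ({r} : Set X) := by
      conv_lhs => rw [← hWsup]
      refine sup_le (fun x hx => ?_) (fun x hx => ?_)
      · exact Subgroup.mem_centralizer_singleton_iff.mpr
          (Subgroup.mem_centralizer_iff.mp (Subgroup.mem_inf.mp hx).2 r hr).symm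
      · exact Subgroup.mem_centralizer_singleton_iff.mpr (mul_inv_eq_iff_eq_mul.mp (h x hx)).symm
    exact Subgroup.mem_centralizer_iff.mpr fun v hv =>
      Subgroup.mem_centralizer_singleton_iff.mp (hsub hv)
  have hAp : IsPGroup p A := IsPGroup.of_card (n := 1) (hAc.trans (pow_one p).symm)
  have hWnc : ¬ W ≤ Subgroup.centralizer (A : Set X) := by
    intro h
    have ha' : ∀ w ∈ W, a * w * a⁻¹ = w := fun w hw =>
      conj_eq_of_mem_centralizer (Subgroup.le_centralizer_iff.mp h ha) hw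
    have h1 : a * c * a⁻¹ * c⁻¹ = 1 := by
      refine hfaith _ (mul_mem (conj_mem_of_mem_normalizer haR hcR) (inv_mem hcR)) fun w hw => ?_
      have hw' : a⁻¹ * (c⁻¹ * w * c) * a = c⁻¹ * w * c := by
        have := ha' _ ((Subgroup.mem_normalizer_iff''.mp (hRW hcR) w).mp hw)
        calc a⁻¹ * (c⁻¹ * w * c) * a = a⁻¹ * (a * (c⁻¹ * w * c) * a⁻¹) * a := by rw [this]
          _ = _ := by group
      calc a * c * a⁻¹ * c⁻¹ * w * (a * c * a⁻¹ * c⁻¹)⁻¹
          = a * (c * (a⁻¹ * (c⁻¹ * w * c) * a) * c⁻¹) * a⁻¹ := by group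
        _ = a * w * a⁻¹ := by rw [hw']; group
        _ = w := ha' w hw
    exact hca (mul_inv_eq_one.mp h1)
  -- orders
  set L₀ := W ⊓ Subgroup.centralizer (A : Set X) with hL₀
  have hWcard : Nat.card W ≤ p * p := by
    have e1 := Coprime.card_sup_mul_card_inf (N := V ⊓ Subgroup.centralizer (R : Set X)) (H := W)
      (hWV.trans (by
        intro v hv
        refine Subgroup.le_normalizer_iff.mpr ?_ hv
        intro x hx y hy
        have hxy := Subgroup.mem_centralizer_iff.mp (Subgroup.le_centralizer V hx) y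
          (Subgroup.mem_inf.mp hy).1
        rw [← hxy, mul_inv_cancel_right]
        exact hy))
    rw [hWsup, hWbot, Subgroup.card_bot, mul_one] at e1
    have hC₀R : C₀ ≤ V ⊓ Subgroup.centralizer (R : Set X) :=
      le_inf (inf_le_left.trans inf_le_left) (Subgroup.le_centralizer_iff.mp inf_le_right)
    have e2 := Coprime.relIndex_mul_card (inf_le_left.trans inf_le_left : C₀ ≤ V)
    have h3 : Nat.card (V ⊓ Subgroup.centralizer (R : Set X) : Subgroup X) * Nat.card W ≤
        Nat.card (V ⊓ Subgroup.centralizer (R : Set X) : Subgroup X) * (p * p) := by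
      rw [← e1, ← e2]
      exact Nat.mul_le_mul (Subgroup.card_le_of_le hC₀R) hC₀i
    exact Nat.le_of_mul_le_mul_left h3 Nat.card_pos
  have hW0 : W ≠ ⊥ := fun h => hWnc (by rw [h]; exact bot_le)
  have hWp : IsPGroup p W := hVp.to_le hWV
  have hWc : Nat.card W = p ^ 2 := by
    obtain ⟨j, hj, hjc⟩ := Coprime.exists_card_eq_prime_pow hp hWp hW0
    have hj1 : j ≠ 1 := by
      rintro rfl
      exact hWnc (le_centralizer_of_card_prime hAp hAW (hjc.trans (pow_one p)))
    have hj2 : j ≤ 2 := by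
      rw [hjc, ← pow_two] at hWcard
      exact (Nat.pow_le_pow_iff_right hp.one_lt).mp hWcard
    rw [hjc, show j = 2 by omega]
  have hline : ∀ L : Subgroup X, L ≤ W → L ≠ ⊥ → L ≠ W → Nat.card L = p := by
    intro L hL h0 h1
    obtain ⟨j, hj, hjc⟩ := Coprime.exists_card_eq_prime_pow hp (hWp.to_le hL) h0
    have hlt : Nat.card L < p ^ 2 := by
      rw [← hWc]
      exact lt_of_not_ge fun h => h1 (Coprime.eq_of_le_of_card_le hL h)
    rw [hjc] at hlt ⊢
    rw [show j = 1 by have := (Nat.pow_lt_pow_iff_right hp.one_lt).mp hlt; omega, pow_one]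
  have hD : ⁅W, A⁆ ≠ ⊥ ∧ ⁅W, A⁆ < W :=
    ⟨fun h => hWnc (Subgroup.commutator_eq_bot_iff_le_centralizer.mp h),
      Coprime.commutator_lt_of_isPGroup hWp hAp hAW hW0⟩
  have hDL : ⁅W, A⁆ ≤ L₀ := le_inf hD.2.le (le_centralizer_of_card_prime hAp
    (Subgroup.normalizer_commutator_ge_right W A) (hline _ hD.2.le hD.1 hD.2.ne))
  have hL0n : L₀ ≠ W := fun h => hWnc (h ▸ inf_le_right)
  have hL0c : Nat.card L₀ = p :=
    hline L₀ inf_le_left (fun h => hD.1 (le_bot_iff.mp (h ▸ hDL))) hL0n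
  -- an element of `R` preserving `L₀` commutes with `a`
  have hfix : ∀ r ∈ R, r ∈ Subgroup.normalizer (L₀ : Set X) → a * r * a⁻¹ = r := by
    intro r hr hrL
    let S : Subgroup X :=
      { carrier := {g | (∀ w ∈ W, g * w * g⁻¹ * w⁻¹ ∈ L₀) ∧ g ∈ Subgroup.centralizer (L₀ : Set X)}
        one_mem' := ⟨fun w _ => by simp, one_mem _⟩
        mul_mem' := fun {g h} hg hh => ⟨fun w hw => by
          have h1 := hh.1 w hw
          have h2 : g * (h * w * h⁻¹ * w⁻¹) * g⁻¹ = h * w * h⁻¹ * w⁻¹ :=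
            conj_eq_of_mem_centralizer hg.2 h1
          have h3 : g * h * w * (g * h)⁻¹ * w⁻¹ =
              g * (h * w * h⁻¹ * w⁻¹) * g⁻¹ * (g * w * g⁻¹ * w⁻¹) := by group
          rw [h3, h2]
          exact mul_mem h1 (hg.1 w hw), mul_mem hg.2 hh.2⟩
        inv_mem' := fun {g} hg => ⟨fun w hw => by
          have h1 : g⁻¹ * (g * w * g⁻¹ * w⁻¹)⁻¹ * g⁻¹⁻¹ = (g * w * g⁻¹ * w⁻¹)⁻¹ :=
            conj_eq_of_mem_centralizer (inv_mem hg.2) (inv_mem (hg.1 w hw))
          have h2 : g⁻¹ * w * g⁻¹⁻¹ * w⁻¹ = g⁻¹ * (g * w * g⁻¹ * w⁻¹)⁻¹ * g⁻¹⁻¹ := by group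
          rw [h2, h1]
          exact inv_mem (hg.1 w hw), inv_mem hg.2⟩ }
    have haS : a ∈ S := ⟨fun w hw => by
      have h := inv_mem (Subgroup.commutator_mem_commutator hw ha)
      exact hDL (by simpa [commutatorElement_def, mul_assoc] using h),
      Subgroup.le_centralizer_iff.mp inf_le_right ha⟩
    have hbS : r * a * r⁻¹ ∈ S := by
      refine ⟨fun w hw => ?_, Subgroup.mem_centralizer_iff.mpr fun l hl => ?_⟩
      · have hw' : r⁻¹ * w * r ∈ W := (Subgroup.mem_normalizer_iff''.mp (hRW hr) w).mp hw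
        have := conj_mem_of_mem_normalizer hrL (haS.1 _ hw')
        simpa [mul_assoc] using this
      · have h1 := Subgroup.mem_centralizer_iff.mp haS.2 _
          ((Subgroup.mem_normalizer_iff''.mp hrL l).mp hl)
        calc l * (r * a * r⁻¹) = r * ((r⁻¹ * l * r) * a) * r⁻¹ := by group
          _ = r * a * r⁻¹ * l := by rw [h1]; group
    set u := a * r * a⁻¹ * r⁻¹ with hu
    have huR : u ∈ R := mul_mem (conj_mem_of_mem_normalizer haR hr) (inv_mem hr)
    have huS : u ∈ S := by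
      have : u = a * (r * a * r⁻¹)⁻¹ := by rw [hu]; group
      rw [this]
      exact mul_mem haS (inv_mem hbS)
    have hWL : W ≤ Subgroup.normalizer (L₀ : Set X) := by
      rw [Subgroup.le_normalizer_iff]
      intro w hw l hl
      have hwl := Subgroup.mem_centralizer_iff.mp (Subgroup.le_centralizer V (hWV hw)) l
        (hWV (Subgroup.mem_inf.mp hl).1)
      rw [← hwl, mul_inv_cancel_right]
      exact hl
    have hcu : (Nat.card (Subgroup.zpowers u)).Coprime (Nat.card L₀) := by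
      rw [hL0c]
      exact (hQcop.coprime_dvd_left (Subgroup.card_dvd_of_le hRQ)).coprime_dvd_left
        (Subgroup.card_dvd_of_le (Subgroup.zpowers_le.mpr huR))
    have hS : Subgroup.zpowers u ≤ S := Subgroup.zpowers_le.mpr huS
    have hstab := Coprime.le_centralizer_of_stabilizes (K := W)
      (fun g hg => Subgroup.centralizer_le_normalizer _ (hS hg).2) hWL hcu
      (fun g hg w hw => (hS hg).1 w hw) (fun g hg => (hS hg).2)
    have := hfaith u huR fun w hw =>
      conj_eq_of_mem_centralizer (hstab (Subgroup.mem_zpowers u)) hw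
    rw [hu, mul_inv_eq_one] at this
    exact this
  obtain ⟨r, hr, hrL⟩ : ∃ r ∈ R, r ∉ Subgroup.normalizer (L₀ : Set X) := by
    by_contra h
    push Not at h
    exact hca (hfix c hcR (h c hcR))
  have hWcomm : ∀ x ∈ W, ∀ y ∈ W, Commute x y := fun x hx y hy =>
    congrArg Subtype.val (hVc.is_comm.comm (⟨x, hWV hx⟩ : V) ⟨y, hWV hy⟩)
  -- two elements outside a common line generate `W`
  have hspan : ∀ e ∈ W, e ≠ 1 → ∀ f ∈ W, f ∉ Subgroup.zpowers e →
      ∀ w ∈ W, ∃ i j : ℤ, w = e ^ i * f ^ j := by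
    intro e he he1 f hf hfe w hw
    have hle : Subgroup.zpowers e ⊔ Subgroup.zpowers f ≤ W :=
      sup_le (Subgroup.zpowers_le.mpr he) (Subgroup.zpowers_le.mpr hf)
    have heq : Subgroup.zpowers e ⊔ Subgroup.zpowers f = W := by
      by_contra hne
      have h1 := hline _ hle (fun h => he1 (Subgroup.mem_bot.mp
        (h ▸ Subgroup.mem_sup_left (Subgroup.mem_zpowers e)))) hne
      have h2 : orderOf e = p := by
        rcases (Nat.dvd_prime hp).mp (orderOf_dvd_of_pow_eq_one (hVe e (hWV he))) with h | h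
        · exact absurd (orderOf_eq_one_iff.mp h) he1
        · exact h
      have h3 := Coprime.eq_of_le_of_card_le (le_sup_left : Subgroup.zpowers e ≤ _)
        (by rw [h1, Nat.card_zpowers, h2] : Nat.card (Subgroup.zpowers e ⊔ Subgroup.zpowers f : Subgroup X) ≤ _)
      exact hfe (h3 ▸ Subgroup.mem_sup_right (Subgroup.mem_zpowers f))
    rw [← heq] at hw
    obtain ⟨_, ⟨i, rfl⟩, _, ⟨j, rfl⟩, h⟩ := Coprime.exists_mul_of_mem_sup (by
      rw [Subgroup.le_normalizer_iff]
      rintro x hx y hy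
      rw [(hWcomm x (Subgroup.zpowers_le.mpr hf hx) y (Subgroup.zpowers_le.mpr he hy)).eq,
        mul_inv_cancel_right]
      exact hy) hw
    exact ⟨i, j, h⟩
  -- no line is invariant under all of `R`
  have hnoline : ∀ L : Subgroup X, L ≤ W → Nat.card L = p →
      R ≤ Subgroup.normalizer (L : Set X) → False := by
    intro L hLW hLc hRL
    obtain ⟨e, he, he1⟩ := (Subgroup.bot_or_exists_ne_one L).resolve_left fun h => by
      rw [h, Subgroup.card_bot] at hLc
      exact hp.one_lt.ne hLc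
    have hLe : Subgroup.zpowers e = L := by
      refine Coprime.eq_of_le_of_card_le (Subgroup.zpowers_le.mpr he) ?_
      rcases (Nat.dvd_prime hp).mp (hLc ▸ L.orderOf_dvd_natCard he) with h | h
      · exact absurd (orderOf_eq_one_iff.mp h) he1
      · rw [Nat.card_zpowers, h, hLc]
    set f := a * e * a⁻¹ with hf
    have hfW : f ∈ W := conj_mem_of_mem_normalizer (hAW ha) (hLW he)
    have hfe : f ∉ Subgroup.zpowers e := by
      intro h
      have hnorm : A ≤ Subgroup.normalizer (L : Set X) := by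
        rw [← hgen, Subgroup.zpowers_le]
        refine Coprime.mem_normalizer_of_conj_smul_eq
          (Coprime.eq_of_le_of_card_le ?_ (Coprime.card_conj_smul a L).ge)
        intro x hx
        rw [Coprime.mem_conj_smul, ← hLe] at hx
        obtain ⟨i, hi⟩ := hx
        have : x = f ^ i := by
          rw [hf, ← MulAut.conj_apply, ← map_zpow, MulAut.conj_apply, show e ^ i = a⁻¹ * x * a from hi]
          group
        rw [this, ← hLe]
        exact zpow_mem h i
      have hLC := le_centralizer_of_card_prime hAp hnorm hLc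
      have hLL : L = L₀ := Coprime.eq_of_le_of_card_le (le_inf hLW hLC) (hL0c.trans hLc.symm).le
      exact hrL (hLL ▸ hRL hr)
    -- three invariant lines make `r` act as a scalar
    have hr' : a⁻¹ * r * a ∈ R := by
      simpa using conj_mem_of_mem_normalizer (inv_mem haR) hr
    have hr'' : a⁻¹ * (a⁻¹ * r * a) * a ∈ R := by
      simpa using conj_mem_of_mem_normalizer (inv_mem haR) hr'
    obtain ⟨k, hk⟩ : r * e * r⁻¹ ∈ Subgroup.zpowers e := by
      rw [hLe]; exact conj_mem_of_mem_normalizer (hRL hr) he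
    obtain ⟨l, hl⟩ : (a⁻¹ * r * a) * e * (a⁻¹ * r * a)⁻¹ ∈ Subgroup.zpowers e := by
      rw [hLe]; exact conj_mem_of_mem_normalizer (hRL hr') he
    obtain ⟨m, hm⟩ : (a⁻¹ * (a⁻¹ * r * a) * a) * e * (a⁻¹ * (a⁻¹ * r * a) * a)⁻¹ ∈
        Subgroup.zpowers e := by
      rw [hLe]; exact conj_mem_of_mem_normalizer (hRL hr'') he
    have hk' : e ^ k = r * e * r⁻¹ := hk
    have hl' : r * f * r⁻¹ = f ^ l := by
      rw [hf, ← MulAut.conj_apply (g := a), ← map_zpow, MulAut.conj_apply, show e ^ l = _ from hl]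
      simp only [MulAut.conj_apply]
      group
    set g₃ := a * f * a⁻¹ with hg₃
    have hm' : r * g₃ * r⁻¹ = g₃ ^ m := by
      have : g₃ = (a * a) * e * (a * a)⁻¹ := by rw [hg₃, hf]; group
      rw [this, ← MulAut.conj_apply (g := a * a), ← map_zpow, MulAut.conj_apply,
        show e ^ m = _ from hm]
      simp only [MulAut.conj_apply]
      group
    have hg₃W : g₃ ∈ W := conj_mem_of_mem_normalizer (hAW ha) hfW
    obtain ⟨i, j, hij⟩ := hspan e (hLW he) he1 f hfW hfe g₃ hg₃W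
    have hef : Commute e f := hWcomm e (hLW he) f hfW
    -- compare the two expressions for the conjugate of `g₃`
    have hcmp : e ^ (k * i) * f ^ (l * j) = e ^ (i * m) * f ^ (j * m) := by
      have h1 : r * g₃ * r⁻¹ = e ^ (k * i) * f ^ (l * j) := by
        rw [hij, ← MulAut.conj_apply, map_mul, map_zpow, map_zpow, MulAut.conj_apply,
          MulAut.conj_apply, ← hk', hl', ← zpow_mul, ← zpow_mul]
      have h2 : r * g₃ * r⁻¹ = e ^ (i * m) * f ^ (j * m) := by
        rw [hm', hij, (hef.zpow_zpow i j).mul_zpow, ← zpow_mul, ← zpow_mul]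
      exact h1.symm.trans h2
    have heo : orderOf e = p := by
      rw [← Nat.card_zpowers, hLe, hLc]
    have hfo : orderOf f = p := by
      rw [hf]; exact (orderOf_injective (MulAut.conj a).toMonoidHom (MulAut.conj a).injective e).trans heo
    have hind : ∀ u v : ℤ, e ^ u * f ^ v = 1 → (p : ℤ) ∣ u ∧ (p : ℤ) ∣ v := by
      intro u v h
      have hv : (p : ℤ) ∣ v := by
        by_contra hv
        apply hfe
        have h1 : f ^ v ∈ Subgroup.zpowers e := by
          rw [eq_inv_of_mul_eq_one_right h]; exact inv_mem ⟨u, rfl⟩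
        obtain ⟨s, t, hst⟩ : ∃ s t : ℤ, s * v + t * p = 1 :=
          (((Nat.prime_iff_prime_int.mp hp).coprime_iff_not_dvd).mpr hv).symm
        have h2 : f = (f ^ v) ^ s * (f ^ (p : ℤ)) ^ t := by
          rw [← zpow_mul, ← zpow_mul, ← zpow_add, mul_comm v s, mul_comm (p : ℤ) t, hst, zpow_one]
        rw [h2, zpow_natCast, ← hfo, pow_orderOf_eq_one, one_zpow, mul_one]
        exact zpow_mem h1 s
      refine ⟨?_, hv⟩
      rw [← hfo] at hv
      rw [orderOf_dvd_iff_zpow_eq_one.mp hv, mul_one] at h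
      rw [← heo]
      exact orderOf_dvd_iff_zpow_eq_one.mpr h
    have h5 : e ^ (k * i - i * m) * f ^ (l * j - j * m) = 1 := by
      rw [zpow_sub, zpow_sub]
      calc e ^ (k * i) * (e ^ (i * m))⁻¹ * (f ^ (l * j) * (f ^ (j * m))⁻¹)
          = e ^ (k * i) * ((e ^ (i * m))⁻¹ * f ^ (l * j)) * (f ^ (j * m))⁻¹ := by group
        _ = e ^ (k * i) * (f ^ (l * j) * (e ^ (i * m))⁻¹) * (f ^ (j * m))⁻¹ := by
            rw [(hef.zpow_zpow (i * m) (l * j)).inv_left.eq]
        _ = (e ^ (k * i) * f ^ (l * j)) * ((e ^ (i * m))⁻¹ * (f ^ (j * m))⁻¹) := by group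
        _ = 1 := by
            rw [hcmp, (hef.zpow_zpow (i * m) (j * m)).inv_inv.eq]
            group
    obtain ⟨h6, h7⟩ := hind _ _ h5
    have hpi : ¬ (p : ℤ) ∣ i := by
      intro hd
      rw [← heo] at hd
      rw [orderOf_dvd_iff_zpow_eq_one.mp hd, one_mul] at hij
      -- then `a` preserves the line of `f`, hence that of `e`
      apply hfe
      obtain ⟨s, rfl⟩ : ∃ s : ℤ, j = s := ⟨j, rfl⟩
      have h8 : e = a⁻¹ * (a⁻¹ * g₃ * a) * a := by rw [hg₃, hf]; group
      have h9 : a⁻¹ * g₃ * a = e ^ j := by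
        rw [hij, ← MulAut.conj_inv_apply, map_zpow, MulAut.conj_inv_apply, hf]
        congr 1; group
      have h10 : f = e ^ j := by rw [← h9, hg₃]; group
      exact h10 ▸ ⟨j, rfl⟩
    have hpj : ¬ (p : ℤ) ∣ j := by
      intro hd
      rw [← hfo] at hd
      rw [orderOf_dvd_iff_zpow_eq_one.mp hd, mul_one] at hij
      -- then `a * a` preserves the line of `e`, hence so does `a`
      apply hfe
      have ha2 : ∀ t : ℕ, (a * a) ^ t * e * ((a * a) ^ t)⁻¹ ∈ Subgroup.zpowers e := by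
        intro t
        induction t with
        | zero => simp
        | succ t ih =>
          obtain ⟨s, hs⟩ := ih
          have h8 : (a * a) * e * (a * a)⁻¹ = e ^ i := by rw [← hij, hg₃, hf]; group
          have : (a * a) ^ (t + 1) * e * ((a * a) ^ (t + 1))⁻¹ = (e ^ i) ^ s := by
            rw [← h8, conj_zpow, show e ^ s = _ from hs, pow_succ']
            simp only [mul_inv_rev, mul_assoc]
          rw [this]
          exact zpow_mem (show e ^ i ∈ Subgroup.zpowers e from ⟨i, rfl⟩) s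
      obtain ⟨t, ht⟩ := hp.odd_of_ne_two hp2
      have hap : a ^ p = 1 := by
        rw [← hAc]; exact orderOf_dvd_iff_pow_eq_one.mp (A.orderOf_dvd_natCard ha)
      have h9 : (a * a) ^ (t + 1) = a := by
        rw [← pow_two, ← pow_mul, show 2 * (t + 1) = p + 1 by omega, pow_succ, hap, one_mul]
      have := ha2 (t + 1)
      rwa [h9] at this
    have hkm : (p : ℤ) ∣ k - m := by
      have : (p : ℤ) ∣ i * (k - m) := by
        have e' : k * i - i * m = i * (k - m) := by ring
        rwa [e'] at h6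
      exact ((Nat.prime_iff_prime_int.mp hp).dvd_or_dvd this).resolve_left hpi
    have hlm : (p : ℤ) ∣ l - m := by
      have : (p : ℤ) ∣ j * (l - m) := by
        have e' : l * j - j * m = j * (l - m) := by ring
        rwa [e'] at h7
      exact ((Nat.prime_iff_prime_int.mp hp).dvd_or_dvd this).resolve_left hpj
    have hpow : ∀ x ∈ W, ∀ u v : ℤ, (p : ℤ) ∣ u - v → x ^ u = x ^ v := by
      intro x hx u v ⟨t, ht⟩
      rw [sub_eq_iff_eq_add.mp ht, zpow_add, zpow_mul, zpow_natCast, hVe x (hWV hx), one_zpow,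
        one_mul]
    -- `r` is the scalar `k`, so it preserves `L₀`
    refine hrL (Coprime.mem_normalizer_of_conj_smul_eq
      (Coprime.eq_of_le_of_card_le ?_ (Coprime.card_conj_smul r L₀).ge))
    intro x hx
    rw [Coprime.mem_conj_smul] at hx
    obtain ⟨s, t, hst⟩ := hspan e (hLW he) he1 f hfW hfe _ (Subgroup.mem_inf.mp hx).1
    have hxk : x = (r⁻¹ * x * r) ^ k := by
      calc x = r * (e ^ s * f ^ t) * r⁻¹ := by rw [← hst]; group
        _ = (e ^ k) ^ s * (f ^ l) ^ t := by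
            rw [← MulAut.conj_apply, map_mul, map_zpow, map_zpow, MulAut.conj_apply,
              MulAut.conj_apply, ← hk', hl']
        _ = (e ^ k) ^ s * (f ^ k) ^ t := by
            rw [hpow f hfW l k (by have := hlm.sub hkm; simpa using this)]
        _ = (e ^ s) ^ k * (f ^ t) ^ k := by
            rw [← zpow_mul, ← zpow_mul, ← zpow_mul, ← zpow_mul, mul_comm k s, mul_comm k t]
        _ = _ := by rw [hst, (hef.zpow_zpow s t).mul_zpow]
    rw [hxk]
    exact zpow_mem hx k
  -- `r` satisfies a quadratic relation on `W`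
  obtain ⟨e, he, he1⟩ := (Subgroup.bot_or_exists_ne_one L₀).resolve_left fun h => by
    rw [h, Subgroup.card_bot] at hL0c
    exact hp.one_lt.ne hL0c
  have hL0e : Subgroup.zpowers e = L₀ := by
    refine Coprime.eq_of_le_of_card_le (Subgroup.zpowers_le.mpr he) ?_
    rcases (Nat.dvd_prime hp).mp (hL0c ▸ L₀.orderOf_dvd_natCard he) with h | h
    · exact absurd (orderOf_eq_one_iff.mp h) he1
    · rw [Nat.card_zpowers, h, hL0c]
  have heW : e ∈ W := (Subgroup.mem_inf.mp he).1
  set f := r * e * r⁻¹ with hf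
  have hfW : f ∈ W := conj_mem_of_mem_normalizer (hRW hr) heW
  have hfe : f ∉ Subgroup.zpowers e := by
    intro h
    refine hrL (Coprime.mem_normalizer_of_conj_smul_eq
      (Coprime.eq_of_le_of_card_le ?_ (Coprime.card_conj_smul r L₀).ge))
    intro x hx
    rw [Coprime.mem_conj_smul, ← hL0e] at hx
    obtain ⟨i, hi⟩ := hx
    have : x = f ^ i := by
      rw [hf, ← MulAut.conj_apply, ← map_zpow, MulAut.conj_apply, show e ^ i = r⁻¹ * x * r from hi]
      group
    rw [this, ← hL0e]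
    exact zpow_mem h i
  obtain ⟨x₀, y₀, hxy⟩ := hspan e heW he1 f hfW hfe (r * f * r⁻¹) (conj_mem_of_mem_normalizer (hRW hr) hfW)
  have hquad : ∀ w ∈ W, r * (r * w * r⁻¹) * r⁻¹ = w ^ x₀ * (r * w * r⁻¹) ^ y₀ := by
    have hcW : ∀ u ∈ W, r * u * r⁻¹ ∈ W := fun u hu => conj_mem_of_mem_normalizer (hRW hr) hu
    let T : Subgroup X :=
      { carrier := {w | w ∈ W ∧ r * (r * w * r⁻¹) * r⁻¹ = w ^ x₀ * (r * w * r⁻¹) ^ y₀}
        one_mem' := ⟨one_mem _, by simp⟩
        mul_mem' := fun {u v} hu hv => ⟨mul_mem hu.1 hv.1, by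
          have e1 : r * (r * (u * v) * r⁻¹) * r⁻¹ =
              (r * (r * u * r⁻¹) * r⁻¹) * (r * (r * v * r⁻¹) * r⁻¹) := by group
          rw [e1, hu.2, hv.2, (hWcomm u hu.1 v hv.1).mul_zpow,
            show r * (u * v) * r⁻¹ = r * u * r⁻¹ * (r * v * r⁻¹) by group,
            (hWcomm _ (hcW u hu.1) _ (hcW v hv.1)).mul_zpow]
          exact (hWcomm _ (zpow_mem (hcW u hu.1) y₀) _ (zpow_mem hv.1 x₀)).mul_mul_mul_comm _ _⟩
        inv_mem' := fun {u} hu => ⟨inv_mem hu.1, by
          have e1 : r * (r * u⁻¹ * r⁻¹) * r⁻¹ = (r * (r * u * r⁻¹) * r⁻¹)⁻¹ := by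
            simp only [mul_inv_rev, inv_inv, mul_assoc]
          rw [e1, hu.2, show r * u⁻¹ * r⁻¹ = (r * u * r⁻¹)⁻¹ by group, inv_zpow, inv_zpow,
            mul_inv_rev]
          exact ((hWcomm _ (zpow_mem hu.1 x₀) _ (zpow_mem (hcW u hu.1) y₀)).inv_inv).symm.eq⟩ }
    have heT : e ∈ T := ⟨heW, hxy⟩
    have hfT : f ∈ T := ⟨hfW, by
      rw [hxy, show r * (e ^ x₀ * f ^ y₀) * r⁻¹ = r * e ^ x₀ * r⁻¹ * (r * f ^ y₀ * r⁻¹) by group,
        ← conj_zpow, ← conj_zpow, ← hf, hxy]⟩
    intro w hw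
    obtain ⟨i, j, rfl⟩ := hspan e heW he1 f hfW hfe w hw
    exact (mul_mem (zpow_mem heT i) (zpow_mem hfT j)).2
  -- every conjugate of `r` under `a` is one of two elements
  have hQcomm : ∀ u ∈ Q, ∀ v ∈ Q, Commute u v := fun u hu v hv =>
    congrArg Subtype.val (hQc.is_comm.comm (⟨u, hu⟩ : Q) ⟨v, hv⟩)
  have htwo : ∀ s ∈ R, (∀ w ∈ W, s * (s * w * s⁻¹) * s⁻¹ = w ^ x₀ * (s * w * s⁻¹) ^ y₀) →
      s ≠ r → ∀ w ∈ W, s * w * s⁻¹ = w ^ y₀ * (r * w * r⁻¹)⁻¹ := by
    intro s hs hsq hne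
    have hcW : ∀ u ∈ R, ∀ w : W, u * (w : X) * u⁻¹ ∈ W := fun u hu w =>
      conj_mem_of_mem_normalizer (hRW hu) w.2
    let g : W →* W :=
      { toFun := fun w => ⟨(s * w * s⁻¹) * (r * w * r⁻¹)⁻¹, mul_mem (hcW s hs w) (inv_mem (hcW r hr w))⟩
        map_one' := Subtype.ext (by simp)
        map_mul' := fun u v => by
          apply Subtype.ext
          simp only [Subgroup.coe_mul]
          have h1 := (hWcomm _ (hcW s hs v) _ (inv_mem (hcW r hr u))).eq
          have h2 := (hWcomm _ (inv_mem (hcW r hr v)) _ (inv_mem (hcW r hr u))).eq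
          calc s * ((u : X) * v) * s⁻¹ * (r * ((u : X) * v) * r⁻¹)⁻¹
              = (s * u * s⁻¹) * ((s * v * s⁻¹) * ((r * v * r⁻¹)⁻¹ * (r * u * r⁻¹)⁻¹)) := by group
            _ = (s * u * s⁻¹) * ((s * v * s⁻¹) * (r * u * r⁻¹)⁻¹ * (r * v * r⁻¹)⁻¹) := by
                rw [h2]; group
            _ = _ := by rw [h1]; group }
    have hgR : ∀ (u : X) (hu : u ∈ R) (w : W), ((g ⟨u * w * u⁻¹, hcW u hu w⟩ : W) : X) = u * (g w : X) * u⁻¹ := by
      intro u hu w
      have hsu := (hQcomm s (hRQ hs) u (hRQ hu)).eq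
      have hru := (hQcomm r (hRQ hr) u (hRQ hu)).eq
      show s * (u * w * u⁻¹) * s⁻¹ * (r * (u * w * u⁻¹) * r⁻¹)⁻¹ = _
      calc s * (u * w * u⁻¹) * s⁻¹ * (r * (u * w * u⁻¹) * r⁻¹)⁻¹
          = (s * u) * w * (s * u)⁻¹ * ((r * u) * w * (r * u)⁻¹)⁻¹ := by group
        _ = (u * s) * w * (u * s)⁻¹ * ((u * r) * w * (u * r)⁻¹)⁻¹ := by rw [hsu, hru]
        _ = u * (s * w * s⁻¹ * (r * w * r⁻¹)⁻¹) * u⁻¹ := by group
    have hker : g.ker = ⊥ := by
      have hKn : R ≤ Subgroup.normalizer ((g.ker.map W.subtype : Subgroup X) : Set X) := by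
        rw [Subgroup.le_normalizer_iff]
        rintro u hu _ ⟨w, hw, rfl⟩
        refine ⟨⟨u * w * u⁻¹, hcW u hu w⟩, ?_, rfl⟩
        apply Subtype.ext
        rw [hgR u hu w, show g w = 1 from hw]
        simp
      by_contra h0
      have h0' : g.ker.map W.subtype ≠ ⊥ := fun h =>
        h0 ((Subgroup.map_eq_bot_iff_of_injective _ W.subtype_injective).mp h)
      by_cases htop : g.ker.map W.subtype = W
      · apply hne
        have : r⁻¹ * s = 1 := by
          refine hfaith _ (mul_mem (inv_mem hr) hs) fun w hw => ?_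
          obtain ⟨w', hw', rfl⟩ : w ∈ g.ker.map W.subtype := by rw [htop]; exact hw
          have h1 : s * (w' : X) * s⁻¹ * (r * w' * r⁻¹)⁻¹ = 1 := congrArg Subtype.val hw'
          rw [mul_inv_eq_one] at h1
          show r⁻¹ * s * (w' : X) * (r⁻¹ * s)⁻¹ = w'
          calc r⁻¹ * s * (w' : X) * (r⁻¹ * s)⁻¹ = r⁻¹ * (s * w' * s⁻¹) * r := by group
            _ = w' := by rw [h1]; group
        exact (inv_mul_eq_one.mp this).symm
      · exact hnoline _ (Subgroup.map_subtype_le _) (hline _ (Subgroup.map_subtype_le _) h0' htop) hKn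
    have hgs : Function.Surjective g := Finite.surjective_of_injective ((MonoidHom.ker_eq_bot_iff g).mp hker)
    intro w hw
    obtain ⟨v, hv⟩ := hgs ⟨w, hw⟩
    have hv' : s * (v : X) * s⁻¹ * (r * v * r⁻¹)⁻¹ = w := congrArg Subtype.val hv
    have hv2 := v.2
    set S := s * (v : X) * s⁻¹ with hS
    set R' := r * (v : X) * r⁻¹ with hR'
    have hSW : S ∈ W := conj_mem_of_mem_normalizer (hRW hs) hv2
    have hRW' : R' ∈ W := conj_mem_of_mem_normalizer (hRW hr) hv2
    have hsr := (hQcomm s (hRQ hs) r (hRQ hr)).eq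
    have hswap : s * R' * s⁻¹ = r * S * r⁻¹ := by
      rw [hR', hS]
      calc s * (r * v * r⁻¹) * s⁻¹ = (s * r) * v * (s * r)⁻¹ := by group
        _ = (r * s) * v * (r * s)⁻¹ := by rw [hsr]
        _ = _ := by group
    rw [← hv']
    have eS : s * S * s⁻¹ = (v : X) ^ x₀ * S ^ y₀ := hsq v hv2
    have eR : r * R' * r⁻¹ = (v : X) ^ x₀ * R' ^ y₀ := hquad v hv2
    set T := r * S * r⁻¹ with hT
    have hTW : T ∈ W := conj_mem_of_mem_normalizer (hRW hr) hSW
    have lhs : s * (S * R'⁻¹) * s⁻¹ = (v : X) ^ x₀ * S ^ y₀ * T⁻¹ := by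
      rw [← eS, ← hswap]; group
    have rhs : r * (S * R'⁻¹) * r⁻¹ = T * ((v : X) ^ x₀ * R' ^ y₀)⁻¹ := by
      rw [← eR, hT]; group
    rw [lhs, rhs, (hWcomm S hSW R'⁻¹ (inv_mem hRW')).mul_zpow, inv_zpow']
    have c1 := (hWcomm _ (zpow_mem hv2 x₀) _ (zpow_mem hSW y₀)).eq
    have c2 := (hWcomm _ (zpow_mem hRW' (-y₀)) _ (mul_mem (zpow_mem hv2 x₀) (zpow_mem hRW' y₀))).eq
    calc (v : X) ^ x₀ * S ^ y₀ * T⁻¹ = S ^ y₀ * (v : X) ^ x₀ * T⁻¹ := by rw [c1]
      _ = S ^ y₀ * ((v : X) ^ x₀ * R' ^ y₀ * R' ^ (-y₀)) * T⁻¹ := by group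
      _ = S ^ y₀ * R' ^ (-y₀) * (((v : X) ^ x₀ * R' ^ y₀) * T⁻¹) := by rw [← c2]; group
      _ = _ := by group
  have hconjq : ∀ s : X, (∀ w ∈ W, s * (s * w * s⁻¹) * s⁻¹ = w ^ x₀ * (s * w * s⁻¹) ^ y₀) →
      ∀ w ∈ W, (a * s * a⁻¹) * ((a * s * a⁻¹) * w * (a * s * a⁻¹)⁻¹) * (a * s * a⁻¹)⁻¹ =
        w ^ x₀ * ((a * s * a⁻¹) * w * (a * s * a⁻¹)⁻¹) ^ y₀ := by
    intro s hsq w hw
    have hw' : a⁻¹ * w * a ∈ W := (Subgroup.mem_normalizer_iff''.mp (hAW ha) w).mp hw
    have h := congrArg (fun z => MulAut.conj a z) (hsq _ hw')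
    simp only [map_mul, map_zpow, MulAut.conj_apply] at h
    convert h using 1 <;> group
  set r' := a * r * a⁻¹ with hr'
  set r'' := a * r' * a⁻¹ with hr''
  have hr'R : r' ∈ R := conj_mem_of_mem_normalizer haR hr
  have hr''R : r'' ∈ R := conj_mem_of_mem_normalizer haR hr'R
  have hcomm_r : a * r * a⁻¹ = r → False := fun h => by
    have hra : Commute r a := (mul_inv_eq_iff_eq_mul.mp h).symm
    refine hrL (Coprime.mem_normalizer_of_conj_smul_eq ?_)
    rw [hL₀, Subgroup.smul_inf, Coprime.conj_smul_eq_of_mem_normalizer (hRW hr),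
      Coprime.conj_smul_eq_of_mem_normalizer]
    refine Subgroup.le_normalizer ?_
    rw [← hgen, Subgroup.mem_centralizer_iff]
    rintro _ ⟨i, rfl⟩
    exact ((hra.zpow_right i).symm).eq
  have hsq' := hconjq r hquad
  have hsq'' := hconjq r' hsq'
  have hne' : r' ≠ r := hcomm_r
  by_cases h'' : r'' = r
  · -- then `a` has order two modulo the centralizer of `r`
    have h2 : Commute (a ^ 2) r := by
      rw [hr'', hr'] at h''
      have : a ^ 2 * r * (a ^ 2)⁻¹ = r := by
        calc a ^ 2 * r * (a ^ 2)⁻¹ = a * (a * r * a⁻¹) * a⁻¹ := by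
              simp only [pow_two, mul_inv_rev, mul_assoc]
          _ = r := h''
      exact mul_inv_eq_iff_eq_mul.mp this
    obtain ⟨t, ht⟩ := hp.odd_of_ne_two hp2
    have hap : a ^ p = 1 := by
      rw [← hAc]; exact orderOf_dvd_iff_pow_eq_one.mp (A.orderOf_dvd_natCard ha)
    have hsq : (a ^ 2) ^ (t + 1) = a := by
      rw [← pow_mul, show 2 * (t + 1) = p + 1 by omega, pow_succ, hap, one_mul]
    have := hsq ▸ h2.pow_left (t + 1)
    exact hcomm_r (mul_inv_eq_iff_eq_mul.mpr this.eq)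
  · have e1 := htwo r' hr'R hsq' hne'
    have e2 := htwo r'' hr''R hsq'' h''
    have h3 : r'⁻¹ * r'' = 1 := by
      refine hfaith _ (mul_mem (inv_mem hr'R) hr''R) fun w hw => ?_
      calc r'⁻¹ * r'' * w * (r'⁻¹ * r'')⁻¹ = r'⁻¹ * (r'' * w * r''⁻¹) * r' := by group
        _ = r'⁻¹ * (r' * w * r'⁻¹) * r' := by rw [e2 w hw, e1 w hw]
        _ = w := by group
    apply hne'
    have h4 : r'' = r' := (inv_mul_eq_one.mp h3).symm
    rw [hr''] at h4
    have h5 : r' = a * r * a⁻¹ := rfl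
    calc r' = a⁻¹ * (a * r' * a⁻¹) * a := by group
      _ = a⁻¹ * r' * a := by rw [h4]
      _ = r := by rw [h5]; group

/-- No offenders. -/
theorem card_lt_relIndex_centralizer {p : ℕ} [Fact p.Prime] (hp2 : p ≠ 2) {V A Q : Subgroup X}
    (hVc : IsMulCommutative V) (hVe : ∀ v ∈ V, v ^ p = 1)
    (hAc : IsMulCommutative A) (hAe : ∀ a ∈ A, a ^ p = 1)
    (hQc : IsMulCommutative Q) (hQcop : (Nat.card Q).Coprime p)
    (hAV : A ≤ Subgroup.normalizer (V : Set X)) (hQV : Q ≤ Subgroup.normalizer (V : Set X))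
    (hAQ : A ≤ Subgroup.normalizer (Q : Set X))
    (hQf : Q ⊓ Subgroup.centralizer (V : Set X) = ⊥)
    (hAQf : A ⊓ Subgroup.centralizer (Q : Set X) = ⊥) (hA0 : A ≠ ⊥) :
    Nat.card A < (Subgroup.centralizer (A : Set X)).relIndex V := by
  have hp : p.Prime := Fact.out
  obtain ⟨c, hc⟩ : ∃ c, Nat.card A = c := ⟨_, rfl⟩
  induction c using Nat.strongRecOn generalizing A with
  | ind c ih =>
  have hAp : IsPGroup p A := fun x => ⟨1, Subtype.ext (by simpa using hAe x x.2)⟩
  -- a hyperplane with a centralizer moved by `A`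
  obtain ⟨B, ⟨hBA, hBQ⟩, hmax⟩ := (Set.toFinite {B : Subgroup X | B ≤ A ∧
      ¬ (Q ⊓ Subgroup.centralizer (B : Set X)) ≤ Subgroup.centralizer (A : Set X)}).exists_maximal
    ⟨⊥, bot_le, fun h => hA0 (by
      rw [eq_bot_iff, ← hAQf]
      refine le_inf le_rfl (Subgroup.le_centralizer_iff.mp ?_)
      exact fun q hq => h (Subgroup.mem_inf.mpr ⟨hq, Subgroup.mem_centralizer_iff.mpr fun x hx => by
        rw [SetLike.mem_coe, Subgroup.mem_bot] at hx
        simp [hx]⟩))⟩
  set Q₁ := Q ⊓ Subgroup.centralizer (B : Set X) with hQ₁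
  have hBne : B ≠ A := fun h => hBQ (h ▸ inf_le_right)
  obtain ⟨a, ha, haB⟩ := SetLike.exists_of_lt (lt_of_le_of_ne hBA hBne)
  have hAcomm : ∀ x ∈ A, ∀ y ∈ A, Commute x y := fun x hx y hy =>
    congrArg Subtype.val (hAc.is_comm.comm (⟨x, hx⟩ : A) ⟨y, hy⟩)
  have hnorm : ∀ Y Z : Subgroup X, Y ≤ A → Z ≤ A → Y ≤ Subgroup.normalizer (Z : Set X) := by
    intro Y Z hY hZ
    rw [Subgroup.le_normalizer_iff]
    intro x hx y hy
    rw [(hAcomm x (hY hx) y (hZ hy)).eq, mul_inv_cancel_right]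
    exact hy
  have horder : ∀ x ∈ A, x ≠ 1 → orderOf x = p := fun x hx hx1 => by
    rcases (Nat.dvd_prime hp).mp (orderOf_dvd_of_pow_eq_one (hAe x hx)) with h | h
    · exact absurd (orderOf_eq_one_iff.mp h) hx1
    · exact h
  have haA : Subgroup.zpowers a ≤ A := Subgroup.zpowers_le.mpr ha
  have hBa : B ⊔ Subgroup.zpowers a = A := by
    by_contra hne
    obtain ⟨b, hb, hbBa⟩ := SetLike.exists_of_lt (lt_of_le_of_ne (sup_le hBA haA) hne)
    set D := Subgroup.zpowers a ⊔ Subgroup.zpowers b with hD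
    have hDA : D ≤ A := sup_le haA (Subgroup.zpowers_le.mpr hb)
    have hDc : IsMulCommutative D :=
      ⟨⟨fun x y => Subtype.ext (hAcomm x (hDA x.2) y (hDA y.2)).eq⟩⟩
    have hDcyc : ¬ IsCyclic D := by
      intro hcyc
      obtain ⟨g, hg⟩ := hcyc.exists_generator
      have hga : Nat.card D ≤ Nat.card (Subgroup.zpowers a) := by
        rw [← orderOf_eq_card_of_forall_mem_zpowers hg, Nat.card_zpowers,
          horder a ha (fun h => haB (h ▸ one_mem _)), ← Subgroup.orderOf_coe]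
        exact Nat.le_of_dvd hp.pos (orderOf_dvd_of_pow_eq_one (hAe _ (hDA g.2)))
      have hDa := Coprime.eq_of_le_of_card_le (le_sup_left : Subgroup.zpowers a ≤ D) hga
      exact hbBa (Subgroup.mem_sup_right (show b ∈ Subgroup.zpowers a by
        rw [hDa]; exact Subgroup.mem_sup_right (Subgroup.mem_zpowers b)))
    have hDB : ∀ d ∈ D, d ∈ B → d = 1 := by
      intro d hd hdB
      obtain ⟨_, ⟨i, rfl⟩, _, ⟨j, rfl⟩, hdij⟩ := Coprime.exists_mul_of_mem_sup
        (hnorm _ _ (Subgroup.zpowers_le.mpr hb) haA) hd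
      have hbo := horder b hb (fun h => hbBa (h ▸ one_mem _))
      have hj : (p : ℤ) ∣ j := by
        by_contra hj
        apply hbBa
        have h1 : b ^ j ∈ B ⊔ Subgroup.zpowers a := by
          have : b ^ j = (a ^ i)⁻¹ * d := by rw [hdij]; group
          rw [this]
          exact mul_mem (inv_mem (Subgroup.mem_sup_right ⟨i, rfl⟩)) (Subgroup.mem_sup_left hdB)
        obtain ⟨s, t, hst⟩ : ∃ s t : ℤ, s * j + t * p = 1 :=
          (((Nat.prime_iff_prime_int.mp hp).coprime_iff_not_dvd).mpr hj).symm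
        have h2 : b = (b ^ j) ^ s * (b ^ (p : ℤ)) ^ t := by
          rw [← zpow_mul, ← zpow_mul, ← zpow_add, mul_comm j s, mul_comm (p : ℤ) t, hst, zpow_one]
        rw [h2, zpow_natCast, hAe b hb, one_zpow, mul_one]
        exact zpow_mem h1 s
      rw [← hbo] at hj
      simp only [orderOf_dvd_iff_zpow_eq_one.mp hj, mul_one] at hdij
      by_contra hd1
      have hi : ¬ (p : ℤ) ∣ i := by
        intro hi
        rw [← horder a ha (fun h => haB (h ▸ one_mem _))] at hi
        exact hd1 (hdij.trans (orderOf_dvd_iff_zpow_eq_one.mp hi))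
      apply haB
      obtain ⟨s, t, hst⟩ : ∃ s t : ℤ, s * i + t * p = 1 :=
        (((Nat.prime_iff_prime_int.mp hp).coprime_iff_not_dvd).mpr hi).symm
      have h2 : a = (a ^ i) ^ s * (a ^ (p : ℤ)) ^ t := by
        rw [← zpow_mul, ← zpow_mul, ← zpow_add, mul_comm i s, mul_comm (p : ℤ) t, hst, zpow_one]
      rw [h2, zpow_natCast, hAe a ha, one_zpow, mul_one, ← hdij]
      exact zpow_mem hdB s
    have hDQ₁ : D ≤ Subgroup.normalizer (Q₁ : Set X) := by
      refine le_trans (le_inf (hDA.trans hAQ) ?_) Subgroup.inf_normalizer_le_normalizer_inf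
      refine fun x hx => Coprime.mem_normalizer_of_conj_smul_eq ?_
      ext y
      rw [Coprime.mem_conj_smul, Subgroup.mem_centralizer_iff, Subgroup.mem_centralizer_iff]
      have hxB : ∀ z ∈ B, x * z * x⁻¹ = z := fun z hz => by
        rw [(hAcomm x (hDA hx) z (hBA hz)).eq, mul_inv_cancel_right]
      constructor
      · intro h z hz
        calc z * y = x * (z * (x⁻¹ * y * x)) * x⁻¹ := by
              conv_lhs => rw [← hxB z hz]
              group
          _ = x * ((x⁻¹ * y * x) * z) * x⁻¹ := by rw [h z hz]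
          _ = y * (x * z * x⁻¹) := by group
          _ = y * z := by rw [hxB z hz]
      · intro h z hz
        calc z * (x⁻¹ * y * x) = x⁻¹ * ((x * z * x⁻¹) * y) * x := by group
          _ = x⁻¹ * (z * y) * x := by rw [hxB z hz]
          _ = x⁻¹ * (y * z) * x := by rw [h z hz]
          _ = x⁻¹ * y * (x * z * x⁻¹) * x := by rw [hxB z hz]; group
          _ = x⁻¹ * y * x * z := by group
    have hDcop : (Nat.card D).Coprime (Nat.card Q₁) := by
      obtain ⟨k, hk⟩ := IsPGroup.iff_card.mp (hAp.to_le hDA)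
      rw [hk]
      exact Nat.Coprime.pow_left _ (hQcop.symm.coprime_dvd_right (Subgroup.card_dvd_of_le inf_le_left))
    apply hBQ
    rw [← Coprime.iSup_centralizer_eq (A := D) hDcyc hDQ₁ hDcop]
    refine iSup₂_le fun d hd => ?_
    have hdA : d ∈ A := hDA hd.1
    have hBd : B < B ⊔ Subgroup.zpowers d := lt_of_le_of_ne le_sup_left fun h =>
      hd.2 (hDB d hd.1 (h ▸ Subgroup.mem_sup_right (Subgroup.mem_zpowers d)))
    by_contra hnot
    refine hBd.not_ge (hmax ⟨sup_le hBA (Subgroup.zpowers_le.mpr hdA), fun h => hnot ?_⟩ hBd.le)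
    refine le_trans (le_inf (inf_le_left.trans inf_le_left) ?_) h
    refine Subgroup.le_centralizer_iff.mp (sup_le ?_ (Subgroup.zpowers_le.mpr ?_))
    · exact Subgroup.le_centralizer_iff.mp (inf_le_left.trans inf_le_right)
    · refine Subgroup.mem_centralizer_iff.mpr fun q hq => ?_
      exact Subgroup.mem_centralizer_singleton_iff.mp (Subgroup.mem_inf.mp hq).2
  have hcardA : Nat.card A = p * Nat.card B := by
    have h := Coprime.card_sup_mul_card_inf (N := B) (H := Subgroup.zpowers a)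
      (hnorm _ _ haA hBA)
    have hbot : B ⊓ Subgroup.zpowers a = ⊥ := by
      rw [eq_bot_iff]
      intro x hx
      obtain ⟨hxB, hxa⟩ := Subgroup.mem_inf.mp hx
      rw [Subgroup.mem_bot]
      by_contra hx1
      have h2 : Subgroup.zpowers x = Subgroup.zpowers a := Coprime.eq_of_le_of_card_le
        (Subgroup.zpowers_le.mpr hxa) (by
          rw [Nat.card_zpowers, Nat.card_zpowers, horder x (hBA hxB) hx1,
            horder a ha (fun h => haB (h ▸ one_mem _))])
      exact haB (Subgroup.zpowers_le.mpr hxB (h2 ▸ Subgroup.mem_zpowers a))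
    rw [hBa, hbot, Subgroup.card_bot, mul_one, Nat.card_zpowers,
      horder a ha (fun h => haB (h ▸ one_mem _)), mul_comm] at h
    exact h
  by_cases hB0 : B = ⊥
  · rw [hB0, Subgroup.card_bot, mul_one] at hcardA
    rw [hcardA]
    exact lt_relIndex_of_card_prime hp2 hVc hVe hcardA hQc hQcop hAV hQV hAQ hQf hAQf
  have hBlt : Nat.card B < c := by
    rw [← hc, hcardA]
    exact lt_mul_of_one_lt_left Nat.card_pos hp.one_lt
  have hIH := ih _ hBlt (A := B) ⟨⟨fun x y => Subtype.ext (hAcomm x (hBA x.2) y (hBA y.2)).eq⟩⟩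
    (fun x hx => hAe x (hBA hx)) (hBA.trans hAV) (hBA.trans hAQ)
    (le_bot_iff.mp (hAQf ▸ inf_le_inf_right _ hBA)) hB0 rfl
  set CA := Subgroup.centralizer (A : Set X)
  set CB := Subgroup.centralizer (B : Set X)
  have hVp : IsPGroup p V := fun v => ⟨1, Subtype.ext (by simpa using hVe v v.2)⟩
  have hlt : (V ⊓ CA : Subgroup X) < V ⊓ CB := by
    refine lt_of_le_of_ne (inf_le_inf_left _ (Subgroup.centralizer_le hBA)) fun heq => hBQ ?_
    intro q hq
    obtain ⟨hqQ, hqB⟩ := Subgroup.mem_inf.mp hq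
    show q ∈ Subgroup.centralizer (A : Set X)
    rw [← hBa]
    refine Subgroup.le_centralizer_iff.mp (sup_le ?_ (Subgroup.zpowers_le.mpr ?_))
      (Subgroup.mem_zpowers q)
    · exact Subgroup.le_centralizer_iff.mp (Subgroup.zpowers_le.mpr hqB)
    · have hqaQ : a * q * a⁻¹ * q⁻¹ ∈ Q :=
        mul_mem (conj_mem_of_mem_normalizer (hAQ ha) hqQ) (inv_mem hqQ)
      have hqaB : a * q * a⁻¹ * q⁻¹ ∈ CB := by
        refine mul_mem ?_ (inv_mem hqB)
        refine Subgroup.mem_centralizer_iff.mpr fun z hz => ?_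
        have hqz := Subgroup.mem_centralizer_iff.mp hqB z hz
        have haz : a * z * a⁻¹ = z := by rw [(hAcomm a ha z (hBA hz)).eq, mul_inv_cancel_right]
        calc z * (a * q * a⁻¹) = (a * z * a⁻¹) * (a * q * a⁻¹) := by rw [haz]
          _ = a * (z * q) * a⁻¹ := by group
          _ = a * (q * z) * a⁻¹ := by rw [hqz]
          _ = (a * q * a⁻¹) * (a * z * a⁻¹) := by group
          _ = _ := by rw [haz]
      set u := a * q * a⁻¹ * q⁻¹ with hu
      have huC : u ∈ Subgroup.centralizer ((V ⊓ CB : Subgroup X) : Set X) := by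
        refine Subgroup.mem_centralizer_iff.mpr fun v hv => ?_
        obtain ⟨hvV, hvB⟩ := Subgroup.mem_inf.mp hv
        have hfix : ∀ w ∈ V ⊓ CB, a * w * a⁻¹ = w := fun w hw => by
          have hw' : w ∈ CA := (Subgroup.mem_inf.mp (heq ▸ hw : w ∈ V ⊓ CA)).2
          rw [Subgroup.mem_centralizer_iff.mp hw' a ha, mul_inv_cancel_right]
        have hq' : q⁻¹ * v * q ∈ V ⊓ CB :=
          Subgroup.mem_inf.mpr ⟨(Subgroup.mem_normalizer_iff''.mp (hQV hqQ) v).mp hvV,
            mul_mem (mul_mem (inv_mem hqB) hvB) hqB⟩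
        have h1 := hfix _ hq'
        have h2 := hfix v hv
        have h1' : a⁻¹ * (q⁻¹ * v * q) * a = q⁻¹ * v * q := by
          calc a⁻¹ * (q⁻¹ * v * q) * a = a⁻¹ * (a * (q⁻¹ * v * q) * a⁻¹) * a := by rw [h1]
            _ = _ := by group
        have h3 : u * v * u⁻¹ = v := by
          calc u * v * u⁻¹ = a * (q * (a⁻¹ * (q⁻¹ * v * q) * a) * q⁻¹) * a⁻¹ := by rw [hu]; group
            _ = a * (q * (q⁻¹ * v * q) * q⁻¹) * a⁻¹ := by rw [h1']
            _ = v := by
              rw [show q * (q⁻¹ * v * q) * q⁻¹ = v by group, h2]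
        exact (mul_inv_eq_iff_eq_mul.mp h3).symm
      set Q₂ := Q₁ ⊓ Subgroup.centralizer ((V ⊓ CB : Subgroup X) : Set X)
      have hQ₂ : Q₂ ≤ Subgroup.centralizer (V : Set X) := by
        refine Coprime.le_centralizer_of_PxQ (P := B) (hAp.to_le hBA)
          (hQcop.coprime_dvd_left (Subgroup.card_dvd_of_le (inf_le_left.trans inf_le_left))) hVp
          (Subgroup.le_centralizer_iff.mp (inf_le_left.trans inf_le_right)) (hBA.trans hAV)
          (inf_le_left.trans (inf_le_left.trans hQV)) ?_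
        exact Subgroup.le_centralizer_iff.mp inf_le_right
      have hu1 : u = 1 := by
        refine Subgroup.mem_bot.mp (hQf ▸ Subgroup.mem_inf.mpr ⟨hqaQ, hQ₂ ?_⟩)
        exact Subgroup.mem_inf.mpr ⟨Subgroup.mem_inf.mpr ⟨hqaQ, hqaB⟩, huC⟩
      rw [hu, mul_inv_eq_one, mul_inv_eq_iff_eq_mul] at hu1
      exact Subgroup.mem_centralizer_iff.mpr fun z hz => by
        obtain ⟨i, rfl⟩ := hz
        exact ((show Commute a q from hu1).zpow_right i).symm.eq
  -- the three indices are powers of `p`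
  obtain ⟨iA, -, hiA⟩ := (Nat.dvd_prime_pow hp).mp
    ((IsPGroup.iff_card.mp hVp).choose_spec ▸ CA.relIndex_dvd_card V)
  obtain ⟨iB, -, hiB⟩ := (Nat.dvd_prime_pow hp).mp
    ((IsPGroup.iff_card.mp hVp).choose_spec ▸ CB.relIndex_dvd_card V)
  obtain ⟨kB, hkB⟩ := IsPGroup.iff_card.mp (hAp.to_le hBA)
  have h1 : p ^ (kB + 1) ≤ p ^ iB := by
    refine Nat.pow_le_pow_right hp.pos ?_
    rw [hkB, hiB] at hIH
    exact (Nat.pow_lt_pow_iff_right hp.one_lt).mp hIH
  have h2 : p ^ (iB + 1) ≤ p ^ iA := by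
    refine Nat.pow_le_pow_right hp.pos ((Nat.pow_lt_pow_iff_right hp.one_lt).mp ?_)
    rw [← hiA, ← hiB, ← Subgroup.inf_relIndex_right CA V, ← Subgroup.inf_relIndex_right CB V,
      inf_comm CA V, inf_comm CB V]
    have e1 := Coprime.relIndex_mul_card (inf_le_left : V ⊓ CA ≤ V)
    have e2 := Coprime.relIndex_mul_card (inf_le_left : V ⊓ CB ≤ V)
    have e3 : Nat.card (V ⊓ CA : Subgroup X) < Nat.card (V ⊓ CB : Subgroup X) :=
      lt_of_not_ge fun h => hlt.ne (Coprime.eq_of_le_of_card_le hlt.le h)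
    by_contra h
    rw [not_lt] at h
    have := Nat.mul_lt_mul_of_lt_of_le e3 h (Nat.pos_of_ne_zero (fun h0 => by
      rw [h0, mul_zero] at e2; exact Nat.card_pos.ne e2))
    omega
  rw [hcardA, hkB, hiA]
  have h3 : p ^ (kB + 1) < p ^ (iB + 1) :=
    h1.trans_lt (Nat.pow_lt_pow_right hp.one_lt (Nat.lt_succ_self _))
  rw [← pow_succ']
  exact h3.trans_le h2

end Cfsg.Agent.Lib.Solvable
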