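import Cfsg.Agent.Lib.Solvable.Systems
import Cfsg.Agent.Lib.Solvable.Products
import Cfsg.Agent.Lib.Solvable.Nilpotent
import Mathlib.GroupTheory.Nilpotent

/-!
Conjugacy of Hall complement systems and properties of system normalizers.
-/

set_option autoImplicit false

open Pointwise

namespace Cfsg.Agent.Lib.Solvable.SystemNormalizer

open Cfsg.Agent.Lib

variable {G : Type*} [Group G] [Finite G]

theorem index_conj_smul (g : G) (H : Subgroup G) : (MulAut.conj g • H).index = H.index :=
  Subgroup.index_map_equiv H (MulAut.conj g)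

theorem not_dvd_card {K : Nat.Primes → Subgroup G} (hK : Cfsg.IsComplementSystem K) (p : Nat.Primes) :
    ¬ (p : ℕ) ∣ Nat.card (K p) := by
  intro hd
  have h1 := (K p).card_mul_index
  rw [hK p] at h1
  have h2 := congrArg (fun m : ℕ => m.factorization (p : ℕ)) h1
  rw [Nat.factorization_mul Nat.card_pos.ne' (pow_ne_zero _ p.2.ne_zero), Finsupp.add_apply,
    p.2.factorization_pow, Finsupp.single_eq_same] at h2
  have h3 : 0 < (Nat.card (K p)).factorization (p : ℕ) :=
    p.2.factorization_pos_of_dvd Nat.card_pos.ne' hd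
  omega

theorem coprime_card_index {K : Nat.Primes → Subgroup G} (hK : Cfsg.IsComplementSystem K) (p : Nat.Primes) :
    (Nat.card (K p)).Coprime (K p).index := by
  rw [hK p]
  exact Nat.Coprime.pow_right _ ((Nat.Prime.coprime_iff_not_dvd p.2).mpr (not_dvd_card hK p)).symm

theorem inf_eq_bot_of_isPGroup {K : Nat.Primes → Subgroup G} (hK : Cfsg.IsComplementSystem K)
    (p : Nat.Primes) {X : Subgroup G} (hX : IsPGroup p X) : X ⊓ K p = ⊥ := by
  haveI := Fact.mk p.2
  obtain ⟨k, hk⟩ := IsPGroup.iff_card.mp hX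
  exact Coprime.inf_eq_bot_of_coprime_card
    (hk ▸ Nat.Coprime.pow_left _ ((Nat.Prime.coprime_iff_not_dvd p.2).mpr (not_dvd_card hK p)))

/-- The index of the join with a normal subgroup times the index of the intersection inside it. -/
theorem index_sup_mul_relIndex (N H : Subgroup G) [N.Normal] :
    (N ⊔ H).index * H.relIndex N = H.index := by
  have h1 := Coprime.card_sup_mul_card_inf (N := N) (H := H) Subgroup.le_normalizer_of_normal
  have h2 := (N ⊔ H).card_mul_index
  have h3 := H.card_mul_index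
  have h4 := Coprime.relIndex_mul_card (H := H ⊓ N) (K := N) inf_le_right
  rw [Subgroup.inf_relIndex_right, inf_comm] at h4
  refine Nat.eq_of_mul_eq_mul_left (Nat.mul_pos (Nat.card_pos (α := H)) (Nat.card_pos (α := N))) ?_
  calc Nat.card H * Nat.card N * ((N ⊔ H).index * H.relIndex N)
      = (Nat.card N * Nat.card H) * (N ⊔ H).index * H.relIndex N := by ring
    _ = Nat.card (N ⊔ H : Subgroup G) * (N ⊔ H).index *
          (H.relIndex N * Nat.card (N ⊓ H : Subgroup G)) := by rw [← h1]; ring
    _ = Nat.card H * H.index * Nat.card N := by rw [h2, h3, mul_comm (H.relIndex N), h4]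
    _ = _ := by ring

theorem index_sup_dvd (N H : Subgroup G) [N.Normal] : (N ⊔ H).index ∣ H.index :=
  Dvd.intro _ (index_sup_mul_relIndex N H)

theorem relIndex_dvd_index (N H : Subgroup G) [N.Normal] : H.relIndex N ∣ H.index :=
  Dvd.intro_left _ (index_sup_mul_relIndex N H)

/-- A normal `q`-subgroup lies in every Hall `p`-complement, `p ≠ q`. -/
theorem le_of_normal_isPGroup {K : Nat.Primes → Subgroup G} (hK : Cfsg.IsComplementSystem K)
    {p q : Nat.Primes} (hpq : p ≠ q) {N : Subgroup G} [N.Normal] (hN : IsPGroup q N) : N ≤ K p := by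
  haveI := Fact.mk q.2
  obtain ⟨k, hk⟩ := IsPGroup.iff_card.mp hN
  rw [← Subgroup.relIndex_eq_one]
  refine Nat.eq_one_of_dvd_coprimes ?_ (relIndex_dvd_index N (K p))
    ((Subgroup.relIndex_dvd_card (K p) N).trans (dvd_of_eq hk))
  rw [hK p]
  exact Nat.Coprime.pow _ _ ((Nat.coprime_primes p.2 q.2).mpr fun e => hpq (Subtype.ext e))

theorem isComplementSystem_map {K : Nat.Primes → Subgroup G} (hK : Cfsg.IsComplementSystem K)
    (N : Subgroup G) [N.Normal] :
    Cfsg.IsComplementSystem (fun p => (K p).map (QuotientGroup.mk' N)) := by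
  intro p
  have h1 : ((K p).map (QuotientGroup.mk' N)).index = (N ⊔ K p).index := by
    rw [← Subgroup.index_comap_of_surjective _ (QuotientGroup.mk'_surjective N), Subgroup.comap_map_eq,
      QuotientGroup.ker_mk', sup_comm]
  obtain ⟨j, -, hj⟩ := (Nat.dvd_prime_pow p.2).mp (hK p ▸ index_sup_dvd N (K p))
  show ((K p).map (QuotientGroup.mk' N)).index = _
  rw [h1, hj]
  congr 1
  have h2 := ((K p).map (QuotientGroup.mk' N)).card_mul_index
  rw [h1, hj] at h2
  have h3 : ¬ (p : ℕ) ∣ Nat.card ((K p).map (QuotientGroup.mk' N)) := fun hd =>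
    not_dvd_card hK p (hd.trans (Subgroup.card_map_dvd (K p) _))
  have h4 := congrArg (fun m : ℕ => m.factorization (p : ℕ)) h2
  rw [Nat.factorization_mul Nat.card_pos.ne' (pow_ne_zero _ p.2.ne_zero), Finsupp.add_apply,
    p.2.factorization_pow, Finsupp.single_eq_same, Nat.factorization_eq_zero_of_not_dvd h3, zero_add] at h4
  exact h4

theorem isComplementSystem_conj {K : Nat.Primes → Subgroup G} (hK : Cfsg.IsComplementSystem K) (g : G) :
    Cfsg.IsComplementSystem (fun p => MulAut.conj g • K p) := fun p =>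
  (index_conj_smul g (K p)).trans (hK p)

theorem eq_top_of_not_dvd {K : Nat.Primes → Subgroup G} (hK : Cfsg.IsComplementSystem K) {p : Nat.Primes}
    (h : ¬ (p : ℕ) ∣ Nat.card G) : K p = ⊤ :=
  Subgroup.index_eq_one.mp (by rw [hK p, Nat.factorization_eq_zero_of_not_dvd h, pow_zero])

/-- Two subgroups of coprime index multiply to the whole group. -/
theorem exists_mul_of_coprime_index (A B : Subgroup G) (h : A.index.Coprime B.index) (x : G) :
    ∃ a ∈ A, ∃ b ∈ B, x = a * b := by
  have h1 := Products.card_mul_set_mul_card_inf A B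
  have h2 : Nat.card ↥((A : Set G) * (B : Set G)) = Nat.card G := by
    refine Nat.eq_of_mul_eq_mul_right (Nat.card_pos (α := (A ⊓ B : Subgroup G))) ?_
    rw [h1]
    have e1 := A.card_mul_index
    have e2 := B.card_mul_index
    have e3 := (A ⊓ B).card_mul_index
    rw [Solvable.index_inf_of_coprime h] at e3
    refine Nat.eq_of_mul_eq_mul_right (Nat.mul_pos (Nat.pos_of_ne_zero A.index_ne_zero_of_finite)
      (Nat.pos_of_ne_zero B.index_ne_zero_of_finite)) ?_
    calc Nat.card A * Nat.card B * (A.index * B.index) = (Nat.card A * A.index) * (Nat.card B * B.index) := by ring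
      _ = Nat.card G * (Nat.card (A ⊓ B : Subgroup G) * (A.index * B.index)) := by rw [e1, e2, e3]
      _ = _ := by ring
  have h3 : ((A : Set G) * (B : Set G)) = Set.univ :=
    Set.eq_of_subset_of_ncard_le (Set.subset_univ _)
      (by rw [Set.ncard_univ, ← h2, Nat.card_coe_set_eq]) (Set.toFinite _)
  obtain ⟨a, ha, b, hb, hab⟩ : x ∈ (A : Set G) * (B : Set G) := h3 ▸ Set.mem_univ x
  exact ⟨a, ha, b, hb, hab.symm⟩

/-- Complement systems congruent modulo a normal subgroup are conjugate by an element of it. -/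
theorem exists_conj_rel [Group.IsSolvable G] {K L : Nat.Primes → Subgroup G}
    (hK : Cfsg.IsComplementSystem K) (hL : Cfsg.IsComplementSystem L) (N : Subgroup G) [N.Normal]
    (h : ∀ p, N ⊔ K p = N ⊔ L p) : ∃ n ∈ N, ∀ p, MulAut.conj n • K p = L p := by
  classical
  suffices key : ∀ T : Finset Nat.Primes, ∃ n ∈ N, ∀ p ∈ T, MulAut.conj n • K p = L p by
    obtain ⟨n, hn, hT⟩ := key (Solvable.groupPrimes G)
    refine ⟨n, hn, fun p => ?_⟩
    by_cases hp : p ∈ Solvable.groupPrimes G
    · exact hT p hp
    · have hp' : ¬ (p : ℕ) ∣ Nat.card G := fun hd => hp (Solvable.mem_groupPrimes.mpr hd)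
      rw [eq_top_of_not_dvd hK hp', eq_top_of_not_dvd hL hp', eq_top_iff]
      intro x _
      exact Coprime.mem_conj_smul.mpr (Subgroup.mem_top _)
  intro T
  induction T using Finset.induction_on with
  | empty => exact ⟨1, one_mem _, fun p hp => absurd hp (Finset.notMem_empty p)⟩
  | insert a T ha ih =>
    obtain ⟨n₀, hn₀, hT⟩ := ih
    set A := MulAut.conj n₀ • K a with hA
    set X := N ⊔ L a with hX
    have hAX : A ≤ X := by
      intro x hx
      have h1 := Coprime.mem_conj_smul.mp hx
      have h2 : n₀⁻¹ * x * n₀ ∈ X := (h a).le (Subgroup.mem_sup_right h1)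
      have := mul_mem (mul_mem (Subgroup.mem_sup_left hn₀ : n₀ ∈ X) h2)
        (inv_mem (Subgroup.mem_sup_left hn₀ : n₀ ∈ X))
      simpa [mul_assoc] using this
    have hLX : L a ≤ X := le_sup_right
    have hcard : Nat.card A = Nat.card (L a) := by
      rw [hA, Coprime.card_conj_smul]
      refine Nat.eq_of_mul_eq_mul_right (Nat.pos_of_ne_zero (L a).index_ne_zero_of_finite) ?_
      rw [(L a).card_mul_index, hL a, ← hK a, (K a).card_mul_index]
    obtain ⟨x, hx⟩ := Coprime.exists_conj_eq_of_solvable (G := X) (H := A.subgroupOf X)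
      (K := (L a).subgroupOf X) (by
        rw [Nat.card_congr (Subgroup.subgroupOfEquivOfLe hAX).toEquiv]
        refine Nat.Coprime.coprime_dvd_right ?_ (hcard ▸ coprime_card_index hL a)
        have h1 : (A.subgroupOf X).index = A.relIndex X := rfl
        rw [h1, show (L a).index = A.index by rw [hA, index_conj_smul, hK a, hL a]]
        exact Dvd.intro _ (Subgroup.relIndex_mul_index hAX)) (by
        rw [Nat.card_congr (Subgroup.subgroupOfEquivOfLe hAX).toEquiv,
          Nat.card_congr (Subgroup.subgroupOfEquivOfLe hLX).toEquiv, hcard])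
    obtain ⟨l, hl, m, hm, hlm⟩ : ∃ l ∈ L a, ∃ m ∈ N, (x : G) = l * m := by
      obtain ⟨l, hl, m, hm, hlm⟩ := Subgroup.mem_sup_of_normal_right.mp
        (show (x : G) ∈ L a ⊔ N by rw [sup_comm]; exact x.2)
      exact ⟨l, hl, m, hm, hlm.symm⟩
    have hxA : MulAut.conj (x : G) • A = L a := by
      refine Coprime.eq_of_le_of_card_le (fun y hy => ?_) (by rw [Coprime.card_conj_smul, hcard])
      have h1 := Coprime.mem_conj_smul.mp hy
      have hyX : y ∈ X := by
        have := mul_mem (mul_mem x.2 (hAX h1)) (inv_mem x.2)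
        simpa [mul_assoc] using this
      have h2 : (⟨y, hyX⟩ : X) ∈ MulAut.conj x • A.subgroupOf X := Coprime.mem_conj_smul.mpr h1
      rw [hx] at h2
      exact h2
    have hmA : MulAut.conj m • A = L a := by
      rw [hlm, Coprime.conj_mul_smul] at hxA
      have h1 := congrArg (fun S => MulAut.conj l⁻¹ • S) hxA
      rw [← Coprime.conj_mul_smul, inv_mul_cancel, Coprime.conj_one_smul,
        Coprime.conj_smul_eq_of_mem_normalizer (Subgroup.le_normalizer (inv_mem hl))] at h1
      exact h1
    set D := T.inf L with hD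
    obtain ⟨⟨l', hl'N⟩, hl', ⟨d, hdN⟩, hd, hld⟩ := exists_mul_of_coprime_index
      ((L a).subgroupOf N) (D.subgroupOf N) (by
        refine Nat.Coprime.coprime_dvd_left (relIndex_dvd_index N (L a))
          (Nat.Coprime.coprime_dvd_right (relIndex_dvd_index N D) ?_)
        rw [hD, Solvable.index_finset_inf T L fun i _ j _ => Solvable.coprime_index_of_isComplementSystem hL]
        exact Nat.Coprime.prod_right fun j hj =>
          Solvable.coprime_index_of_isComplementSystem hL fun e => ha (e ▸ hj)) ⟨m, hm⟩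
    have hmld : m = l' * d := congrArg Subtype.val hld
    refine ⟨d * n₀, mul_mem hdN hn₀, fun p hp => ?_⟩
    rw [Coprime.conj_mul_smul]
    rcases Finset.mem_insert.mp hp with rfl | hp
    · rw [← hA]
      rw [hmld, Coprime.conj_mul_smul] at hmA
      have h1 := congrArg (fun S => MulAut.conj l'⁻¹ • S) hmA
      rw [← Coprime.conj_mul_smul, inv_mul_cancel, Coprime.conj_one_smul,
        Coprime.conj_smul_eq_of_mem_normalizer
          (Subgroup.le_normalizer (inv_mem (show l' ∈ L p from hl')))] at h1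
      exact h1
    · rw [hT p hp]
      exact Coprime.conj_smul_eq_of_mem_normalizer
        (Subgroup.le_normalizer (Finset.inf_le (f := L) hp hd))

/-- Conjugacy of complement systems. -/
theorem exists_conj [Group.IsSolvable G] {K L : Nat.Primes → Subgroup G}
    (hK : Cfsg.IsComplementSystem K) (hL : Cfsg.IsComplementSystem L) :
    ∃ g : G, ∀ p, MulAut.conj g • K p = L p := by
  obtain ⟨g, -, hg⟩ := exists_conj_rel hK hL ⊤ fun p => by rw [top_sup_eq, top_sup_eq]
  exact ⟨g, hg⟩

theorem mem_systemNormalizer {K : Nat.Primes → Subgroup G} {x : G} :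
    x ∈ Cfsg.systemNormalizer K ↔ ∀ p, MulAut.conj x • K p = K p := by
  simp only [Cfsg.systemNormalizer, Subgroup.mem_iInf]
  exact forall_congr' fun p => ⟨Coprime.conj_smul_eq_of_mem_normalizer, Coprime.mem_normalizer_of_conj_smul_eq⟩

theorem systemNormalizer_conj (K : Nat.Primes → Subgroup G) (g : G) :
    Cfsg.systemNormalizer (fun p => MulAut.conj g • K p) = MulAut.conj g • Cfsg.systemNormalizer K := by
  ext x
  rw [Coprime.mem_conj_smul, mem_systemNormalizer, mem_systemNormalizer]
  refine forall_congr' fun p => ?_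
  rw [Coprime.conj_mul_smul, Coprime.conj_mul_smul]
  constructor
  · intro h
    rw [h, ← Coprime.conj_mul_smul, inv_mul_cancel, Coprime.conj_one_smul]
  · intro h
    have h1 := congrArg (fun S => MulAut.conj g • S) h
    rwa [← Coprime.conj_mul_smul g g⁻¹, mul_inv_cancel, Coprime.conj_one_smul] at h1

/-- The system normalizer is nilpotent. -/
theorem isNilpotent_systemNormalizer {K : Nat.Primes → Subgroup G} (hK : Cfsg.IsComplementSystem K) :
    Group.IsNilpotent (Cfsg.systemNormalizer K) := by
  classical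
  set D := Cfsg.systemNormalizer K with hD
  have hn : ∀ p : Nat.Primes, ((K p).subgroupOf D).Normal := by
    intro p
    refine ⟨fun x hx d => ?_⟩
    have h1 : MulAut.conj (d : G) • K p = K p := mem_systemNormalizer.mp d.2 p
    have h2 : (d : G) * x * (d : G)⁻¹ ∈ MulAut.conj (d : G) • K p := by
      rw [Coprime.mem_conj_smul]
      simpa [mul_assoc] using Subgroup.mem_subgroupOf.mp hx
    rw [h1] at h2
    exact h2
  haveI := hn
  have hp : ∀ p : Nat.Primes, IsPGroup p (D ⧸ (K p).subgroupOf D) := by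
    intro p
    haveI := Fact.mk p.2
    obtain ⟨j, -, hj⟩ := (Nat.dvd_prime_pow p.2).mp (show (K p).relIndex D ∣ _ by
      have hDn : D ≤ Subgroup.normalizer (K p : Set G) := fun x hx =>
        Coprime.mem_normalizer_of_conj_smul_eq (mem_systemNormalizer.mp hx p)
      have e1 := Coprime.card_sup_mul_card_inf (N := K p) (H := D) hDn
      have e2 := Coprime.relIndex_mul_card (H := K p ⊓ D) (K := D) inf_le_right
      rw [Subgroup.inf_relIndex_right] at e2
      have e3 := Coprime.relIndex_mul_card (H := K p) (K := K p ⊔ D) le_sup_left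
      have e4 : (K p).relIndex D = (K p).relIndex (K p ⊔ D) := by
        refine Nat.eq_of_mul_eq_mul_right (Nat.mul_pos (Nat.card_pos (α := (K p ⊓ D : Subgroup G)))
          (Nat.card_pos (α := K p))) ?_
        calc (K p).relIndex D * (Nat.card (K p ⊓ D : Subgroup G) * Nat.card (K p))
            = (Nat.card (K p ⊓ D : Subgroup G) * (K p).relIndex D) * Nat.card (K p) := by ring
          _ = Nat.card (K p) * Nat.card D := by rw [e2, mul_comm]
          _ = Nat.card (K p ⊔ D : Subgroup G) * Nat.card (K p ⊓ D : Subgroup G) := e1.symm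
          _ = _ := by rw [← e3]; ring
      rw [e4, ← hK p]
      exact Dvd.intro _ (Subgroup.relIndex_mul_index le_sup_left))
    exact IsPGroup.of_card (n := j) hj
  let f : D →* ((p : Solvable.groupPrimes G) → D ⧸ (K p.1).subgroupOf D) :=
    MonoidHom.pi fun p => QuotientGroup.mk' _
  have hinj : Function.Injective f := by
    rw [← MonoidHom.ker_eq_bot_iff, eq_bot_iff]
    intro x hx
    have hmem : (x : G) ∈ (Solvable.groupPrimes G).inf K := by
      rw [Finset.inf_eq_iInf, Subgroup.mem_iInf]
      intro p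
      rw [Subgroup.mem_iInf]
      intro hp'
      exact (QuotientGroup.eq_one_iff x).mp (congrFun (MonoidHom.mem_ker.mp hx) ⟨p, hp'⟩)
    have hbot : (Solvable.groupPrimes G).inf K = (⊥ : Subgroup G) := by
      refine Subgroup.card_eq_one.mp ?_
      have := Solvable.card_finset_inf_of_isComplementSystem hK (Solvable.groupPrimes G)
      rw [Solvable.prod_groupPrimes] at this
      exact Nat.eq_of_mul_eq_mul_right Nat.card_pos (this.trans (one_mul _).symm)
    rw [hbot, Subgroup.mem_bot] at hmem
    exact Subgroup.mem_bot.mpr (Subtype.ext hmem)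
  haveI : ∀ p : Solvable.groupPrimes G, Group.IsNilpotent (D ⧸ (K p.1).subgroupOf D) := fun p =>
    haveI := Fact.mk p.1.2
    (hp p.1).isNilpotent
  exact Cores.isNilpotent_of_injective f hinj

/-- System normalizers map onto system normalizers. -/
theorem map_systemNormalizer [Group.IsSolvable G] {K : Nat.Primes → Subgroup G}
    (hK : Cfsg.IsComplementSystem K) (N : Subgroup G) [N.Normal] :
    Cfsg.systemNormalizer (fun p => (K p).map (QuotientGroup.mk' N)) =
      (Cfsg.systemNormalizer K).map (QuotientGroup.mk' N) := by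
  have hsurj := QuotientGroup.mk'_surjective N
  refine le_antisymm (fun q hq => ?_) ?_
  · obtain ⟨x, rfl⟩ := hsurj q
    have hrel : ∀ p, N ⊔ MulAut.conj x • K p = N ⊔ K p := by
      intro p
      have h1 := congrArg (Subgroup.comap (QuotientGroup.mk' N)) (mem_systemNormalizer.mp hq p)
      rw [Subgroup.comap_map_eq, QuotientGroup.ker_mk'] at h1
      refine le_antisymm (sup_le le_sup_left fun y hy => ?_) (sup_le le_sup_left fun y hy => ?_)
      · rw [sup_comm, ← h1, Subgroup.mem_comap, Coprime.mem_conj_smul]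
        rw [Coprime.mem_conj_smul] at hy
        exact ⟨_, hy, by simp⟩
      · have h2 : y ∈ K p ⊔ N := Subgroup.mem_sup_left hy
        rw [← h1, Subgroup.mem_comap, Coprime.mem_conj_smul] at h2
        obtain ⟨z, hz, hzy⟩ := h2
        have h3 : z⁻¹ * (x⁻¹ * y * x) ∈ N := by
          rw [← QuotientGroup.eq]
          simpa using hzy
        have h4 : x * z * x⁻¹ ∈ MulAut.conj x • K p := by
          rw [Coprime.mem_conj_smul]
          simpa [mul_assoc] using hz
        have h5 := mul_mem (Subgroup.mem_sup_right h4 : _ ∈ N ⊔ MulAut.conj x • K p)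
          (Subgroup.mem_sup_left ((inferInstance : N.Normal).conj_mem _ h3 x))
        simpa [mul_assoc] using h5
    obtain ⟨n, hn, hnK⟩ := exists_conj_rel (isComplementSystem_conj hK x) hK N hrel
    refine ⟨n * x, mem_systemNormalizer.mpr fun p => ?_, ?_⟩
    · rw [Coprime.conj_mul_smul]; exact hnK p
    · rw [map_mul, show QuotientGroup.mk' N n = 1 from (QuotientGroup.eq_one_iff n).mpr hn, one_mul]
  · rintro _ ⟨x, hx, rfl⟩
    refine mem_systemNormalizer.mpr fun p => Coprime.eq_of_le_of_card_le (fun y hy => ?_)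
      (by rw [Coprime.card_conj_smul])
    rw [Coprime.mem_conj_smul] at hy
    obtain ⟨z, hz, hzy⟩ := hy
    refine ⟨x * z * x⁻¹, ?_, by rw [map_mul, map_mul, hzy, map_inv]; group⟩
    rw [SetLike.mem_coe, ← mem_systemNormalizer.mp hx p, Coprime.mem_conj_smul]
    simpa [mul_assoc] using hz

/-- Elements centralizing the whole group normalize every system. -/
theorem center_le_systemNormalizer (K : Nat.Primes → Subgroup G) :
    Subgroup.center G ≤ Cfsg.systemNormalizer K := fun z hz => mem_systemNormalizer.mpr fun p =>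
  Coprime.conj_smul_eq_of_mem_normalizer (Subgroup.mem_normalizer_iff.mpr fun a => by
    rw [← Subgroup.mem_center_iff.mp hz a, mul_inv_cancel_right])

/-- An eccentric minimal normal subgroup meets the system normalizer trivially. -/
theorem inf_systemNormalizer_eq_bot [Group.IsSolvable G] {K : Nat.Primes → Subgroup G}
    (hK : Cfsg.IsComplementSystem K) (B : Subgroup G) [B.Normal]
    (hmin : ∀ N : Subgroup G, N.Normal → N ≤ B → N = ⊥ ∨ N = B) (hB : ¬ B ≤ Subgroup.center G) :
    B ⊓ Cfsg.systemNormalizer K = ⊥ := by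
  classical
  have hB0 : B ≠ ⊥ := fun e => hB (e ▸ bot_le)
  obtain ⟨p, P, hp, hPn, hP0, hPB, hPc, hPp, -⟩ :=
    Coprime.exists_normal_abelian_pgroup_le hB0 inferInstance
  obtain rfl : P = B := (hmin P hPn hPB).resolve_left hP0
  haveI := Fact.mk hp
  set p' : Nat.Primes := ⟨p, hp⟩
  set C := Subgroup.centralizer (P : Set G) with hC
  have hCtop : C ≠ ⊤ := fun e => hB fun b hb => Subgroup.mem_center_iff.mpr fun g =>
    (Subgroup.mem_centralizer_iff.mp (e.ge (Subgroup.mem_top g) : g ∈ C) b hb).symm
  haveI : Nontrivial (G ⧸ C) := QuotientGroup.nontrivial_iff.mpr hCtop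
  obtain ⟨q, hq, hQ⟩ := Products.exists_normal_pSubgroup (G := G ⧸ C) inferInstance
  haveI := Fact.mk hq
  set M := (Cfsg.pCore q (G ⧸ C)).comap (QuotientGroup.mk' C) with hM
  have hMn : M.Normal := by rw [hM]; infer_instance
  have hCM : C ≤ M := fun x hx => by
    show QuotientGroup.mk' C x ∈ Cfsg.pCore q (G ⧸ C)
    rw [show QuotientGroup.mk' C x = 1 from (QuotientGroup.eq_one_iff x).mpr hx]
    exact one_mem _
  have hMC : ¬ M ≤ C := fun hle => hQ (by
    rw [← Subgroup.map_comap_eq_self_of_surjective (QuotientGroup.mk'_surjective C) (Cfsg.pCore q (G ⧸ C)),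
      Subgroup.map_eq_bot_iff, QuotientGroup.ker_mk']
    exact hle)
  have hfix : ∀ x ∈ P, (∀ m ∈ M, m * x = x * m) → x = 1 := by
    intro x hx hxM
    have hn : (P ⊓ Subgroup.centralizer (M : Set G)).Normal := inferInstance
    rcases hmin _ hn inf_le_left with h | h
    · have : x ∈ P ⊓ Subgroup.centralizer (M : Set G) :=
        ⟨hx, Subgroup.mem_centralizer_iff.mpr fun m hm => hxM m hm⟩
      rwa [h, Subgroup.mem_bot] at this
    · exact absurd (Subgroup.le_centralizer_iff.mp (h.ge.trans inf_le_right)) hMC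
  -- `M` is `C` times a subgroup of any complement for a prime other than `q`
  have hsplit : ∀ H : Subgroup G, H.index.Coprime q → ∀ m ∈ M, ∃ h ∈ H ⊓ M, ∃ c ∈ C, m = h * c := by
    intro H hH m hm
    obtain ⟨k, hk⟩ := IsPGroup.iff_card.mp (Cores.pCore_isPGroup q (G ⧸ C))
    obtain ⟨⟨h, hhM⟩, hh, ⟨c, hcM⟩, hc, he⟩ := exists_mul_of_coprime_index (H.subgroupOf M) (C.subgroupOf M)
      (by
        haveI := hMn
        refine Nat.Coprime.coprime_dvd_left (relIndex_dvd_index M H) ?_
        have : (C.subgroupOf M).index = q ^ k := by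
          have h1 := Subgroup.card_mul_index (C.subgroupOf M)
          rw [Nat.card_congr (Subgroup.subgroupOfEquivOfLe hCM).toEquiv, Coprime.card_comap_mk', hk] at h1
          exact Nat.eq_of_mul_eq_mul_left Nat.card_pos h1
        rw [this]
        exact hH.pow_right k) ⟨m, hm⟩
    exact ⟨h, ⟨hh, hhM⟩, c, hc, congrArg Subtype.val he⟩
  have hqp : q ≠ p := by
    rintro rfl
    obtain ⟨R⟩ : Nonempty (Sylow q G) := inferInstance
    haveI := R.2.isNilpotent
    have hPR : P ≤ (R : Subgroup G) := IsPGroup.le_sylow_of_normal hPp R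
    obtain ⟨z, hz, hz1⟩ := (Subgroup.bot_or_exists_ne_one _).resolve_left
      (Solvable.inf_center_ne_bot (G := (R : Subgroup G)) (N := P.subgroupOf R)
        fun e => hP0 (by rw [← Subgroup.map_subgroupOf_eq_of_le hPR, e, Subgroup.map_bot]))
    refine hz1 (Subtype.ext (hfix z hz.1 fun m hm => ?_))
    obtain ⟨h, hh, c, hc, rfl⟩ := hsplit R ((Nat.Prime.coprime_iff_not_dvd hp).mpr R.not_dvd_index).symm m hm
    have e1 : h * z = z * h := congrArg Subtype.val (Subgroup.mem_center_iff.mp hz.2 ⟨h, hh.1⟩)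
    have e2 : (z : G) * c = c * z := Subgroup.mem_centralizer_iff.mp hc z hz.1
    rw [mul_assoc, ← e2, ← mul_assoc, e1, mul_assoc]
  rw [eq_bot_iff]
  intro x hx
  refine Subgroup.mem_bot.mpr (hfix x hx.1 fun m hm => ?_)
  obtain ⟨h, hh, c, hc, rfl⟩ := hsplit (K p') (by
    rw [hK p']
    exact Nat.Coprime.pow_left _ ((Nat.coprime_primes hp hq).mpr hqp.symm)) m hm
  have e1 : h * x = x * h := by
    have hxk : x * h * x⁻¹ * h⁻¹ ∈ P ⊓ K p' := by
      refine ⟨?_, mul_mem ?_ ((K p').inv_mem hh.1)⟩
      · have h1 : h * x⁻¹ * h⁻¹ ∈ P := hPn.conj_mem _ (inv_mem hx.1) h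
        have h2 := mul_mem hx.1 h1
        simpa [mul_assoc] using h2
      · show x * h * x⁻¹ ∈ K p'
        rw [← mem_systemNormalizer.mp hx.2 p', Coprime.mem_conj_smul]
        simpa [mul_assoc] using hh.1
    rw [inf_eq_bot_of_isPGroup hK p' hPp, Subgroup.mem_bot, mul_inv_eq_one, mul_inv_eq_iff_eq_mul] at hxk
    exact hxk.symm
  have e2 : x * c = c * x := Subgroup.mem_centralizer_iff.mp hc x hx.1
  rw [mul_assoc, ← e2, ← mul_assoc, e1, mul_assoc]

universe u

/-- The conjugates of a system normalizer generate. -/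
theorem normalClosure_systemNormalizer : ∀ (n : ℕ) (G : Type u) [Group G] [Finite G], Nat.card G = n →
    Group.IsSolvable G → ∀ (K : Nat.Primes → Subgroup G), Cfsg.IsComplementSystem K →
    Subgroup.normalClosure ((Cfsg.systemNormalizer K : Subgroup G) : Set G) = ⊤ := by
  intro n
  induction n using Nat.strongRecOn with
  | ind n ih =>
  intro G _ _ hn hs K hK
  rcases subsingleton_or_nontrivial G with h | h
  · exact Subsingleton.elim _ _
  obtain ⟨p, N, hp, hNn, hN0, hNc, hNp, -⟩ := Coprime.exists_normal_isPGroup_isMulCommutative G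
  haveI := hNn
  have hlt : Nat.card (G ⧸ N) < n := by
    rw [← hn, Subgroup.card_eq_card_quotient_mul_card_subgroup N]
    exact lt_mul_of_one_lt_right Nat.card_pos (N.one_lt_card_iff_ne_bot.mpr hN0)
  set D := Cfsg.systemNormalizer K with hD
  set R := Subgroup.normalClosure ((D : Subgroup G) : Set G) with hR
  have hRN : N ⊔ R = ⊤ := by
    have h1 := ih _ hlt (G ⧸ N) rfl inferInstance _ (isComplementSystem_map hK N)
    rw [map_systemNormalizer hK N] at h1
    have h2 : R.map (QuotientGroup.mk' N) = ⊤ := by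
      refine top_le_iff.mp (h1.ge.trans ?_)
      haveI : (R.map (QuotientGroup.mk' N)).Normal :=
        Subgroup.normalClosure_normal.map _ (QuotientGroup.mk'_surjective N)
      exact Subgroup.normalClosure_le_normal (Subgroup.map_mono Subgroup.le_normalClosure)
    have h3 := congrArg (Subgroup.comap (QuotientGroup.mk' N)) h2
    rw [Subgroup.comap_map_eq, QuotientGroup.ker_mk', Subgroup.comap_top, sup_comm] at h3
    exact h3
  -- a minimal normal subgroup inside `N` avoiding `R` would be central
  set W := N ⊓ R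
  by_contra hne
  have hW : W ≠ N := fun e => hne (top_le_iff.mp (hRN.ge.trans (sup_le (e.ge.trans inf_le_right) le_rfl)))
  haveI : W.Normal := inferInstance
  let π := QuotientGroup.mk' W
  have hcomm : ∀ a ∈ N, ∀ g : G, a * g * a⁻¹ * g⁻¹ ∈ W := by
    intro a ha g
    obtain ⟨b, hb, r, hr, rfl⟩ := Subgroup.mem_sup_of_normal_left.mp
      (show g ∈ N ⊔ R by rw [hRN]; trivial)
    have hab : a * b = b * a := congrArg Subtype.val (hNc.is_comm.comm ⟨a, ha⟩ ⟨b, hb⟩)
    have h1 : a * r * a⁻¹ * r⁻¹ ∈ W := by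
      refine ⟨?_, mul_mem (Subgroup.normalClosure_normal.conj_mem r hr a) (R.inv_mem hr)⟩
      simpa [mul_assoc] using mul_mem ha (hNn.conj_mem _ (inv_mem ha) r)
    have h2 : a * (b * r) * a⁻¹ * (b * r)⁻¹ = b * (a * r * a⁻¹ * r⁻¹) * b⁻¹ := by
      rw [← mul_assoc a b r, hab]; group
    rw [h2]
    exact (inferInstance : W.Normal).conj_mem _ h1 b
  have hNcen : N.map π ≤ Subgroup.center (G ⧸ W) := by
    rintro _ ⟨a, ha, rfl⟩
    refine Subgroup.mem_center_iff.mpr fun q => ?_
    obtain ⟨g, rfl⟩ := QuotientGroup.mk'_surjective W q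
    have h1 : π (a * g * a⁻¹ * g⁻¹) = 1 := (QuotientGroup.eq_one_iff _).mpr (hcomm a ha g)
    rw [map_mul, map_mul, map_mul, map_inv, map_inv, mul_inv_eq_one, mul_inv_eq_iff_eq_mul] at h1
    exact h1.symm
  have hND : N ≤ W ⊔ D := by
    intro a ha
    have h1 : π a ∈ D.map π := by
      rw [← map_systemNormalizer hK W]
      exact center_le_systemNormalizer _ (hNcen ⟨a, ha, rfl⟩)
    rw [← Subgroup.mem_comap, Subgroup.comap_map_eq, QuotientGroup.ker_mk', sup_comm] at h1
    exact h1
  exact hW (le_antisymm inf_le_left (le_inf le_rfl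
    (hND.trans (sup_le inf_le_right Subgroup.le_normalClosure))))

end Cfsg.Agent.Lib.Solvable.SystemNormalizer
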