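import Cfsg.Agent.Lib.Coprime.Basic
import Cfsg.Agent.Lib.Cores
import Cfsg.Agent.Lib.Subnormal.Join

/-!
Wielandt's zipper lemma and the subnormality criterion.
-/

set_option autoImplicit false

open Pointwise

universe u

namespace Cfsg.Agent.Lib.Solvable.Zipper

open Cfsg.Agent.Lib

variable {G : Type u} [Group G]

/-- A subnormal subgroup that is not normal is normalized by one of its other conjugates. -/
theorem exists_conj_le_normalizer {J : Subgroup G} (hJ : J.IsSubnormal) (hn : ¬ J.Normal) :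
    ∃ g : G, MulAut.conj g • J ≠ J ∧ MulAut.conj g • J ≤ Subgroup.normalizer (J : Set G) := by
  suffices ∀ H : Subgroup G, H.IsSubnormal → J ≤ H → H ≤ Subgroup.normalizer (J : Set G) →
      ∃ g : G, MulAut.conj g • J ≠ J ∧ MulAut.conj g • J ≤ Subgroup.normalizer (J : Set G) from
    this J hJ le_rfl Subgroup.le_normalizer
  intro H hH
  induction hH with
  | top => exact fun _ h => absurd (Subgroup.normalizer_eq_top_iff.mp (top_le_iff.mp h)) hn
  | step H K h_le _ hN ih =>
    intro hJH hHJ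
    by_cases hK : K ≤ Subgroup.normalizer (J : Set G)
    · exact ih (hJH.trans h_le) hK
    · obtain ⟨g, hg, hgJ⟩ := Set.not_subset.mp hK
      refine ⟨g, fun h => hgJ (Coprime.mem_normalizer_of_conj_smul_eq h), ?_⟩
      refine le_trans ?_ hHJ
      rw [← Coprime.conj_smul_eq_of_mem_normalizer
        ((Subgroup.normal_subgroupOf_iff_le_normalizer h_le).mp hN hg)]
      exact Subgroup.pointwise_smul_le_pointwise_smul_iff.mpr hJH

/-- Some member outside a proper subfamily normalizes the join of the subfamily. -/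
theorem exists_normalizing [Finite G] (S S₀ : Set (Subgroup G)) (hS : ∀ U ∈ S, U.IsSubnormal)
    (hconj : ∀ U ∈ S, ∀ g : G, MulAut.conj g • U ∈ S) (h₀ : S₀ ⊂ S) :
    ∃ X ∈ S, X ∉ S₀ ∧ X ≤ Subgroup.normalizer ((sSup S₀ : Subgroup G) : Set G) := by
  have hJ : (sSup S₀ : Subgroup G).IsSubnormal :=
    Subnormal.isSubnormal_sSup fun A hA => hS A (h₀.subset hA)
  by_cases hn : (sSup S₀ : Subgroup G).Normal
  · obtain ⟨X, hX, hX0⟩ := Set.exists_of_ssubset h₀
    exact ⟨X, hX, hX0, by rw [Subgroup.normalizer_eq_top_iff.mpr hn]; exact le_top⟩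
  · obtain ⟨g, hg, hgN⟩ := exists_conj_le_normalizer hJ hn
    by_contra hno
    push Not at hno
    refine hg (Coprime.eq_of_le_of_card_le ?_ (Coprime.card_conj_smul g _).ge)
    intro x hx
    rw [Coprime.mem_conj_smul] at hx
    have hle : (sSup S₀ : Subgroup G) ≤ MulAut.conj g⁻¹ • (sSup S₀ : Subgroup G) := by
      refine sSup_le fun U hU => ?_
      have hUg : MulAut.conj g • U ∈ S₀ := by
        by_contra hnot
        exact hno _ (hconj U (h₀.subset hU) g) hnot
          ((Subgroup.pointwise_smul_le_pointwise_smul_iff.mpr (le_sSup hU)).trans hgN)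
      rw [map_inv, ← Subgroup.pointwise_smul_subset_iff]
      exact le_sSup hUg
    have h1 := hle hx
    rw [Coprime.mem_conj_smul] at h1
    simpa [mul_assoc] using h1

/-- The same, for families subnormal in a subgroup `W`. -/
theorem exists_normalizing_in [Finite G] (W : Subgroup G) (S S₀ : Set (Subgroup G))
    (hle : ∀ U ∈ S, U ≤ W) (hS : ∀ U ∈ S, (U.subgroupOf W).IsSubnormal)
    (hconj : ∀ U ∈ S, ∀ g ∈ W, MulAut.conj g • U ∈ S) (h₀ : S₀ ⊂ S) :
    ∃ X ∈ S, X ∉ S₀ ∧ X ≤ Subgroup.normalizer ((sSup S₀ : Subgroup G) : Set G) := by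
  have hmap : ∀ U ∈ S, (U.subgroupOf W).map W.subtype = U := fun U hU =>
    Subgroup.map_subgroupOf_eq_of_le (hle U hU)
  have hconj' : ∀ U ∈ S, ∀ g : W, MulAut.conj g • U.subgroupOf W =
      (MulAut.conj (g : G) • U).subgroupOf W := by
    intro U hU g
    ext x
    simp only [Coprime.mem_conj_smul, Subgroup.mem_subgroupOf]
    simp
  obtain ⟨X, ⟨U, hU, rfl⟩, hX0, hXN⟩ := exists_normalizing
    ((fun U : Subgroup G => U.subgroupOf W) '' S) ((fun U : Subgroup G => U.subgroupOf W) '' S₀)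
    (by rintro _ ⟨U, hU, rfl⟩; exact hS U hU)
    (by rintro _ ⟨U, hU, rfl⟩ g; exact ⟨_, hconj U hU g g.2, (hconj' U hU g).symm⟩)
    ⟨Set.image_mono h₀.subset, fun h => by
      obtain ⟨X, hX, hX0⟩ := Set.exists_of_ssubset h₀
      obtain ⟨Y, hY, hXY⟩ := h ⟨X, hX, rfl⟩
      have := congrArg (Subgroup.map W.subtype) hXY
      simp only at this
      rw [hmap Y (h₀.subset hY), hmap X hX] at this
      exact hX0 (this ▸ hY)⟩
  refine ⟨U, hU, fun h => hX0 ⟨U, h, rfl⟩, ?_⟩
  have heq : (sSup ((fun U : Subgroup G => U.subgroupOf W) '' S₀)).map W.subtype = sSup S₀ := by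
    rw [sSup_image, Subgroup.map_iSup, sSup_eq_iSup]
    refine iSup_congr fun Y => ?_
    rw [Subgroup.map_iSup]
    exact iSup_congr fun hY => hmap Y (h₀.subset hY)
  have h1 := Subgroup.map_mono (f := W.subtype) hXN
  rw [hmap U hU] at h1
  rw [← heq]
  exact h1.trans (Subgroup.le_normalizer_map _)

/-- The zipper lemma. -/
theorem exists_greatest [Finite G] (A : Subgroup G) (U : Set (Subgroup G)) (hU : U.Nonempty)
    (S : Subgroup G → Set (Subgroup G))
    (hS : ∀ V B : Subgroup G, B ∈ S V ↔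
      (∃ g : G, B = MulAut.conj g • A) ∧ B ≤ V ∧ (B.subgroupOf V).IsSubnormal)
    (h1 : ∀ V ∈ U, A ∈ S V) (h2 : ∀ V ∈ U, ∀ W ∈ U, ∀ B ∈ S W, B ≤ V → B ∈ S V)
    (h3 : ∀ V ∈ U, ∀ W ∈ U, ∃ X ∈ U,
      Subgroup.normalizer ((sSup (S V ∩ S W) : Subgroup G) : Set G) ≤ X) :
    ∃ M ∈ U, ∀ V ∈ U, V ≤ M := by
  have hge : ∀ V ∈ U, ∃ M, Maximal (· ∈ U) M ∧ V ≤ M := fun V hV => by
    obtain ⟨M, hVM, hM⟩ := (Set.toFinite U).exists_le_maximal hV
    exact ⟨M, hM, hVM⟩
  obtain ⟨V₀, hV₀⟩ := hU
  obtain ⟨M, hM, -⟩ := hge V₀ hV₀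
  refine ⟨M, hM.1, fun V hV => ?_⟩
  obtain ⟨M', hM', hVM'⟩ := hge V hV
  suffices h : M' = M from h ▸ hVM'
  by_contra hne
  -- a pair of distinct maximal elements with largest common part
  obtain ⟨⟨P, Q⟩, ⟨hP, hQ, hPQ⟩, hbig⟩ := Set.exists_max_image
    {x : Subgroup G × Subgroup G | Maximal (· ∈ U) x.1 ∧ Maximal (· ∈ U) x.2 ∧ x.1 ≠ x.2}
    (fun x => (S x.1 ∩ S x.2).ncard) (Set.toFinite _) ⟨(M', M), hM', hM, hne⟩
  simp only at hbig
  set T := S P ∩ S Q with hT
  obtain ⟨X₀, hX₀U, hX₀⟩ := h3 P hP.1 Q hQ.1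
  obtain ⟨X, hX, hX₀X⟩ := hge X₀ hX₀U
  have hNX : Subgroup.normalizer ((sSup T : Subgroup G) : Set G) ≤ X := hX₀.trans hX₀X
  have hTX : ∀ B ∈ T, B ∈ S X := fun B hB =>
    h2 X hX.1 P hP.1 B hB.1 ((le_sSup hB).trans (Subgroup.le_normalizer.trans hNX))
  have key : ∀ W, Maximal (· ∈ U) W → T ⊆ S W → W ≠ X → False := by
    intro W hW hTW hWX
    by_cases hTeq : T = S W
    · refine hWX (hW.eq_of_le hX.1 ?_)
      refine le_trans (fun w hw => ?_) hNX
      refine Coprime.mem_normalizer_of_conj_smul_eq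
        (Coprime.eq_of_le_of_card_le ?_ (Coprime.card_conj_smul w _).ge)
      rw [Subgroup.pointwise_smul_subset_iff, hTeq]
      refine sSup_le fun B hB => ?_
      rw [← Subgroup.pointwise_smul_subset_iff]
      refine le_sSup ?_
      obtain ⟨⟨g, hg⟩, hBW, hBs⟩ := (hS W B).mp hB
      refine (hS W _).mpr ⟨⟨w * g, by rw [hg, Coprime.conj_mul_smul]⟩, ?_, ?_⟩
      · intro x hx
        rw [Coprime.mem_conj_smul] at hx
        have := mul_mem (mul_mem hw (hBW hx)) (inv_mem hw)
        simpa [mul_assoc] using this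
      · have := hBs.smul (MulAut.conj (⟨w, hw⟩ : W))
        convert this using 1
        ext x
        simp only [Coprime.mem_conj_smul, Subgroup.mem_subgroupOf]
        simp
    · obtain ⟨B, hB, hBT, hBN⟩ := exists_normalizing_in W (S W) T
        (fun B hB => ((hS W B).mp hB).2.1) (fun B hB => ((hS W B).mp hB).2.2)
        (fun B hB w hw => by
          obtain ⟨⟨g, hg⟩, hBW, hBs⟩ := (hS W B).mp hB
          refine (hS W _).mpr ⟨⟨w * g, by rw [hg, Coprime.conj_mul_smul]⟩, ?_, ?_⟩
          · intro x hx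
            rw [Coprime.mem_conj_smul] at hx
            have := mul_mem (mul_mem hw (hBW hx)) (inv_mem hw)
            simpa [mul_assoc] using this
          · have := hBs.smul (MulAut.conj (⟨w, hw⟩ : W))
            convert this using 1
            ext x
            simp only [Coprime.mem_conj_smul, Subgroup.mem_subgroupOf]
            simp)
        (hTW.ssubset_of_ne hTeq)
      have hBX : B ∈ S X := h2 X hX.1 W hW.1 B hB (hBN.trans hNX)
      have hlt : T.ncard < (S W ∩ S X).ncard := Set.ncard_lt_ncard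
        ⟨fun C hC => ⟨hTW hC, hTX C hC⟩, fun h => hBT (h ⟨hB, hBX⟩)⟩ (Set.toFinite _)
      exact hlt.not_ge (hbig (W, X) ⟨hW, hX, hWX⟩)
  rcases eq_or_ne P X with h | h
  · exact key Q hQ Set.inter_subset_right (fun e => hPQ (h.trans e.symm))
  · exact key P hP Set.inter_subset_left h

/-- Wielandt's subnormality criterion. -/
theorem isSubnormal_criterion_aux : ∀ (n : ℕ) (G : Type u) [Group G] [Finite G], Nat.card G = n →
    ∀ A : Subgroup G, (∀ g : G, (A.subgroupOf (A ⊔ MulAut.conj g • A)).IsSubnormal) →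
    A.IsSubnormal := by
  intro n
  induction n using Nat.strongRecOn with
  | ind n IH =>
  intro G _ _ hn A h
  by_contra hA
  have hAtop : A ≠ ⊤ := fun e => hA (e ▸ Subgroup.IsSubnormal.top)
  -- conjugates of `A` are subnormal in every proper subgroup containing them
  have hloc : ∀ (g : G) (V : Subgroup G), V ≠ ⊤ → MulAut.conj g • A ≤ V →
      ((MulAut.conj g • A).subgroupOf V).IsSubnormal := by
    intro g V hV hgV
    have hlt : Nat.card V < n := by
      rw [← hn]
      exact lt_of_le_of_ne (Subgroup.card_le_card_group V) fun e =>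
        hV (Subgroup.eq_top_of_card_eq V e)
    refine IH _ hlt V rfl _ fun x => ?_
    -- transport the hypothesis
    set B := MulAut.conj g • A with hB
    set D := (MulAut.conj (x : G) • B) with hD
    have hDV : D ≤ V := by
      intro y hy
      rw [hD, Coprime.mem_conj_smul] at hy
      have := mul_mem (mul_mem x.2 (hgV hy)) (inv_mem x.2)
      simpa [mul_assoc] using this
    have hsup : MulAut.conj g • (A ⊔ MulAut.conj (g⁻¹ * x * g) • A) = B ⊔ D := by
      rw [Subgroup.smul_sup, ← Coprime.conj_mul_smul, hD, hB, ← Coprime.conj_mul_smul]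
      congr 3
      group
    let e : ↥(A ⊔ MulAut.conj (g⁻¹ * x * g) • A) ≃* ↥(B ⊔ D) :=
      (Subgroup.equivSMul (MulAut.conj g) _).trans (MulEquiv.subgroupCongr hsup)
    have h1 : (B.subgroupOf (B ⊔ D)).IsSubnormal := by
      have h2 := (h (g⁻¹ * x * g)).map (f := e.toMonoidHom) e.surjective
      convert h2 using 1
      ext y
      simp only [Subgroup.mem_subgroupOf, Subgroup.mem_map_equiv, hB, Coprime.mem_conj_smul]
      rfl
    have hBDV : B ⊔ D ≤ V := sup_le hgV hDV
    have h3 := h1.comap ((MulEquiv.subgroupCongr (show B.subgroupOf V ⊔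
        MulAut.conj x • B.subgroupOf V = (B ⊔ D).subgroupOf V by
      rw [Subgroup.subgroupOf_sup hgV hDV]
      congr 1
      ext y
      simp only [Coprime.mem_conj_smul, Subgroup.mem_subgroupOf, hD]
      simp)).trans (Subgroup.subgroupOfEquivOfLe hBDV)).toMonoidHom
    convert h3 using 1
    ext y
    rfl
  -- the zipper
  obtain ⟨M, ⟨hAM, hM⟩, hgreat⟩ := exists_greatest A {V : Subgroup G | A ≤ V ∧ V ≠ ⊤}
    ⟨A, le_rfl, hAtop⟩
    (fun V => {B | (∃ g : G, B = MulAut.conj g • A) ∧ B ≤ V ∧ (B.subgroupOf V).IsSubnormal})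
    (fun V B => Iff.rfl)
    (fun V hV => ⟨⟨1, (Coprime.conj_one_smul A).symm⟩, hV.1, by
      simpa [Coprime.conj_one_smul] using hloc 1 V hV.2 (by rw [Coprime.conj_one_smul]; exact hV.1)⟩)
    (fun V hV W _ B hB hBV => by
      obtain ⟨⟨g, rfl⟩, -, -⟩ := hB
      exact ⟨⟨g, rfl⟩, hBV, hloc g V hV.2 hBV⟩)
    (fun V hV W hW => by
      refine ⟨_, ⟨le_trans ?_ Subgroup.le_normalizer, fun htop => hA ?_⟩, le_rfl⟩
      · refine le_sSup ⟨⟨⟨1, (Coprime.conj_one_smul A).symm⟩, hV.1, ?_⟩,
          ⟨1, (Coprime.conj_one_smul A).symm⟩, hW.1, ?_⟩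
        · simpa [Coprime.conj_one_smul] using
            hloc 1 V hV.2 (by rw [Coprime.conj_one_smul]; exact hV.1)
        · simpa [Coprime.conj_one_smul] using
            hloc 1 W hW.2 (by rw [Coprime.conj_one_smul]; exact hW.1)
      · set J := sSup ({B : Subgroup G | (∃ g : G, B = MulAut.conj g • A) ∧ B ≤ V ∧
          (B.subgroupOf V).IsSubnormal} ∩ {B | (∃ g : G, B = MulAut.conj g • A) ∧ B ≤ W ∧
          (B.subgroupOf W).IsSubnormal}) with hJ
        have hJn : J.Normal := Subgroup.normalizer_eq_top_iff.mp htop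
        have hAJ : A ≤ J := by
          refine le_sSup ⟨⟨⟨1, (Coprime.conj_one_smul A).symm⟩, hV.1, ?_⟩,
            ⟨1, (Coprime.conj_one_smul A).symm⟩, hW.1, ?_⟩
          · simpa [Coprime.conj_one_smul] using
              hloc 1 V hV.2 (by rw [Coprime.conj_one_smul]; exact hV.1)
          · simpa [Coprime.conj_one_smul] using
              hloc 1 W hW.2 (by rw [Coprime.conj_one_smul]; exact hW.1)
        have hJtop : J ≠ ⊤ := fun e => hV.2 (top_le_iff.mp (e ▸ sSup_le fun B hB => hB.1.2.1))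
        exact Subgroup.IsSubnormal.trans hAJ (by
          simpa [Coprime.conj_one_smul] using
            hloc 1 J hJtop (by rw [Coprime.conj_one_smul]; exact hAJ)) hJn.isSubnormal)
  have hall : ∀ g : G, MulAut.conj g • A ≤ M := by
    intro g
    by_cases htop : A ⊔ MulAut.conj g • A = ⊤
    · refine absurd ?_ hA
      exact Subgroup.IsSubnormal.trans le_sup_left (h g) (htop ▸ Subgroup.IsSubnormal.top)
    · exact le_sup_right.trans (hgreat _ ⟨le_sup_left, htop⟩)
  set N := Subgroup.normalClosure (A : Set G)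
  have hNM : N ≤ M.normalCore := Subgroup.normalClosure_le_normal fun a ha g => by
    have := hall g (Subgroup.smul_mem_pointwise_smul a (MulAut.conj g) A ha)
    simpa using this
  have hNtop : N ≠ ⊤ := fun e => hM (top_le_iff.mp (e ▸ hNM.trans (Subgroup.normalCore_le M)))
  exact hA (Subgroup.IsSubnormal.trans Subgroup.le_normalClosure (by
    simpa [Coprime.conj_one_smul] using
      hloc 1 N hNtop (by rw [Coprime.conj_one_smul]; exact Subgroup.le_normalClosure))
    Subgroup.normalClosure_normal.isSubnormal)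

theorem isSubnormal_criterion [Finite G] (A : Subgroup G)
    (h : ∀ g : G, (A.subgroupOf (A ⊔ MulAut.conj g • A)).IsSubnormal) : A.IsSubnormal :=
  isSubnormal_criterion_aux _ G rfl A h

/-- A Sylow subgroup meets a subnormal subgroup in a Sylow subgroup. -/
theorem not_dvd_relIndex_inf [Finite G] {p : ℕ} [Fact p.Prime] (S : Sylow p G) {H : Subgroup G}
    (hH : H.IsSubnormal) : ¬ p ∣ ((S : Subgroup G) ⊓ H).relIndex H := by
  induction hH with
  | top => rw [inf_top_eq, Subgroup.relIndex_top_right]; exact S.not_dvd_index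
  | step H K h_le _ hN ih =>
    intro hd
    apply ih
    refine hd.trans ?_
    set P := (S : Subgroup G) ⊓ K
    have hPH : P ⊓ H = (S : Subgroup G) ⊓ H := by
      rw [inf_assoc, inf_eq_right.mpr h_le]
    have hsupK : H ⊔ P ≤ K := sup_le h_le inf_le_right
    have hn : P ≤ Subgroup.normalizer (H : Set G) :=
      inf_le_right.trans ((Subgroup.normal_subgroupOf_iff_le_normalizer h_le).mp hN)
    have h1 := Coprime.card_sup_mul_card_inf (N := H) (H := P) hn
    have e1 := Coprime.relIndex_mul_card (inf_le_right : (S : Subgroup G) ⊓ H ≤ H)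
    have e2 := Coprime.relIndex_mul_card (le_sup_right : P ≤ H ⊔ P)
    rw [inf_comm, hPH, ← e2, ← e1] at h1
    have h2 : P.relIndex (H ⊔ P) = ((S : Subgroup G) ⊓ H).relIndex H := by
      have hpos : 0 < Nat.card P * Nat.card ((S : Subgroup G) ⊓ H : Subgroup G) :=
        Nat.mul_pos Nat.card_pos Nat.card_pos
      refine Nat.eq_of_mul_eq_mul_right hpos ?_
      linarith
    rw [← h2, ← Subgroup.relIndex_mul_relIndex P (H ⊔ P) K le_sup_right hsupK]
    exact Dvd.intro _ rfl

end Cfsg.Agent.Lib.Solvable.Zipper
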